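import Cfsg.Agent.AltLift.Checker

/-! Certificate data (DataC1). -/

set_option autoImplicit false
set_option maxHeartbeats 4000000
set_option maxRecDepth 10000

namespace CfsgLib.AltLift.DataC1

def tab : Table := .node 12 (.node 6 (.node 3 (.node 1 (.leaf 654820258320 0 0) (.node 1 (.leaf 654820000545 0 0) (.leaf 384523579920 2 0))) (.node 1 (.leaf 654820049970 0 1) (.node 1 (.leaf 384523322145 2 1) (.leaf 436349448720 2 2)))) (.node 3 (.node 1 (.leaf 654820118595 0 3) (.node 1 (.leaf 384523371570 2 3) (.leaf 436349190945 2 4))) (.node 1 (.leaf 508307976720 2 5) (.node 1 (.leaf 654820188420 0 6) (.leaf 384523440195 2 6))))) (.node 6 (.node 3 (.node 1 (.leaf 436349240370 2 7) (.node 1 (.leaf 508307718945 2 8) (.leaf 581524795920 2 9))) (.node 1 (.leaf 384523510020 2 10) (.node 1 (.leaf 436349308995 2 11) (.leaf 508307768370 2 12)))) (.node 3 (.node 1 (.leaf 581524538145 2 13) (.node 1 (.leaf 436349378820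 2 15) (.leaf 508307836995 2 16))) (.node 2 (.node 1 (.leaf 581524587570 2 17) (.leaf 508307906820 2 19)) (.node 1 (.leaf 581524656195 2 20) (.leaf 581524726020 2 22)))))

def rtabaa : Table := .node 18 (.node 9 (.node 4 (.node 2 (.node 1 (.leaf 654820258320 0 0) (.leaf 654820254465 0 0)) (.node 1 (.leaf 654820257825 1 0) (.leaf 590144090640 2 0))) (.node 2 (.node 1 (.leaf 646515536400 3 0) (.leaf 654820246290 1 1)) (.node 1 (.leaf 590144086785 2 1) (.node 1 (.leaf 646515532545 3 1) (.leaf 654820254000 0 2))))) (.node 4 (.node 2 (.node 1 (.leaf 654820258050 1 2) (.leaf 590144090145 2 2)) (.node 1 (.leaf 646515535905 3 2) (.leaf 452990349840 3 3))) (.node 2 (.node 1 (.leaf 582342685200 2 4) (.leaf 650290410000 3 4)) (.node 1 (.leaf 654820250115 0 5) (.node 1 (.leaf 654820250400 1 5) (.leaf 590144078610 2 5)))))) (.node 9 (.node 4 (.node 2 (.node 1 (.leaf 646515524370 3 5) (.leaf 452990345985 3 6)) (.node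 1 (.leaf 582342681345 2 7) (.leaf 650290406145 3 7))) (.node 2 (.node 1 (.leaf 654820246065 1 8) (.leaf 590144086320 2 8)) (.node 1 (.leaf 646515532080 3 8) (.node 1 (.leaf 654820253715 0 9) (.leaf 590144090370 2 9))))) (.node 4 (.node 2 (.node 1 (.leaf 646515536130 3 9) (.leaf 452990349345 3 10)) (.node 1 (.leaf 582342684705 2 11) (.leaf 650290409505 3 11))) (.node 2 (.node 1 (.leaf 517163201040 2 12) (.leaf 521944707600 3 12)) (.node 1 (.leaf 449215476240 3 13) (.node 1 (.leaf 577561178640 2 14) (.leaf 590144082435 2 15))))))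

def rtabab : Table := .node 18 (.node 9 (.node 4 (.node 2 (.node 1 (.leaf 646515528195 3 15) (.leaf 590144082720 2 16)) (.node 1 (.leaf 646515528480 3 16) (.leaf 452990337810 3 17))) (.node 2 (.node 1 (.leaf 582342673170 2 18) (.leaf 650290397970 3 18)) (.node 1 (.leaf 517163197185 2 19) (.node 1 (.leaf 521944703745 3 19) (.leaf 449215472385 3 20))))) (.node 4 (.node 2 (.node 1 (.leaf 577561174785 2 21) (.leaf 654820249650 1 22)) (.node 1 (.leaf 590144078385 2 22) (.leaf 646515524145 3 22))) (.node 2 (.node 1 (.leaf 452990345520 3 23) (.leaf 582342680880 2 24)) (.node 1 (.leaf 650290405680 3 24) (.node 1 (.leaf 654820245795 1 25) (.leaf 590144086035 2 25)))))) (.node 9 (.node 4 (.node 2 (.node 1 (.leaf 646515531795 3 25) (.leaf 452990349570 3 26)) (.node 1 (.leaf 582342684930 2 27) (.leaf 650290409730 3 27))) (.node 2 (.node 1 (.leaf 517163200545 2 28) (.leaf 521944707105 3 28)) (.node 1 (.leaf 449215475745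 3 29) (.node 1 (.leaf 577561178145 2 30) (.leaf 509361795600 3 33))))) (.node 4 (.node 2 (.node 1 (.leaf 444685627920 3 34) (.leaf 452990341635 3 35)) (.node 1 (.leaf 582342676995 2 36) (.leaf 650290401795 3 36))) (.node 2 (.node 1 (.leaf 452990341920 3 37) (.leaf 582342677280 2 38)) (.node 1 (.leaf 650290402080 3 38) (.node 1 (.leaf 517163189010 2 39) (.leaf 521944695570 3 39))))))

def rtaba : Table := .node 36 rtabaa rtabab

def rtabba : Table := .node 18 (.node 9 (.node 4 (.node 2 (.node 1 (.leaf 449215464210 3 40) (.leaf 577561166610 2 41)) (.node 1 (.leaf 509361791745 3 44) (.leaf 444685624065 3 45))) (.node 2 (.node 1 (.leaf 590144081970 2 46) (.leaf 646515527730 3 46)) (.node 1 (.leaf 452990337585 3 47) (.node 1 (.leaf 582342672945 2 48) (.leaf 650290397745 3 48))))) (.node 4 (.node 2 (.node 1 (.leaf 517163196720 2 49) (.leaf 521944703280 3 49)) (.node 1 (.leaf 449215471920 3 50) (.leaf 577561174320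 2 51))) (.node 2 (.node 1 (.leaf 590144078115 2 52) (.leaf 646515523875 3 52)) (.node 1 (.leaf 452990345235 3 53) (.node 1 (.leaf 582342680595 2 54) (.leaf 650290405395 3 54)))))) (.node 9 (.node 4 (.node 2 (.node 1 (.leaf 517163200770 2 55) (.leaf 521944707330 3 55)) (.node 1 (.leaf 449215475970 3 56) (.leaf 577561178370 2 57))) (.node 2 (.node 1 (.leaf 509361795105 3 60) (.leaf 444685627425 3 61)) (.node 1 (.leaf 517163192835 2 64) (.node 1 (.leaf 521944699395 3 64) (.leaf 449215468035 3 65))))) (.node 4 (.node 2 (.node 1 (.leaf 577561170435 2 66) (.leaf 517163193120 2 67)) (.node 1 (.leaf 521944699680 3 67) (.leaf 449215468320 3 68))) (.node 2 (.node 1 (.leaf 577561170720 2 69) (.leaf 509361783570 3 72)) (.node 1 (.leaf 444685615890 3 73) (.node 1 (.leaf 452990341170 3 76) (.leaf 582342676530 2 77))))))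

def rtabbb : Table := .node 18 (.node 9 (.node 4 (.node 2 (.node 1 (.leaf 650290401330 3 77) (.leaf 517163188785 2 78)) (.node 1 (.leaf 521944695345 3 78) (.leaf 449215463985 3 79))) (.node 2 (.node 1 (.leaf 577561166385 2 80) (.leaf 509361791280 3 83)) (.node 1 (.leaf 444685623600 3 84) (.node 1 (.leaf 452990337315 3 85) (.leaf 582342672675 2 86))))) (.node 4 (.node 2 (.node 1 (.leaf 650290397475 3 86) (.leaf 517163196435 2 87)) (.node 1 (.leaf 521944702995 3 87) (.leaf 449215471635 3 88))) (.node 2 (.node 1 (.leaf 577561174035 2 89) (.leaf 509361795330 3 92)) (.node 1 (.leaf 444685627650 3 93) (.node 1 (.leaf 509361787395 3 98) (.leaf 444685619715 3 99)))))) (.node 9 (.node 4 (.node 2 (.node 1 (.leaf 509361787680 3 102) (.leaf 444685620000 3 103)) (.node 1 (.leaf 517163192370 2 106) (.leaf 521944698930 3 106))) (.node 2 (.node 1 (.leaf 449215467570 3 107) (.leaf 577561169970 2 108)) (.node 1 (.leaf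 509361783345 3 111) (.node 1 (.leaf 444685615665 3 112) (.leaf 517163188515 2 115))))) (.node 4 (.node 2 (.node 1 (.leaf 521944695075 3 115) (.leaf 449215463715 3 116)) (.node 1 (.leaf 577561166115 2 117) (.leaf 509361790995 3 120))) (.node 2 (.node 1 (.leaf 444685623315 3 121) (.leaf 509361786930 3 130)) (.node 1 (.leaf 444685619250 3 131) (.node 1 (.leaf 509361783075 3 136) (.leaf 444685615395 3 137))))))

def rtabb : Table := .node 36 rtabba rtabbb

def rtab : Table := .node 72 rtaba rtabb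

def l0 : Line := .forb 1 654820181025 654820131075 [(1, 3), (1, 5), (1, 11), (1, 13), (1, 24)] [⟨[(11, 22), (13, 5), (5, 1), (24, 15), (3, 25)], []⟩, ⟨[(11, 20), (3, 124), (5, 89), (13, 110), (24, 18)], []⟩]

def l1 : Line := .forb 1 654819988260 654819991860 [(1, 0), (1, 11), (1, 17), (1, 18), (1, 19)] [⟨[(11, 2), (19, 46), (18, 9), (0, 8), (17, 16)], []⟩, ⟨[(11, 107), (19, 51), (17, 59), (18, 38), (0, 122)], []⟩]

def l2 : Line := .forb 0 654820258320 654820258320 [(1, 9), (1, 13), (1, 17), (1, 20), (1, 22)] [⟨[(13, 0), (17, 0), (20, 0), (22, 0), (9, 0)], []⟩, ⟨[(9, 2), (17, 8), (20, 9), (13, 46), (22, 16)], []⟩]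

def l3 : Line := .forb 1 654820000545 654820188420 [(1, 3), (1, 9), (1, 11), (1, 18), (1, 19)] [⟨[(11, 0), (18, 0), (19, 0), (3, 0), (9, 0)], []⟩, ⟨[(11, 50), (9, 101), (19, 57), (18, 11), (3, 140)], []⟩]

def l4 : Line := .forb 1 654820119600 654820119600 [(1, 1), (1, 5), (1, 15), (1, 17), (1, 23)] [⟨[(15, 25), (17, 1), (5, 22), (23, 5), (1, 15)], []⟩, ⟨[(15, 107), (1, 122), (5, 51), (17, 101), (23, 11)], []⟩]

def l5 : Line := .forb 1 654820058160 654820119360 [(1, 1), (1, 5), (1, 15), (1, 20), (1, 21)] [⟨[(15, 2), (20, 16), (5, 46), (21, 9), (1, 8)], []⟩, ⟨[(15, 107), (1, 122), (5, 51), (20, 59), (21, 38)], []⟩]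

def l6 : Line := .forb 1 654819992625 654820119300 [(1, 3), (1, 5), (1, 15), (1, 18), (1, 20)] [⟨[(15, 1), (20, 15), (5, 5), (3, 22), (18, 25)], []⟩, ⟨[(15, 65), (3, 138), (5, 21), (18, 18), (20, 110)], []⟩]

def l7 : Line := .forb 1 654820126785 654820062210 [(1, 2), (1, 3), (1, 8), (1, 22), (1, 23)] [⟨[(8, 46), (2, 2), (22, 16), (23, 9), (3, 8)], []⟩, ⟨[(8, 51), (2, 107), (3, 122), (22, 59), (23, 38)], []⟩]

def l8 : Line := .forb 1 654820065315 654820180290 [(1, 8), (1, 9), (1, 10), (1, 11), (1, 21)] [⟨[(9, 15), (21, 5), (11, 25), (8, 1), (10, 22)], []⟩, ⟨[(10, 104), (9, 119), (11, 20), (8, 80), (21, 36)], []⟩]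

def l9 : Line := .forb 1 654819988020 654819988020 [(1, 0), (1, 15), (1, 16), (1, 17), (1, 18)] [⟨[(15, 0), (16, 0), (17, 0), (18, 0), (0, 0)], []⟩, ⟨[(15, 29), (16, 69), (0, 140), (17, 91), (18, 24)], []⟩]

def l10 : Line := .forb 1 654819988035 654820049460 [(1, 2), (1, 10), (1, 16), (1, 17), (1, 18)] [⟨[(16, 16), (2, 46), (17, 9), (18, 8), (10, 2)], []⟩, ⟨[(16, 108), (2, 56), (10, 113), (17, 59), (18, 38)], []⟩]

def l11 : Line := .forb 1 654820196385 654820196610 [(1, 3), (1, 8), (1, 9), (1, 11), (1, 24)] [⟨[(11, 46), (9, 9), (24, 8), (8, 16), (3, 2)], []⟩, ⟨[(11, 56), (3, 113), (9, 59), (8, 108), (24, 38)], []⟩]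

def l12 : Line := .forb 0 288317081445 288317081445 [(4, 18), (1, 21)] [⟨[(1, 0), (3, 0)], [⟨1, 5, 0, 0, [(1, 0), (5, 0), (15, 0), (20, 0), (21, 0)]⟩, ⟨4, 6, 0, 0, [(3, 0), (5, 0), (15, 0), (18, 0), (20, 0)]⟩]⟩, ⟨[(18, 4), (21, 4)], []⟩]

def l13 : Line := .forb 0 654820258320 654820258320 [(1, 15)] [⟨[(2, 0)], [⟨1, 0, 0, 0, [(3, 0), (5, 0), (11, 0), (13, 0), (24, 0)]⟩, ⟨3, 1, 0, 0, [(0, 0), (11, 0), (17, 0), (18, 0), (19, 0)]⟩, ⟨4, 2, 0, 0, [(9, 0), (13, 0), (17, 0), (20, 0), (22, 0)]⟩, ⟨2, 3, 0, 0, [(3, 0), (9, 0), (11, 0), (18, 0), (19, 0)]⟩, ⟨3, 4, 0, 0, [(1, 0), (5, 0), (15, 0), (17, 0), (23, 0)]⟩, ⟨2, 5, 0, 0, [(1, 0), (5, 0), (15, 0), (20, 0), (21, 0)]⟩, ⟨4, 6, 0, 0, [(3, 0), (5, 0), (15, 0), (18, 0), (20, 0)]⟩, ⟨1, 7, 0, 0, [(2, 0), (3, 0), (8, 0), (22, 0), (23, 0)]⟩, ⟨2, 8, 0, 0, [(8, 0), (9, 0), (10, 0), (11, 0), (21, 0)]⟩, ⟨2, 9, 0, 0, [(0, 0), (15, 0), (16, 0), (17, 0), (18, 0)]⟩, ⟨3, 10,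 0, 0, [(2, 0), (10, 0), (16, 0), (17, 0), (18, 0)]⟩, ⟨2, 11, 0, 0, [(3, 0), (8, 0), (9, 0), (11, 0), (24, 0)]⟩, ⟨4, 12, 0, 0, [(18, 0), (21, 0)]⟩, ⟨3, 12, 1, 0, [(21, 0), (23, 0)]⟩, ⟨2, 12, 3, 0, [(23, 0), (24, 0)]⟩]⟩, ⟨[(15, 16)], []⟩]

def lines0 : List Line := [l0, l1, l2, l3, l4, l5, l6, l7, l8, l9, l10, l11, l12, l13]

def final0 : List Item := [⟨4, 0, 0, 0, [(3, 0), (5, 0), (11, 0), (13, 0), (24, 0)]⟩, ⟨2, 1, 0, 0, [(0, 0), (11, 0), (17, 0), (18, 0), (19, 0)]⟩, ⟨1, 2, 0, 0, [(9, 0), (13, 0), (17, 0), (20, 0), (22, 0)]⟩, ⟨3, 3, 0, 0, [(3, 0), (9, 0), (11, 0), (18, 0), (19, 0)]⟩, ⟨2, 4, 0, 0, [(1, 0), (5, 0), (15, 0), (17, 0), (23, 0)]⟩, ⟨3, 5, 0, 0, [(1, 0), (5, 0), (15, 0), (20, 0), (21, 0)]⟩, ⟨1, 6, 0, 0, [(3, 0), (5, 0), (15, 0), (18, 0), (20, 0)]⟩, ⟨4, 7, 0, 0, [(2, 0), (3, 0), (8, 0), (22, 0), (23, 0)]⟩, ⟨3, 8, 0, 0, [(8, 0), (9, 0), (10, 0), (11, 0), (21, 0)]⟩, ⟨4, 9, 0, 0, [(0, 0), (15, 0),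 (16, 0), (17, 0), (18, 0)]⟩, ⟨1, 10, 0, 0, [(2, 0), (10, 0), (16, 0), (17, 0), (18, 0)]⟩, ⟨3, 11, 0, 0, [(3, 0), (8, 0), (9, 0), (11, 0), (24, 0)]⟩, ⟨1, 12, 0, 0, [(18, 0), (21, 0)]⟩, ⟨2, 12, 1, 0, [(21, 0), (23, 0)]⟩, ⟨3, 12, 3, 0, [(23, 0), (24, 0)]⟩, ⟨1, 13, 5, 14, [(10, 62)]⟩]

/-- The certificate. -/
def cert : Cert := ⟨25, 25, 144, tab, rtab, lines0, final0⟩

end CfsgLib.AltLift.DataC1
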