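import Cfsg.Agent.AltLift.Checker

/-! Certificate data (DataC2). -/

set_option autoImplicit false
set_option maxHeartbeats 4000000
set_option maxRecDepth 10000

namespace CfsgLib.AltLift.DataC2

def tab : Table := .node 30 (.node 15 (.node 7 (.node 3 (.node 1 (.leaf 654820258320 0 0) (.node 1 (.leaf 654820257825 1 0) (.leaf 384523579920 2 0))) (.node 2 (.node 1 (.leaf 654820000050 0 1) (.leaf 654820258050 1 1)) (.node 1 (.leaf 384523579425 2 1) (.leaf 436349448720 2 2)))) (.node 4 (.node 2 (.node 1 (.leaf 654820065840 1 3) (.leaf 384523321650 2 3)) (.node 1 (.leaf 654820000275 0 4) (.leaf 384523579650 2 4))) (.node 2 (.node 1 (.leaf 436349448225 2 5) (.leaf 508307976720 2 6)) (.node 1 (.leaf 654820115265 0 7) (.leaf 654820130865 1 7))))) (.node 7 (.node 3 (.node 1 (.leaf 384523387440 2 7) (.node 1 (.leaf 436349190450 2 8) (.leaf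 654820049700 0 9))) (.node 2 (.node 1 (.leaf 654820065315 1 9) (.leaf 384523321875 2 9)) (.node 1 (.leaf 436349448450 2 10) (.leaf 508307976225 2 11)))) (.node 4 (.node 2 (.node 1 (.leaf 581524795920 2 12) (.leaf 654819988290 1 13)) (.node 1 (.leaf 384523436865 2 13) (.leaf 384523452465 2 14))) (.node 2 (.node 1 (.leaf 436349256240 2 15) (.leaf 508307718450 2 16)) (.node 1 (.leaf 384523371300 2 17) (.leaf 384523386915 2 18)))))) (.node 15 (.node 7 (.node 3 (.node 1 (.leaf 436349190675 2 19) (.node 1 (.leaf 508307976450 2 20) (.leaf 581524795425 2 21))) (.node 2 (.node 1 (.leaf 654820057920 1 23) (.leaf 384523309890 2 23)) (.node 1 (.leaf 436349305665 2 24) (.leaf 436349321265 2 25)))) (.node 4 (.node 2 (.node 1 (.leaf 508307784240 2 26) (.leaf 581524537650 2 27)) (.node 1 (.leaf 436349240100 2 28) (.leaf 436349255715 2 29)))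 (.node 2 (.node 1 (.leaf 508307718675 2 30) (.leaf 581524795650 2 31)) (.node 1 (.leaf 384523379520 2 33) (.leaf 436349178690 2 34))))) (.node 7 (.node 3 (.node 1 (.leaf 508307833665 2 35) (.node 1 (.leaf 508307849265 2 36) (.leaf 581524603440 2 37))) (.node 2 (.node 1 (.leaf 508307768100 2 39) (.leaf 508307783715 2 40)) (.node 1 (.leaf 581524537875 2 41) (.leaf 436349248320 2 43)))) (.node 4 (.node 2 (.node 1 (.leaf 508307706690 2 44) (.leaf 581524652865 2 45)) (.node 1 (.leaf 581524668465 2 46) (.leaf 581524587300 2 48))) (.node 2 (.node 1 (.leaf 581524602915 2 49) (.leaf 508307776320 2 51)) (.node 1 (.leaf 581524525890 2 52) (.leaf 581524595520 2 57))))))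

def rtab : Table := .node 30 (.node 15 (.node 7 (.node 3 (.node 1 (.leaf 654820258320 0 0) (.node 1 (.leaf 654820000545 0 0) (.leaf 590144090640 1 0))) (.node 2 (.node 1 (.leaf 646515536400 2 0) (.leaf 654820049970 0 1)) (.node 1 (.leaf 590143832865 1 1) (.leaf 646515278625 2 1)))) (.node 4 (.node 2 (.node 1 (.leaf 452990349840 2 2) (.leaf 582342685200 1 3)) (.node 1 (.leaf 650290410000 2 3) (.leaf 654820118595 0 4))) (.node 2 (.node 1 (.leaf 590143882290 1 4) (.leaf 646515328050 2 4)) (.node 1 (.leaf 452990092065 2 5) (.leaf 582342427425 1 6))))) (.node 7 (.node 3 (.node 1 (.leaf 650290152225 2 6) (.node 1 (.leaf 517163201040 1 7) (.leaf 521944707600 2 7))) (.node 2 (.node 1 (.leaf 449215476240 2 8) (.leaf 577561178640 1 9)) (.node 1 (.leaf 654820188420 0 10) (.leaf 590143950915 1 10)))) (.node 4 (.node 2 (.node 1 (.leaf 646515396675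 2 10) (.leaf 452990141490 2 11)) (.node 1 (.leaf 582342476850 1 12) (.leaf 650290201650 2 12))) (.node 2 (.node 1 (.leaf 517162943265 1 13) (.leaf 521944449825 2 13)) (.node 1 (.leaf 449215218465 2 14) (.leaf 577560920865 1 15)))))) (.node 15 (.node 7 (.node 3 (.node 1 (.leaf 509361795600 2 18) (.node 1 (.leaf 444685627920 2 19) (.leaf 590144020740 1 20))) (.node 2 (.node 1 (.leaf 646515466500 2 20) (.leaf 452990210115 2 21)) (.node 1 (.leaf 582342545475 1 22) (.leaf 650290270275 2 22)))) (.node 4 (.node 2 (.node 1 (.leaf 517162992690 1 23) (.leaf 521944499250 2 23)) (.node 1 (.leaf 449215267890 2 24) (.leaf 577560970290 1 25))) (.node 2 (.node 1 (.leaf 509361537825 2 28) (.leaf 444685370145 2 29)) (.node 1 (.leaf 452990279940 2 32) (.leaf 582342615300 1 33))))) (.node 7 (.node 3 (.node 1 (.leaf 650290340100 2 33) (.node 1 (.leaf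 517163061315 1 34) (.leaf 521944567875 2 34))) (.node 2 (.node 1 (.leaf 449215336515 2 35) (.leaf 577561038915 1 36)) (.node 1 (.leaf 509361587250 2 39) (.leaf 444685419570 2 40)))) (.node 4 (.node 2 (.node 1 (.leaf 517163131140 1 43) (.leaf 521944637700 2 43)) (.node 1 (.leaf 449215406340 2 44) (.leaf 577561108740 1 45))) (.node 2 (.node 1 (.leaf 509361655875 2 48) (.leaf 444685488195 2 49)) (.node 1 (.leaf 509361725700 2 54) (.leaf 444685558020 2 55))))))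

def l0 : Line := .init 0 [(1, 0), (1, 33)] (33, 0)

def l1 : Line := .forb 0 288317081445 288317081445 [(1, 3), (1, 8), (1, 16), (1, 27), (1, 38)] [⟨[(8, 0), (16, 0), (27, 0), (38, 0), (3, 0)], []⟩, ⟨[(8, 8), (16, 9), (3, 30), (27, 17), (38, 3)], []⟩]

def l2 : Line := .forb 0 288317081445 288317081445 [(1, 17), (1, 28), (1, 39), (1, 48), (1, 55)] [⟨[(28, 0), (39, 0), (48, 0), (55, 0), (17, 0)], []⟩, ⟨[(28, 8), (39, 9), (17, 30), (48, 17), (55, 3)], []⟩]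

def l3 : Line := .forb 0 288317081445 288317081445 [(1, 4), (1, 10), (1, 20), (1, 31), (1, 42)] [⟨[(10, 0), (20, 0), (31, 0), (42, 0), (4, 0)], []⟩, ⟨[(10, 8), (20, 9), (4, 30), (31, 17), (42, 3)], []⟩]

def l4 : Line := .forb 0 288317081445 288317081445 [(1, 18), (1, 29), (1, 40), (1, 49), (1, 56)] [⟨[(29, 0), (40, 0), (49, 0), (56, 0), (18, 0)], []⟩, ⟨[(29, 8), (40, 9), (18, 30), (49, 17), (56, 3)], []⟩]

def l5 : Line := .forb 0 288317081445 288317081445 [(1, 7), (1, 15), (1, 26), (1, 37), (1, 47)] [⟨[(15, 0), (26, 0), (37, 0), (47, 0), (7, 0)], []⟩, ⟨[(15, 8), (26, 9), (7, 30), (37, 17), (47, 3)], []⟩]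

def l6 : Line := .forb 0 288317081445 288317081445 [(1, 1), (1, 5), (1, 11), (1, 21), (1, 32)] [⟨[(5, 0), (11, 0), (21, 0), (32, 0), (1, 0)], []⟩, ⟨[(5, 8), (11, 9), (1, 30), (21, 17), (32, 3)], []⟩]

def l7 : Line := .forb 0 288317081445 288317081445 [(1, 13), (1, 24), (1, 35), (1, 45), (1, 53)] [⟨[(24, 0), (35, 0), (45, 0), (53, 0), (13, 0)], []⟩, ⟨[(24, 8), (35, 9), (13, 30), (45, 17), (53, 3)], []⟩]

def l8 : Line := .forb 0 288317081445 288317081445 [(1, 14), (1, 25), (1, 36), (1, 46), (1, 54)] [⟨[(25, 0), (36, 0), (46, 0), (54, 0), (14, 0)], []⟩, ⟨[(25, 8), (36, 9), (14, 30), (46, 17), (54, 3)], []⟩]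

def l9 : Line := .forb 0 288317081445 288317081445 [(1, 0), (1, 2), (1, 6), (1, 12), (1, 22)] [⟨[(2, 0), (6, 0), (12, 0), (22, 0), (0, 0)], []⟩, ⟨[(2, 8), (6, 9), (0, 30), (12, 17), (22, 3)], []⟩]

def l10 : Line := .forb 0 288317081445 288317081445 [(1, 23), (1, 34), (1, 44), (1, 52), (1, 58)] [⟨[(34, 0), (44, 0), (52, 0), (58, 0), (23, 0)], []⟩, ⟨[(34, 8), (44, 9), (23, 30), (52, 17), (58, 3)], []⟩]

def l11 : Line := .forb 0 288317081445 288317081445 [(1, 33), (1, 43), (1, 51), (1, 57), (1, 59)] [⟨[(43, 0), (51, 0), (57, 0), (59, 0), (33, 0)], []⟩, ⟨[(43, 8), (51, 9), (33, 30), (57, 17), (59, 3)], []⟩]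

def l12 : Line := .forb 0 654820258320 654820258320 [(1, 2), (1, 5), (1, 8), (1, 10), (1, 15), (1, 19), (1, 24), (1, 25), (1, 28), (1, 29), (1, 34), (1, 43)] [⟨[(2, 1), (8, 0), (10, 10), (19, 0), (24, 0), (28, 0), (29, 1), (15, 4), (5, 4), (34, 1), (25, 1), (43, 20)], []⟩, ⟨[(5, 0), (10, 0), (15, 0), (2, 0), (25, 0), (29, 0), (34, 0), (8, 0), (19, 10), (28, 4), (43, 0), (24, 0)], []⟩]

def l13 : Line := .forb 0 654820258320 654820258320 [(1, 22), (1, 32), (1, 38), (1, 42), (1, 47), (1, 50), (1, 53), (1, 54), (1, 55), (1, 56), (1, 58), (1, 59)] [⟨[(22, 1), (38, 0), (42, 10), (50, 0), (53, 0), (55, 0), (56, 1), (47, 4), (32, 4), (58, 1), (54, 1), (59, 20)], []⟩, ⟨[(32, 0), (42, 0), (47, 0), (22, 0), (54, 0), (56, 0), (58, 0), (38, 0), (50, 10), (55, 4), (59, 0), (53, 0)], []⟩]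

def l14 : Line := .forb 0 654820258320 654820258320 [(1, 12), (1, 21), (1, 27), (1, 31), (1, 37), (1, 41), (1, 45), (1, 46), (1, 48), (1, 49), (1, 52), (1, 57)] [⟨[(12, 1), (27, 0), (31, 10), (41, 0), (45, 0), (48, 0), (49, 1), (37, 4), (21, 4), (52, 1), (46, 1), (57, 20)], []⟩, ⟨[(21, 0), (31, 0), (37, 0), (12, 0), (46, 0), (49, 0), (52, 0), (27, 0), (41, 10), (48, 4), (57, 0), (45, 0)], []⟩]

def l15 : Line := .forb 0 654820258320 654820258320 [(1, 6), (1, 11), (1, 16), (1, 20), (1, 26), (1, 30), (1, 35), (1, 36), (1, 39), (1, 40), (1, 44), (1, 51)] [⟨[(6, 1), (16, 0), (20, 10), (30, 0), (35, 0), (39, 0), (40, 1), (26, 4), (11, 4), (44, 1), (36, 1), (51, 20)], []⟩, ⟨[(11, 0), (20, 0), (26, 0), (6, 0), (36, 0), (40, 0), (44, 0), (16, 0), (30, 10), (39, 4), (51, 0), (35, 0)], []⟩]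

def l16 : Line := .forb 1 654820000035 654820180260 [(4, 24), (1, 25), (3, 28), (2, 29), (1, 34), (1, 35), (3, 36), (4, 39), (3, 40), (2, 43), (2, 44), (3, 45), (4, 46), (1, 48), (1, 49), (4, 51), (3, 52), (2, 53), (2, 54), (2, 55), (4, 56), (3, 57), (4, 58), (1, 59)] [⟨[(16, 10), (39, 0), (6, 0), (36, 20), (44, 10), (27, 10), (48, 0), (12, 0), (46, 20), (35, 4), (52, 10), (38, 10), (55, 0), (22, 0), (54, 20), (45, 4), (58, 10), (3, 10), (17, 0), (0, 0), (14, 20), (53, 4), (23, 10), (13, 4)], [⟨4, 0, 0, 0, [(0, 0), (33, 0)]⟩, ⟨1, 0, 2, 0, [(2, 0), (43, 0)]⟩, ⟨1, 0, 3, 0, [(3, 0), (18, 1)]⟩, ⟨3, 0, 6, 0, [(6, 0), (51, 0)]⟩, ⟨3, 0, 8, 0, [(8, 0), (29, 1)]⟩, ⟨2, 0, 12, 0, [(12, 0), (57, 0)]⟩, ⟨4, 0, 16, 0, [(16, 0), (40, 1)]⟩, ⟨2, 0, 27, 0, [(27, 0), (49, 1)]⟩, ⟨2, 1, 0, 0, [(3, 0), (8, 0), (16, 0), (27, 0), (38, 0)]⟩, ⟨3, 2, 0,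 0, [(17, 0), (28, 0), (39, 0), (48, 0), (55, 0)]⟩, ⟨4, 4, 0, 0, [(18, 0), (29, 0), (40, 0), (49, 0), (56, 0)]⟩, ⟨4, 7, 0, 0, [(13, 0), (24, 0), (35, 0), (45, 0), (53, 0)]⟩, ⟨1, 8, 0, 0, [(14, 0), (25, 0), (36, 0), (46, 0), (54, 0)]⟩, ⟨4, 9, 0, 0, [(0, 0), (2, 0), (6, 0), (12, 0), (22, 0)]⟩, ⟨1, 10, 0, 0, [(23, 0), (34, 0), (44, 0), (52, 0), (58, 0)]⟩, ⟨1, 11, 0, 0, [(33, 0), (43, 0), (51, 0), (57, 0), (59, 0)]⟩]⟩, ⟨[(20, 36), (40, 9), (11, 45), (51, 36), (39, 45), (4, 56), (18, 30), (1, 58), (33, 56), (36, 25), (17, 58), (31, 47), (49, 17), (21, 53), (57, 47), (14, 50), (48, 53), (42, 22), (56, 3), (32, 33), (59, 22), (46, 38), (55, 33), (54, 12)], [⟨3, 0, 1, 0, [(1, 0), (13, 0)]⟩, ⟨1, 0, 4, 0, [(4, 0), (23, 0)]⟩, ⟨2, 0, 5, 0, [(5, 0), (24, 0)]⟩, ⟨2, 0, 10, 0, [(10, 0), (34, 0)]⟩, ⟨4, 0, 11, 0, [(11, 0), (35, 0)]⟩, ⟨3, 0, 20,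 0, [(20, 0), (44, 0)]⟩, ⟨1, 0, 21, 0, [(21, 0), (45, 0)]⟩, ⟨4, 0, 31, 0, [(31, 0), (52, 0)]⟩, ⟨3, 2, 0, 0, [(17, 0), (28, 0), (39, 0), (48, 0), (55, 0)]⟩, ⟨3, 3, 0, 0, [(4, 0), (10, 0), (20, 0), (31, 0), (42, 0)]⟩, ⟨2, 4, 0, 0, [(18, 0), (29, 0), (40, 0), (49, 0), (56, 0)]⟩, ⟨3, 6, 0, 0, [(1, 0), (5, 0), (11, 0), (21, 0), (32, 0)]⟩, ⟨2, 7, 0, 0, [(13, 0), (24, 0), (35, 0), (45, 0), (53, 0)]⟩, ⟨1, 8, 0, 0, [(14, 0), (25, 0), (36, 0), (46, 0), (54, 0)]⟩, ⟨4, 10, 0, 0, [(23, 0), (34, 0), (44, 0), (52, 0), (58, 0)]⟩, ⟨2, 11, 0, 0, [(33, 0), (43, 0), (51, 0), (57, 0), (59, 0)]⟩]⟩]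

def l17 : Line := .forb 1 654820184640 654820065840 [(4, 34), (2, 40), (3, 43), (4, 49), (1, 51), (2, 52), (4, 56), (4, 58), (1, 59)] [⟨[(11, 0), (48, 10), (20, 20), (55, 10), (31, 20), (32, 0), (17, 10), (1, 0), (4, 20)], [⟨4, 0, 0, 0, [(0, 0), (33, 0)]⟩, ⟨4, 0, 1, 0, [(1, 0), (13, 0)]⟩, ⟨3, 0, 2, 0, [(2, 0), (43, 0)]⟩, ⟨1, 0, 3, 0, [(3, 0), (18, 1)]⟩, ⟨4, 0, 4, 0, [(4, 0), (23, 0)]⟩, ⟨1, 0, 6, 0, [(6, 0), (51, 0)]⟩, ⟨3, 0, 8, 0, [(8, 0), (29, 1)]⟩, ⟨3, 0, 11, 0, [(11, 0), (35, 0)]⟩, ⟨2, 0, 12, 0, [(12, 0), (57, 0)]⟩, ⟨2, 0, 20, 0, [(20, 0), (44, 0)]⟩, ⟨3, 0, 21, 0, [(21, 0), (45, 0)]⟩, ⟨4, 0, 26, 0, [(26, 0), (39, 10)]⟩, ⟨1, 0, 27, 0, [(27, 0), (49, 1)]⟩, ⟨4, 0, 31, 0, [(31, 0), (52, 0)]⟩, ⟨1, 0, 37, 0, [(37, 0), (48, 10)]⟩, ⟨4, 1, 0, 0, [(3, 0), (8, 0), (16, 0), (27, 0), (38, 0)]⟩, ⟨3, 2, 0, 0, [(17, 0), (28, 0), (39, 0),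 (48, 0), (55, 0)]⟩, ⟨1, 4, 0, 0, [(18, 0), (29, 0), (40, 0), (49, 0), (56, 0)]⟩, ⟨3, 6, 0, 0, [(1, 0), (5, 0), (11, 0), (21, 0), (32, 0)]⟩, ⟨1, 7, 0, 0, [(13, 0), (24, 0), (35, 0), (45, 0), (53, 0)]⟩, ⟨4, 8, 0, 0, [(14, 0), (25, 0), (36, 0), (46, 0), (54, 0)]⟩, ⟨1, 9, 0, 0, [(0, 0), (2, 0), (6, 0), (12, 0), (22, 0)]⟩, ⟨3, 10, 0, 0, [(23, 0), (34, 0), (44, 0), (52, 0), (58, 0)]⟩, ⟨1, 12, 0, 0, [(2, 0), (5, 0), (8, 0), (10, 0), (15, 0), (19, 0), (24, 0), (25, 0), (28, 0), (29, 0), (34, 0), (43, 0)]⟩, ⟨4, 13, 0, 0, [(22, 0), (32, 0), (38, 0), (42, 0), (47, 0), (50, 0), (53, 0), (54, 0), (55, 0), (56, 0), (58, 0), (59, 0)]⟩, ⟨2, 14, 0, 0, [(12, 0), (21, 0), (27, 0), (31, 0), (37, 0), (41, 0), (45, 0), (46, 0), (48, 0), (49, 0), (52, 0), (57, 0)]⟩, ⟨3, 15, 0, 0, [(6, 0), (11, 0), (16, 0), (20, 0), (26, 0), (30, 0), (35, 0), (36, 0),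 (39, 0), (40, 0), (44, 0), (51, 0)]⟩, ⟨1, 16, 0, 0, [(24, 0), (25, 0), (28, 0), (29, 0), (34, 0), (35, 0), (36, 0), (39, 0), (40, 0), (43, 0), (44, 0), (45, 0), (46, 0), (48, 0), (49, 0), (51, 0), (52, 0), (53, 0), (54, 0), (55, 0), (56, 0), (57, 0), (58, 0), (59, 0)]⟩, ⟨2, 16, 0, 1, [(29, 1), (15, 4), (5, 4), (34, 1), (25, 1), (40, 1), (26, 4), (11, 4), (44, 1), (43, 20), (36, 1), (49, 1), (37, 4), (21, 4), (52, 1), (51, 20), (46, 1), (56, 1), (47, 4), (32, 4), (58, 1), (57, 20), (54, 1), (59, 20)]⟩, ⟨3, 16, 1, 0, [(34, 0), (8, 0), (19, 10), (28, 4), (43, 0), (44, 0), (16, 0), (30, 10), (39, 4), (24, 0), (51, 0), (52, 0), (27, 0), (41, 10), (48, 4), (35, 0), (57, 0), (58, 0), (38, 0), (50, 10), (55, 4), (45, 0), (59, 0), (53, 0)]⟩, ⟨2, 16, 2, 0, [(35, 0), (36, 0), (39, 0), (40, 0), (44, 0), (45, 0), (46, 0), (48, 0), (49, 0),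 (51, 0), (52, 0), (53, 0), (54, 0), (55, 0), (56, 0), (57, 0), (58, 0), (13, 0), (14, 0), (17, 0), (18, 0), (59, 0), (23, 0), (33, 0)]⟩, ⟨1, 16, 2, 8, [(35, 9), (36, 9), (39, 9), (40, 9), (44, 9), (13, 30), (14, 30), (17, 30), (18, 30), (51, 9), (23, 30), (45, 17), (46, 17), (48, 17), (49, 17), (33, 30), (52, 17), (53, 3), (54, 3), (55, 3), (56, 3), (57, 17), (58, 3), (59, 3)]⟩, ⟨2, 16, 0, 4, [(34, 4), (24, 4), (8, 4), (25, 4), (15, 10), (44, 4), (35, 4), (16, 4), (36, 4), (43, 10), (26, 10), (52, 4), (45, 4), (27, 4), (46, 4), (51, 10), (37, 10), (58, 4), (53, 4), (38, 4), (54, 4), (57, 10), (47, 10), (59, 10)]⟩, ⟨3, 16, 1, 1, [(28, 10), (25, 4), (10, 4), (43, 1), (8, 1), (39, 10), (36, 4), (20, 4), (51, 1), (24, 20), (16, 1), (48, 10), (46, 4), (31, 4), (57, 1), (35, 20), (27, 1), (55, 10), (54, 4), (42, 4), (59, 1), (45, 20),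 (38, 1), (53, 20)]⟩, ⟨4, 16, 2, 1, [(40, 1), (26, 4), (11, 4), (44, 1), (36, 1), (49, 1), (37, 4), (21, 4), (52, 1), (51, 20), (46, 1), (56, 1), (47, 4), (32, 4), (58, 1), (57, 20), (54, 1), (18, 1), (7, 4), (1, 4), (23, 1), (59, 20), (14, 1), (33, 20)]⟩, ⟨4, 16, 2, 14, [(40, 15), (26, 25), (11, 25), (44, 15), (36, 15), (18, 41), (7, 50), (1, 50), (23, 41), (51, 45), (14, 41), (49, 27), (37, 38), (21, 38), (52, 27), (33, 58), (46, 27), (56, 6), (47, 12), (32, 12), (58, 6), (57, 53), (54, 6), (59, 33)]⟩]⟩, ⟨[(16, 45), (14, 41), (39, 9), (46, 27), (17, 30), (27, 53), (54, 6), (38, 33), (55, 3)], [⟨3, 0, 1, 0, [(1, 0), (13, 0)]⟩, ⟨2, 0, 4, 0, [(4, 0), (23, 0)]⟩, ⟨4, 0, 5, 0, [(5, 0), (24, 0)]⟩, ⟨1, 0, 8, 0, [(8, 0), (29, 1)]⟩, ⟨4, 0, 10, 0, [(10, 0), (34, 0)]⟩, ⟨2, 0, 11, 0, [(11, 0), (35, 0)]⟩, ⟨3, 0, 15, 0, [(15, 0), (28, 10)]⟩,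 ⟨3, 0, 20, 0, [(20, 0), (44, 0)]⟩, ⟨1, 0, 21, 0, [(21, 0), (45, 0)]⟩, ⟨3, 0, 26, 0, [(26, 0), (39, 10)]⟩, ⟨4, 0, 27, 0, [(27, 0), (49, 1)]⟩, ⟨1, 0, 31, 0, [(31, 0), (52, 0)]⟩, ⟨4, 0, 37, 0, [(37, 0), (48, 10)]⟩, ⟨2, 2, 0, 0, [(17, 0), (28, 0), (39, 0), (48, 0), (55, 0)]⟩, ⟨3, 3, 0, 0, [(4, 0), (10, 0), (20, 0), (31, 0), (42, 0)]⟩, ⟨2, 4, 0, 0, [(18, 0), (29, 0), (40, 0), (49, 0), (56, 0)]⟩, ⟨4, 5, 0, 0, [(7, 0), (15, 0), (26, 0), (37, 0), (47, 0)]⟩, ⟨3, 8, 0, 0, [(14, 0), (25, 0), (36, 0), (46, 0), (54, 0)]⟩, ⟨1, 11, 0, 0, [(33, 0), (43, 0), (51, 0), (57, 0), (59, 0)]⟩, ⟨2, 16, 0, 0, [(24, 0), (25, 0), (28, 0), (29, 0), (34, 0), (35, 0), (36, 0), (39, 0), (40, 0), (43, 0), (44, 0), (45, 0), (46, 0), (48, 0), (49, 0), (51, 0), (52, 0), (53, 0), (54, 0), (55, 0), (56, 0), (57, 0), (58, 0), (59, 0)]⟩, ⟨2, 16, 0, 1, [(29, 1), (15,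 4), (5, 4), (34, 1), (25, 1), (40, 1), (26, 4), (11, 4), (44, 1), (43, 20), (36, 1), (49, 1), (37, 4), (21, 4), (52, 1), (51, 20), (46, 1), (56, 1), (47, 4), (32, 4), (58, 1), (57, 20), (54, 1), (59, 20)]⟩, ⟨1, 16, 2, 0, [(35, 0), (36, 0), (39, 0), (40, 0), (44, 0), (45, 0), (46, 0), (48, 0), (49, 0), (51, 0), (52, 0), (53, 0), (54, 0), (55, 0), (56, 0), (57, 0), (58, 0), (13, 0), (14, 0), (17, 0), (18, 0), (59, 0), (23, 0), (33, 0)]⟩, ⟨1, 16, 0, 4, [(34, 4), (24, 4), (8, 4), (25, 4), (15, 10), (44, 4), (35, 4), (16, 4), (36, 4), (43, 10), (26, 10), (52, 4), (45, 4), (27, 4), (46, 4), (51, 10), (37, 10), (58, 4), (53, 4), (38, 4), (54, 4), (57, 10), (47, 10), (59, 10)]⟩, ⟨1, 16, 1, 1, [(28, 10), (25, 4), (10, 4), (43, 1), (8, 1), (39, 10), (36, 4), (20, 4), (51, 1), (24, 20), (16, 1), (48, 10), (46, 4), (31, 4), (57, 1), (35,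 20), (27, 1), (55, 10), (54, 4), (42, 4), (59, 1), (45, 20), (38, 1), (53, 20)]⟩, ⟨4, 16, 2, 1, [(40, 1), (26, 4), (11, 4), (44, 1), (36, 1), (49, 1), (37, 4), (21, 4), (52, 1), (51, 20), (46, 1), (56, 1), (47, 4), (32, 4), (58, 1), (57, 20), (54, 1), (18, 1), (7, 4), (1, 4), (23, 1), (59, 20), (14, 1), (33, 20)]⟩, ⟨1, 16, 2, 14, [(40, 15), (26, 25), (11, 25), (44, 15), (36, 15), (18, 41), (7, 50), (1, 50), (23, 41), (51, 45), (14, 41), (49, 27), (37, 38), (21, 38), (52, 27), (33, 58), (46, 27), (56, 6), (47, 12), (32, 12), (58, 6), (57, 53), (54, 6), (59, 33)]⟩]⟩]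

def l18 : Line := .forb 0 288317081445 288317081445 [(1, 53)] [⟨[(13, 0)], [⟨3, 0, 1, 0, [(1, 0), (13, 0)]⟩, ⟨2, 0, 3, 0, [(3, 0), (18, 1)]⟩, ⟨1, 0, 4, 0, [(4, 0), (23, 0)]⟩, ⟨2, 0, 7, 0, [(7, 0), (17, 10)]⟩, ⟨1, 0, 8, 0, [(8, 0), (29, 1)]⟩, ⟨2, 0, 10, 0, [(10, 0), (34, 0)]⟩, ⟨4, 0, 16, 0, [(16, 0), (40, 1)]⟩, ⟨4, 0, 20, 0, [(20, 0), (44, 0)]⟩, ⟨2, 0, 21, 0, [(21, 0), (45, 0)]⟩, ⟨3, 0, 27, 0, [(27, 0), (49, 1)]⟩, ⟨3, 0, 31, 0, [(31, 0), (52, 0)]⟩, ⟨3, 0, 37, 0, [(37, 0), (48, 10)]⟩, ⟨3, 1, 0, 0, [(3, 0), (8, 0), (16, 0), (27, 0), (38, 0)]⟩, ⟨1, 2, 0, 0, [(17, 0), (28, 0), (39, 0), (48, 0), (55, 0)]⟩, ⟨4, 3, 0, 0, [(4, 0), (10, 0), (20, 0), (31, 0), (42, 0)]⟩, ⟨4, 4, 0, 0, [(18, 0), (29, 0), (40, 0), (49, 0), (56, 0)]⟩, ⟨1, 5, 0, 0, [(7, 0), (15, 0), (26, 0), (37, 0), (47, 0)]⟩, ⟨1, 6, 0, 0, [(1, 0), (5, 0), (11, 0), (21, 0),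 (32, 0)]⟩, ⟨4, 7, 0, 0, [(13, 0), (24, 0), (35, 0), (45, 0), (53, 0)]⟩, ⟨3, 10, 0, 0, [(23, 0), (34, 0), (44, 0), (52, 0), (58, 0)]⟩, ⟨4, 16, 0, 0, [(24, 0), (25, 0), (28, 0), (29, 0), (34, 0), (35, 0), (36, 0), (39, 0), (40, 0), (43, 0), (44, 0), (45, 0), (46, 0), (48, 0), (49, 0), (51, 0), (52, 0), (53, 0), (54, 0), (55, 0), (56, 0), (57, 0), (58, 0), (59, 0)]⟩, ⟨3, 16, 0, 1, [(29, 1), (15, 4), (5, 4), (34, 1), (25, 1), (40, 1), (26, 4), (11, 4), (44, 1), (43, 20), (36, 1), (49, 1), (37, 4), (21, 4), (52, 1), (51, 20), (46, 1), (56, 1), (47, 4), (32, 4), (58, 1), (57, 20), (54, 1), (59, 20)]⟩, ⟨1, 16, 2, 0, [(35, 0), (36, 0), (39, 0), (40, 0), (44, 0), (45, 0), (46, 0), (48, 0), (49, 0), (51, 0), (52, 0), (53, 0), (54, 0), (55, 0), (56, 0), (57, 0), (58, 0), (13, 0), (14, 0), (17, 0), (18, 0), (59, 0), (23, 0), (33, 0)]⟩, ⟨3,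 16, 0, 4, [(34, 4), (24, 4), (8, 4), (25, 4), (15, 10), (44, 4), (35, 4), (16, 4), (36, 4), (43, 10), (26, 10), (52, 4), (45, 4), (27, 4), (46, 4), (51, 10), (37, 10), (58, 4), (53, 4), (38, 4), (54, 4), (57, 10), (47, 10), (59, 10)]⟩, ⟨3, 16, 1, 1, [(28, 10), (25, 4), (10, 4), (43, 1), (8, 1), (39, 10), (36, 4), (20, 4), (51, 1), (24, 20), (16, 1), (48, 10), (46, 4), (31, 4), (57, 1), (35, 20), (27, 1), (55, 10), (54, 4), (42, 4), (59, 1), (45, 20), (38, 1), (53, 20)]⟩, ⟨4, 16, 2, 14, [(40, 15), (26, 25), (11, 25), (44, 15), (36, 15), (18, 41), (7, 50), (1, 50), (23, 41), (51, 45), (14, 41), (49, 27), (37, 38), (21, 38), (52, 27), (33, 58), (46, 27), (56, 6), (47, 12), (32, 12), (58, 6), (57, 53), (54, 6), (59, 33)]⟩, ⟨2, 17, 0, 0, [(34, 0), (40, 0), (43, 0), (49, 0), (51, 0), (52, 0), (56, 0), (58, 0), (59, 0)]⟩, ⟨1, 17, 0,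 1, [(25, 1), (44, 1), (43, 20), (52, 1), (51, 20), (46, 1), (58, 1), (54, 1), (59, 20)]⟩, ⟨1, 17, 1, 0, [(43, 0), (39, 4), (24, 0), (48, 4), (35, 0), (57, 0), (55, 4), (59, 0), (53, 0)]⟩, ⟨3, 17, 2, 8, [(44, 9), (18, 30), (51, 9), (49, 17), (33, 30), (52, 17), (56, 3), (58, 3), (59, 3)]⟩, ⟨2, 17, 0, 4, [(15, 10), (36, 4), (43, 10), (46, 4), (51, 10), (37, 10), (54, 4), (47, 10), (59, 10)]⟩, ⟨1, 17, 1, 1, [(8, 1), (51, 1), (24, 20), (57, 1), (35, 20), (27, 1), (59, 1), (38, 1), (53, 20)]⟩]⟩, ⟨[(53, 3)], []⟩]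

def lines0 : List Line := [l0, l1, l2, l3, l4, l5, l6, l7, l8, l9, l10, l11, l12, l13, l14, l15, l16, l17, l18]

def final0 : List Item := [⟨3, 0, 0, 0, [(0, 0), (33, 0)]⟩, ⟨4, 0, 2, 0, [(2, 0), (43, 0)]⟩, ⟨3, 0, 3, 0, [(3, 0), (18, 1)]⟩, ⟨2, 0, 5, 0, [(5, 0), (24, 0)]⟩, ⟨3, 0, 6, 0, [(6, 0), (51, 0)]⟩, ⟨2, 0, 8, 0, [(8, 0), (29, 1)]⟩, ⟨1, 0, 11, 0, [(11, 0), (35, 0)]⟩, ⟨1, 0, 12, 0, [(12, 0), (57, 0)]⟩, ⟨4, 0, 15, 0, [(15, 0), (28, 10)]⟩, ⟨2, 0, 16, 0, [(16, 0), (40, 1)]⟩, ⟨2, 0, 21, 0, [(21, 0), (45, 0)]⟩, ⟨1, 0, 26, 0, [(26, 0), (39, 10)]⟩, ⟨3, 0, 27, 0, [(27, 0), (49, 1)]⟩, ⟨2, 1, 0, 0, [(3, 0), (8, 0), (16, 0), (27, 0), (38, 0)]⟩, ⟨2, 2, 0, 0, [(17, 0), (28, 0), (39, 0), (48, 0), (55, 0)]⟩, ⟨3, 4, 0, 0, [(18, 0), (29, 0), (40, 0), (49, 0), (56, 0)]⟩, ⟨3, 5, 0, 0, [(7, 0), (15, 0), (26, 0), (37, 0), (47, 0)]⟩, ⟨2, 6, 0,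 0, [(1, 0), (5, 0), (11, 0), (21, 0), (32, 0)]⟩, ⟨3, 7, 0, 0, [(13, 0), (24, 0), (35, 0), (45, 0), (53, 0)]⟩, ⟨4, 8, 0, 0, [(14, 0), (25, 0), (36, 0), (46, 0), (54, 0)]⟩, ⟨3, 9, 0, 0, [(0, 0), (2, 0), (6, 0), (12, 0), (22, 0)]⟩, ⟨4, 10, 0, 0, [(23, 0), (34, 0), (44, 0), (52, 0), (58, 0)]⟩, ⟨4, 11, 0, 0, [(33, 0), (43, 0), (51, 0), (57, 0), (59, 0)]⟩, ⟨3, 12, 0, 0, [(2, 0), (5, 0), (8, 0), (10, 0), (15, 0), (19, 0), (24, 0), (25, 0), (28, 0), (29, 0), (34, 0), (43, 0)]⟩, ⟨2, 13, 0, 0, [(22, 0), (32, 0), (38, 0), (42, 0), (47, 0), (50, 0), (53, 0), (54, 0), (55, 0), (56, 0), (58, 0), (59, 0)]⟩, ⟨1, 14, 0, 0, [(12, 0), (21, 0), (27, 0), (31, 0), (37, 0), (41, 0), (45, 0), (46, 0), (48, 0), (49, 0), (52, 0), (57, 0)]⟩, ⟨4, 15, 0, 0, [(6, 0), (11, 0), (16, 0), (20, 0), (26, 0), (30, 0), (35, 0), (36, 0), (39, 0), (40, 0), (44, 0),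 (51, 0)]⟩, ⟨4, 16, 0, 0, [(24, 0), (25, 0), (28, 0), (29, 0), (34, 0), (35, 0), (36, 0), (39, 0), (40, 0), (43, 0), (44, 0), (45, 0), (46, 0), (48, 0), (49, 0), (51, 0), (52, 0), (53, 0), (54, 0), (55, 0), (56, 0), (57, 0), (58, 0), (59, 0)]⟩, ⟨1, 16, 0, 1, [(29, 1), (15, 4), (5, 4), (34, 1), (25, 1), (40, 1), (26, 4), (11, 4), (44, 1), (43, 20), (36, 1), (49, 1), (37, 4), (21, 4), (52, 1), (51, 20), (46, 1), (56, 1), (47, 4), (32, 4), (58, 1), (57, 20), (54, 1), (59, 20)]⟩, ⟨4, 16, 1, 0, [(34, 0), (8, 0), (19, 10), (28, 4), (43, 0), (44, 0), (16, 0), (30, 10), (39, 4), (24, 0), (51, 0), (52, 0), (27, 0), (41, 10), (48, 4), (35, 0), (57, 0), (58, 0), (38, 0), (50, 10), (55, 4), (45, 0), (59, 0), (53, 0)]⟩, ⟨2, 16, 2, 8, [(35, 9), (36, 9), (39, 9), (40, 9), (44, 9), (13, 30), (14, 30), (17, 30), (18, 30), (51, 9), (23, 30), (45,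 17), (46, 17), (48, 17), (49, 17), (33, 30), (52, 17), (53, 3), (54, 3), (55, 3), (56, 3), (57, 17), (58, 3), (59, 3)]⟩, ⟨3, 16, 0, 4, [(34, 4), (24, 4), (8, 4), (25, 4), (15, 10), (44, 4), (35, 4), (16, 4), (36, 4), (43, 10), (26, 10), (52, 4), (45, 4), (27, 4), (46, 4), (51, 10), (37, 10), (58, 4), (53, 4), (38, 4), (54, 4), (57, 10), (47, 10), (59, 10)]⟩, ⟨4, 16, 1, 1, [(28, 10), (25, 4), (10, 4), (43, 1), (8, 1), (39, 10), (36, 4), (20, 4), (51, 1), (24, 20), (16, 1), (48, 10), (46, 4), (31, 4), (57, 1), (35, 20), (27, 1), (55, 10), (54, 4), (42, 4), (59, 1), (45, 20), (38, 1), (53, 20)]⟩, ⟨2, 16, 2, 1, [(40, 1), (26, 4), (11, 4), (44, 1), (36, 1), (49, 1), (37, 4), (21, 4), (52, 1), (51, 20), (46, 1), (56, 1), (47, 4), (32, 4), (58, 1), (57, 20), (54, 1), (18, 1), (7, 4), (1, 4), (23, 1), (59, 20), (14, 1), (33, 20)]⟩, ⟨1,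 16, 2, 14, [(40, 15), (26, 25), (11, 25), (44, 15), (36, 15), (18, 41), (7, 50), (1, 50), (23, 41), (51, 45), (14, 41), (49, 27), (37, 38), (21, 38), (52, 27), (33, 58), (46, 27), (56, 6), (47, 12), (32, 12), (58, 6), (57, 53), (54, 6), (59, 33)]⟩, ⟨1, 17, 0, 0, [(34, 0), (40, 0), (43, 0), (49, 0), (51, 0), (52, 0), (56, 0), (58, 0), (59, 0)]⟩, ⟨2, 17, 0, 1, [(25, 1), (44, 1), (43, 20), (52, 1), (51, 20), (46, 1), (58, 1), (54, 1), (59, 20)]⟩, ⟨1, 17, 2, 0, [(44, 0), (49, 0), (51, 0), (56, 0), (57, 0), (58, 0), (18, 0), (23, 0), (33, 0)]⟩, ⟨2, 17, 2, 8, [(44, 9), (18, 30), (51, 9), (49, 17), (33, 30), (52, 17), (56, 3), (58, 3), (59, 3)]⟩, ⟨4, 17, 0, 4, [(15, 10), (36, 4), (43, 10), (46, 4), (51, 10), (37, 10), (54, 4), (47, 10), (59, 10)]⟩]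

def final1 : List Item := [⟨4, 17, 1, 1, [(8, 1), (51, 1), (24, 20), (57, 1), (35, 20), (27, 1), (59, 1), (38, 1), (53, 20)]⟩, ⟨1, 17, 2, 14, [(36, 15), (23, 41), (51, 45), (52, 27), (33, 58), (46, 27), (58, 6), (54, 6), (59, 33)]⟩, ⟨4, 18, 4, 0, [(59, 0)]⟩]

/-- The certificate. -/
def cert : Cert := ⟨60, 60, 60, tab, rtab, lines0, final0 ++ final1⟩

end CfsgLib.AltLift.DataC2
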