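import Cfsg.Agent.AltLift.Checker

/-! Certificate data (DataC3). -/

set_option autoImplicit false
set_option maxHeartbeats 4000000
set_option maxRecDepth 10000

namespace CfsgLib.AltLift.DataC3

def taba : Table := .node 18 (.node 9 (.node 4 (.node 2 (.node 1 (.leaf 654820258320 0 0) (.leaf 654818230800 1 0)) (.node 1 (.leaf 654819263265 0 1) (.leaf 654819152400 1 1))) (.node 2 (.node 1 (.leaf 654815073330 0 2) (.leaf 654820181025 1 2)) (.node 1 (.leaf 654815023905 0 3) (.node 1 (.leaf 654816124995 0 4) (.leaf 654814942530 1 4))))) (.node 4 (.node 2 (.node 1 (.leaf 654820249650 0 5) (.leaf 654818149665 1 5)) (.node 1 (.leaf 654815810610 0 6) (.leaf 654815081505 1 6))) (.node 2 (.node 1 (.leaf 654817177860 0 7) (.leaf 654816060675 0 8)) (.node 1 (.leaf 654815007570 1 8) (.node 1 (.leaf 654819991875 0 9) (.leaf 654818218050 1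 9)))))) (.node 9 (.node 4 (.node 2 (.node 1 (.leaf 654818940210 0 10) (.leaf 654816923715 0 11)) (.node 1 (.leaf 654815802690 1 11) (.leaf 654816133170 0 12))) (.node 2 (.node 1 (.leaf 654814954785 1 12) (.leaf 654817050885 1 13)) (.node 1 (.leaf 654816851220 0 14) (.node 1 (.leaf 654816125700 1 14) (.leaf 654815798355 0 15))))) (.node 4 (.node 2 (.node 1 (.leaf 654820061700 0 16) (.leaf 654817894740 1 16)) (.node 1 (.leaf 654819135570 1 17) (.leaf 654814815555 0 18))) (.node 2 (.node 1 (.leaf 654819988290 1 18) (.leaf 654816915540 1 19)) (.node 1 (.leaf 654816920835 0 20) (.node 1 (.leaf 654817165635 0 21) (.leaf 654816006210 1 21))))))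

def tabb : Table := .node 18 (.node 9 (.node 4 (.node 2 (.node 1 (.leaf 654816052530 0 22) (.leaf 654817120515 1 23)) (.node 1 (.leaf 654817969440 0 24) (.leaf 654815798580 1 26))) (.node 2 (.node 1 (.leaf 654820131600 0 27) (.leaf 654817968645 1 27)) (.node 1 (.leaf 654819013200 0 28) (.node 1 (.leaf 654818943285 1 28) (.leaf 654814815060 1 30))))) (.node 4 (.node 2 (.node 1 (.leaf 654820058115 0 31) (.leaf 654818034000 0 32)) (.node 1 (.leaf 654816924420 1 33) (.leaf 654818218500 0 34))) (.node 2 (.node 1 (.leaf 654817034580 1 34) (.leaf 654816063570 1 35)) (.node 1 (.leaf 654819067185 0 38) (.node 1 (.leaf 654816916800 0 39) (.leaf 654815798085 1 39)))))) (.node 9 (.node 4 (.node 2 (.node 1 (.leaf 654818038800 1 40) (.leaf 654819066645 0 41)) (.node 1 (.leaf 654814888785 0 42) (.leaf 654820065840 1 42))) (.node 2 (.node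 1 (.leaf 654814818885 0 43) (.leaf 654817961220 1 45)) (.node 1 (.leaf 654819131985 0 46) (.node 1 (.leaf 654816916485 1 47) (.leaf 654820115265 1 51))))) (.node 4 (.node 2 (.node 1 (.leaf 654818034945 0 52) (.leaf 654819079440 1 54)) (.node 1 (.leaf 654814942245 0 55) (.leaf 654817972800 1 57))) (.node 2 (.node 1 (.leaf 654819009285 1 59) (.leaf 654820246065 1 60)) (.node 1 (.leaf 654819087105 1 63) (.node 1 (.leaf 654815008035 1 65) (.leaf 654820127745 1 69))))))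

def tab : Table := .node 36 taba tabb

def rtab : Table := .node 30 (.node 15 (.node 7 (.node 3 (.node 1 (.leaf 654820258320 0 0) (.node 1 (.leaf 654820000545 0 0) (.leaf 590144090640 1 0))) (.node 2 (.node 1 (.leaf 646515536400 2 0) (.leaf 654820049970 0 1)) (.node 1 (.leaf 590143832865 1 1) (.leaf 646515278625 2 1)))) (.node 4 (.node 2 (.node 1 (.leaf 452990349840 2 2) (.leaf 582342685200 1 3)) (.node 1 (.leaf 650290410000 2 3) (.leaf 654820118595 0 4))) (.node 2 (.node 1 (.leaf 590143882290 1 4) (.leaf 646515328050 2 4)) (.node 1 (.leaf 452990092065 2 5) (.leaf 582342427425 1 6))))) (.node 7 (.node 3 (.node 1 (.leaf 650290152225 2 6) (.node 1 (.leaf 517163201040 1 7) (.leaf 521944707600 2 7))) (.node 2 (.node 1 (.leaf 449215476240 2 8) (.leaf 577561178640 1 9)) (.node 1 (.leaf 654820188420 0 10) (.leaf 590143950915 1 10))))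 (.node 4 (.node 2 (.node 1 (.leaf 646515396675 2 10) (.leaf 452990141490 2 11)) (.node 1 (.leaf 582342476850 1 12) (.leaf 650290201650 2 12))) (.node 2 (.node 1 (.leaf 517162943265 1 13) (.leaf 521944449825 2 13)) (.node 1 (.leaf 449215218465 2 14) (.leaf 577560920865 1 15)))))) (.node 15 (.node 7 (.node 3 (.node 1 (.leaf 509361795600 2 18) (.node 1 (.leaf 444685627920 2 19) (.leaf 590144020740 1 20))) (.node 2 (.node 1 (.leaf 646515466500 2 20) (.leaf 452990210115 2 21)) (.node 1 (.leaf 582342545475 1 22) (.leaf 650290270275 2 22)))) (.node 4 (.node 2 (.node 1 (.leaf 517162992690 1 23) (.leaf 521944499250 2 23)) (.node 1 (.leaf 449215267890 2 24) (.leaf 577560970290 1 25))) (.node 2 (.node 1 (.leaf 509361537825 2 28) (.leaf 444685370145 2 29)) (.node 1 (.leaf 452990279940 2 32) (.leaf 582342615300 1 33))))) (.node 7 (.node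 3 (.node 1 (.leaf 650290340100 2 33) (.node 1 (.leaf 517163061315 1 34) (.leaf 521944567875 2 34))) (.node 2 (.node 1 (.leaf 449215336515 2 35) (.leaf 577561038915 1 36)) (.node 1 (.leaf 509361587250 2 39) (.leaf 444685419570 2 40)))) (.node 4 (.node 2 (.node 1 (.leaf 517163131140 1 43) (.leaf 521944637700 2 43)) (.node 1 (.leaf 449215406340 2 44) (.leaf 577561108740 1 45))) (.node 2 (.node 1 (.leaf 509361655875 2 48) (.leaf 444685488195 2 49)) (.node 1 (.leaf 509361725700 2 54) (.leaf 444685558020 2 55))))))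

def l0 : Line := .forb 3 654820058160 654820119360 [(1, 27), (4, 68)] [⟨[(27, 4), (68, 10)], []⟩, ⟨[(68, 4), (27, 10)], []⟩, ⟨[(27, 2), (68, 2)], []⟩, ⟨[(27, 3), (68, 3)], []⟩]

def l1 : Line := .forb 3 654818218560 654819021360 [(1, 38), (4, 54)] [⟨[(38, 10), (54, 4)], []⟩, ⟨[(54, 0), (38, 0)], []⟩, ⟨[(38, 2), (54, 2)], []⟩, ⟨[(38, 3), (54, 3)], []⟩]

def l2 : Line := .forb 3 654815802405 654814884180 [(1, 14), (4, 50)] [⟨[(14, 1), (50, 20)], []⟩, ⟨[(50, 20), (14, 1)], []⟩, ⟨[(14, 2), (50, 2)], []⟩, ⟨[(14, 3), (50, 3)], []⟩]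

def l3 : Line := .forb 3 654820130865 654820185090 [(1, 5), (4, 45)] [⟨[(5, 20), (45, 1)], []⟩, ⟨[(45, 20), (5, 1)], []⟩, ⟨[(5, 2), (45, 2)], []⟩, ⟨[(5, 3), (45, 3)], []⟩]

def l4 : Line := .forb 3 654818955570 654818218020 [(1, 3), (4, 69)] [⟨[(3, 4), (69, 10)], []⟩, ⟨[(69, 4), (3, 10)], []⟩, ⟨[(3, 2), (69, 2)], []⟩, ⟨[(3, 3), (69, 3)], []⟩]

def l5 : Line := .forb 3 654820057140 654819988290 [(1, 16), (4, 62)] [⟨[(16, 20), (62, 1)], []⟩, ⟨[(62, 0), (16, 0)], []⟩, ⟨[(16, 2), (62, 2)], []⟩, ⟨[(16, 3), (62, 3)], []⟩]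

def l6 : Line := .forb 3 654817050705 654816003330 [(1, 19), (4, 61)] [⟨[(19, 20), (61, 1)], []⟩, ⟨[(61, 0), (19, 0)], []⟩, ⟨[(19, 2), (61, 2)], []⟩, ⟨[(19, 3), (61, 3)], []⟩]

def l7 : Line := .forb 3 654817039680 654816920880 [(1, 23), (4, 34)] [⟨[(23, 4), (34, 10)], []⟩, ⟨[(34, 4), (23, 10)], []⟩, ⟨[(23, 2), (34, 2)], []⟩, ⟨[(23, 3), (34, 3)], []⟩]

def l8 : Line := .forb 3 654816072195 654818148945 [(1, 35), (4, 36)] [⟨[(35, 10), (36, 4)], []⟩, ⟨[(36, 4), (35, 10)], []⟩, ⟨[(35, 2), (36, 2)], []⟩, ⟨[(35, 3), (36, 3)], []⟩]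

def l9 : Line := .forb 3 654818214180 654818955555 [(1, 1), (4, 63)] [⟨[(1, 20), (63, 1)], []⟩, ⟨[(63, 0), (1, 0)], []⟩, ⟨[(1, 2), (63, 2)], []⟩, ⟨[(1, 3), (63, 3)], []⟩]

def l10 : Line := .forb 3 654820188420 654820000545 [(1, 0), (4, 71)] [⟨[(0, 1), (71, 20)], []⟩, ⟨[(71, 10), (0, 4)], []⟩, ⟨[(0, 2), (71, 2)], []⟩, ⟨[(0, 3), (71, 3)], []⟩]

def l11 : Line := .forb 3 654820131075 654820181025 [(1, 9), (4, 57)] [⟨[(9, 1), (57, 20)], []⟩, ⟨[(57, 0), (9, 0)], []⟩, ⟨[(9, 2), (57, 2)], []⟩, ⟨[(9, 3), (57, 3)], []⟩]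

def l12 : Line := .forb 3 654816920835 654817035585 [(1, 32), (4, 33)] [⟨[(32, 20), (33, 1)], []⟩, ⟨[(33, 4), (32, 10)], []⟩, ⟨[(32, 2), (33, 2)], []⟩, ⟨[(32, 3), (33, 3)], []⟩]

def l13 : Line := .forb 3 654815023890 654818156565 [(1, 4), (4, 70)] [⟨[(4, 10), (70, 4)], []⟩, ⟨[(70, 1), (4, 20)], []⟩, ⟨[(4, 2), (70, 2)], []⟩, ⟨[(4, 3), (70, 3)], []⟩]

def l14 : Line := .forb 3 654819132705 654817181955 [(1, 18), (4, 64)] [⟨[(18, 4), (64, 10)], []⟩, ⟨[(64, 10), (18, 4)], []⟩, ⟨[(18, 2), (64, 2)], []⟩, ⟨[(18, 3), (64, 3)], []⟩]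

def l15 : Line := .forb 3 654814892340 654817891365 [(1, 6), (4, 44)] [⟨[(6, 10), (44, 4)], []⟩, ⟨[(44, 1), (6, 20)], []⟩, ⟨[(6, 2), (44, 2)], []⟩, ⟨[(6, 3), (44, 3)], []⟩]

def l16 : Line := .forb 3 654814876485 654814815285 [(1, 22), (4, 30)] [⟨[(22, 1), (30, 20)], []⟩, ⟨[(30, 0), (22, 0)], []⟩, ⟨[(22, 2), (30, 2)], []⟩, ⟨[(22, 3), (30, 3)], []⟩]

def l17 : Line := .forb 3 654815798325 654814876500 [(1, 21), (4, 25)] [⟨[(21, 4), (25, 10)], []⟩, ⟨[(25, 0), (21, 0)], []⟩, ⟨[(21, 2), (25, 2)], []⟩, ⟨[(21, 3), (25, 3)], []⟩]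

def l18 : Line := .forb 3 654817952325 654814827075 [(1, 10), (4, 59)] [⟨[(10, 4), (59, 10)], []⟩, ⟨[(59, 0), (10, 0)], []⟩, ⟨[(10, 2), (59, 2)], []⟩, ⟨[(10, 3), (59, 3)], []⟩]

def l19 : Line := .forb 3 654818944275 654817166100 [(1, 55), (4, 60)] [⟨[(55, 20), (60, 1)], []⟩, ⟨[(60, 4), (55, 10)], []⟩, ⟨[(55, 2), (60, 2)], []⟩, ⟨[(55, 3), (60, 3)], []⟩]

def l20 : Line := .forb 3 654816851025 654815933700 [(1, 37), (4, 49)] [⟨[(37, 1), (49, 20)], []⟩, ⟨[(49, 0), (37, 0)], []⟩, ⟨[(37, 2), (49, 2)], []⟩, ⟨[(37, 3), (49, 3)], []⟩]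

def l21 : Line := .forb 3 654819000915 654816117315 [(1, 2), (4, 67)] [⟨[(2, 4), (67, 10)], []⟩, ⟨[(67, 0), (2, 0)], []⟩, ⟨[(2, 2), (67, 2)], []⟩, ⟨[(2, 3), (67, 3)], []⟩]

def l22 : Line := .forb 3 654817968720 654816006720 [(1, 28), (4, 48)] [⟨[(28, 4), (48, 10)], []⟩, ⟨[(48, 4), (28, 10)], []⟩, ⟨[(28, 2), (48, 2)], []⟩, ⟨[(28, 3), (48, 3)], []⟩]

def l23 : Line := .forb 3 654816007200 654818034000 [(1, 20), (4, 26)] [⟨[(20, 1), (26, 20)], []⟩, ⟨[(26, 0), (20, 0)], []⟩, ⟨[(20, 2), (26, 2)], []⟩, ⟨[(20, 3), (26, 3)], []⟩]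

def l24 : Line := .forb 3 654819988290 654820057140 [(1, 31), (4, 40)] [⟨[(31, 1), (40, 20)], []⟩, ⟨[(40, 20), (31, 1)], []⟩, ⟨[(31, 2), (40, 2)], []⟩, ⟨[(31, 3), (40, 3)], []⟩]

def l25 : Line := .forb 3 654814946385 654815937285 [(1, 8), (4, 58)] [⟨[(8, 20), (58, 1)], []⟩, ⟨[(58, 1), (8, 20)], []⟩, ⟨[(8, 2), (58, 2)], []⟩, ⟨[(8, 3), (58, 3)], []⟩]

def l26 : Line := .forb 3 654815798580 654816842580 [(1, 7), (4, 39)] [⟨[(7, 20), (39, 1)], []⟩, ⟨[(39, 20), (7, 1)], []⟩, ⟨[(7, 2), (39, 2)], []⟩, ⟨[(7, 3), (39, 3)], []⟩]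

def l27 : Line := .forb 3 654817035285 654814889235 [(1, 24), (4, 47)] [⟨[(24, 20), (47, 1)], []⟩, ⟨[(47, 1), (24, 20)], []⟩, ⟨[(24, 2), (47, 2)], []⟩, ⟨[(24, 3), (47, 3)], []⟩]

def l28 : Line := .forb 3 654818948370 654817177620 [(1, 29), (4, 42)] [⟨[(29, 10), (42, 4)], []⟩, ⟨[(42, 4), (29, 10)], []⟩, ⟨[(29, 2), (42, 2)], []⟩, ⟨[(29, 3), (42, 3)], []⟩]

def l29 : Line := .forb 3 654819086595 654818214945 [(1, 43), (4, 51)] [⟨[(43, 10), (51, 4)], []⟩, ⟨[(51, 0), (43, 0)], []⟩, ⟨[(43, 2), (51, 2)], []⟩, ⟨[(43, 3), (51, 3)], []⟩]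

def l30 : Line := .forb 3 654818022480 654815941680 [(1, 17), (4, 66)] [⟨[(17, 4), (66, 10)], []⟩, ⟨[(66, 10), (17, 4)], []⟩, ⟨[(17, 2), (66, 2)], []⟩, ⟨[(17, 3), (66, 3)], []⟩]

def l31 : Line := .forb 3 654817907010 654817972260 [(1, 41), (4, 46)] [⟨[(41, 1), (46, 20)], []⟩, ⟨[(46, 4), (41, 10)], []⟩, ⟨[(41, 2), (46, 2)], []⟩, ⟨[(41, 3), (46, 3)], []⟩]

def l32 : Line := .forb 3 654817055745 654818034945 [(1, 13), (4, 52)] [⟨[(13, 20), (52, 1)], []⟩, ⟨[(52, 4), (13, 10)], []⟩, ⟨[(13, 2), (52, 2)], []⟩, ⟨[(13, 3), (52, 3)], []⟩]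

def l33 : Line := .forb 3 654815012145 654817104645 [(1, 15), (4, 65)] [⟨[(15, 20), (65, 1)], []⟩, ⟨[(65, 0), (15, 0)], []⟩, ⟨[(15, 2), (65, 2)], []⟩, ⟨[(15, 3), (65, 3)], []⟩]

def l34 : Line := .forb 3 654816129090 654819012690 [(1, 11), (4, 53)] [⟨[(11, 4), (53, 10)], []⟩, ⟨[(53, 10), (11, 4)], []⟩, ⟨[(11, 2), (53, 2)], []⟩, ⟨[(11, 3), (53, 3)], []⟩]

def l35 : Line := .forb 3 654814888785 654815994885 [(1, 1), (1, 2), (1, 31), (4, 34), (1, 39), (4, 45), (1, 47), (4, 48), (4, 50), (4, 64)] [⟨[(2, 10), (47, 10), (1, 1), (50, 20), (31, 0), (48, 0), (39, 10), (64, 20), (45, 20), (34, 10)], []⟩, ⟨[(64, 0), (48, 10), (34, 20), (31, 1), (50, 10), (47, 0), (45, 0), (2, 4), (39, 4), (1, 0)], []⟩, ⟨[(1, 2), (2, 2), (31, 2), (34, 2), (39, 2), (45, 2), (47, 2), (48, 2), (50, 2), (64, 2)], []⟩, ⟨[(1, 3), (2, 3), (31, 3), (34, 3), (39,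 3), (45, 3), (47, 3), (48, 3), (50, 3), (64, 3)], []⟩]

def l36 : Line := .forb 3 654815798580 654816842580 [(1, 4), (4, 10), (1, 13), (4, 30), (4, 31), (1, 43), (4, 47), (1, 62), (4, 64), (1, 66)] [⟨[(43, 20), (31, 10), (4, 1), (64, 4), (47, 1), (66, 4), (30, 0), (13, 4), (10, 20), (62, 1)], []⟩, ⟨[(10, 4), (4, 10), (31, 1), (66, 0), (13, 20), (64, 20), (62, 1), (47, 20), (43, 1), (30, 0)], []⟩, ⟨[(4, 2), (10, 2), (13, 2), (30, 2), (31, 2), (43, 2), (47, 2), (62, 2), (64, 2), (66, 2)], []⟩, ⟨[(4, 3), (10, 3), (13, 3), (30, 3), (31, 3), (43, 3), (47, 3), (62, 3), (64, 3), (66, 3)], []⟩]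

def l37 : Line := .forb 3 654820131075 654820181025 [(1, 3), (1, 21), (1, 23), (4, 35), (4, 38), (1, 46), (4, 49), (1, 58), (4, 65), (4, 67)] [⟨[(23, 4), (3, 20), (46, 1), (67, 4), (65, 10), (58, 20), (38, 1), (21, 20), (35, 10), (49, 1)], []⟩, ⟨[(35, 0), (67, 1), (65, 0), (3, 0), (46, 20), (38, 1), (58, 20), (49, 1), (23, 0), (21, 20)], []⟩, ⟨[(3, 2), (21, 2), (23, 2), (35, 2), (38, 2), (46, 2), (49, 2), (58, 2), (65, 2), (67, 2)], []⟩, ⟨[(3, 3), (21, 3), (23, 3), (35, 3), (38, 3), (46, 3), (49, 3), (58, 3), (65, 3), (67, 3)], []⟩]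

def l38 : Line := .forb 3 654819988290 654820057140 [(1, 1), (4, 15), (4, 17), (1, 34), (1, 39), (4, 49), (4, 51), (4, 53), (1, 55), (1, 58)] [⟨[(39, 10), (49, 0), (53, 1), (55, 1), (58, 10), (51, 1), (17, 4), (15, 1), (1, 20), (34, 20)], []⟩, ⟨[(53, 1), (55, 20), (39, 10), (49, 4), (17, 4), (34, 10), (58, 10), (1, 20), (15, 1), (51, 4)], []⟩, ⟨[(1, 2), (15, 2), (17, 2), (34, 2), (39, 2), (49, 2), (51, 2), (53, 2), (55, 2), (58, 2)], []⟩, ⟨[(1, 3), (15, 3), (17, 3), (34, 3), (39, 3), (49, 3), (51, 3), (53, 3), (55, 3), (58, 3)], []⟩]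

def l39 : Line := .forb 3 654817952325 654814827075 [(1, 14), (4, 16), (1, 19), (4, 22), (4, 24), (1, 27), (4, 29), (4, 36), (1, 44), (1, 69)] [⟨[(27, 10), (29, 20), (44, 4), (36, 4), (22, 1), (69, 20), (24, 20), (16, 20), (14, 10), (19, 10)], []⟩, ⟨[(29, 20), (27, 10), (22, 20), (19, 1), (44, 20), (16, 4), (14, 1), (69, 1), (24, 1), (36, 20)], []⟩, ⟨[(14, 2), (16, 2), (19, 2), (22, 2), (24, 2), (27, 2), (29, 2), (36, 2), (44, 2), (69, 2)], []⟩, ⟨[(14, 3), (16, 3), (19, 3), (22, 3), (24, 3), (27, 3), (29, 3), (36, 3), (44, 3), (69, 3)], []⟩]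

def l40 : Line := .forb 3 654815023890 654818156565 [(1, 9), (4, 10), (4, 14), (1, 19), (4, 27), (1, 38), (1, 39), (4, 49), (4, 64), (1, 67)] [⟨[(67, 20), (27, 10), (10, 4), (39, 4), (64, 20), (9, 4), (38, 1), (14, 10), (49, 10), (19, 1)], []⟩, ⟨[(10, 1), (9, 20), (67, 0), (49, 1), (38, 20), (27, 1), (64, 1), (19, 20), (39, 20), (14, 0)], []⟩, ⟨[(9, 2), (10, 2), (14, 2), (19, 2), (27, 2), (38, 2), (39, 2), (49, 2), (64, 2), (67, 2)], []⟩, ⟨[(9, 3), (10, 3), (14, 3), (19, 3), (27, 3), (38, 3), (39, 3), (49, 3), (64, 3), (67, 3)], []⟩]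

def l41 : Line := .forb 3 654814892340 654817891365 [(1, 2), (1, 13), (1, 16), (4, 20), (4, 32), (1, 36), (1, 38), (4, 59), (4, 64), (4, 71)] [⟨[(38, 4), (2, 4), (13, 4), (71, 4), (64, 10), (16, 1), (36, 10), (20, 10), (59, 1), (32, 1)], []⟩, ⟨[(64, 4), (59, 0), (20, 0), (16, 0), (38, 10), (71, 10), (32, 4), (13, 0), (2, 10), (36, 4)], []⟩, ⟨[(2, 2), (13, 2), (16, 2), (20, 2), (32, 2), (36, 2), (38, 2), (59, 2), (64, 2), (71, 2)], []⟩, ⟨[(2, 3), (13, 3), (16, 3), (20, 3), (32, 3), (36, 3), (38, 3), (59, 3), (64, 3), (71, 3)], []⟩]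

def l42 : Line := .forb 1 654816052050 654816059475 [(1, 9), (1, 10), (1, 11), (1, 12), (1, 13), (1, 52), (1, 53), (1, 55), (1, 56), (1, 57), (1, 59), (1, 60)] [⟨[(10, 4), (56, 0), (11, 10), (60, 0), (57, 4), (9, 20), (53, 4), (52, 10), (55, 1), (59, 0), (12, 1), (13, 4)], []⟩, ⟨[(55, 1), (59, 10), (13, 4), (56, 20), (11, 10), (53, 20), (52, 1), (9, 20), (12, 1), (60, 10), (10, 4), (57, 4)], []⟩]

def l43 : Line := .forb 2 654817121025 654818157825 [(1, 9), (1, 15), (1, 26), (1, 36), (1, 40), (1, 45), (1, 46), (1, 50), (1, 56), (1, 58), (1, 63), (1, 66)] [⟨[(66, 4), (36, 0), (56, 1), (15, 0), (63, 0), (46, 1), (45, 20), (58, 4), (26, 20), (50, 10), (40, 0), (9, 10)], []⟩, ⟨[(45, 10), (66, 4), (58, 20), (56, 20), (9, 1), (40, 1), (36, 1), (15, 0), (46, 0), (63, 4), (26, 20), (50, 10)], []⟩, ⟨[(9, 2), (15, 2), (26, 2), (36, 2),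 (40, 2), (45, 2), (46, 2), (50, 2), (56, 2), (58, 2), (63, 2), (66, 2)], []⟩, ⟨[(9, 3), (15, 3), (26, 3), (36, 3), (40, 3), (45, 3), (46, 3), (50, 3), (56, 3), (58, 3), (63, 3), (66, 3)], []⟩]

def l44 : Line := .forb 3 654818022480 654815941680 [(1, 7), (1, 8), (1, 9), (4, 12), (4, 24), (4, 25), (4, 40), (4, 42), (1, 61), (1, 69)] [⟨[(61, 10), (9, 4), (69, 1), (40, 20), (12, 0), (24, 1), (42, 1), (25, 20), (8, 1), (7, 10)], []⟩, ⟨[(42, 10), (12, 20), (24, 4), (8, 1), (9, 10), (69, 0), (61, 1), (7, 4), (40, 20), (25, 0)], []⟩, ⟨[(7, 2), (8, 2), (9, 2), (12, 2), (24, 2), (25, 2), (40, 2), (42, 2), (61, 2), (69, 2)], []⟩, ⟨[(7, 3), (8, 3), (9, 3), (12, 3), (24, 3), (25, 3), (40, 3), (42, 3), (61, 3), (69, 3)], []⟩]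

def l45 : Line := .forb 1 654818153730 654817120305 [(1, 5), (1, 6), (1, 7), (1, 29), (1, 37), (1, 39), (1, 41), (1, 42), (1, 44), (1, 45), (1, 46), (1, 49)] [⟨[(7, 1), (5, 4), (29, 20), (37, 1), (6, 4), (42, 4), (41, 20), (49, 1), (45, 10), (39, 1), (46, 1), (44, 10)], []⟩, ⟨[(45, 20), (29, 10), (39, 10), (6, 4), (41, 4), (7, 4), (37, 10), (44, 0), (42, 0), (5, 1), (49, 0), (46, 0)], []⟩]

def l46 : Line := .forb 3 654818944275 654817166100 [(1, 4), (1, 5), (4, 7), (4, 8), (1, 26), (4, 33), (1, 54), (1, 61), (4, 62), (4, 66)] [⟨[(54, 0), (61, 0), (62, 0), (66, 0), (5, 0), (8, 10), (26, 0), (4, 0), (33, 4), (7, 0)], []⟩, ⟨[(7, 20), (33, 1), (4, 1), (26, 1), (8, 20), (5, 20), (66, 20), (62, 20), (61, 1), (54, 1)], []⟩, ⟨[(4, 2), (5, 2), (7, 2), (8, 2), (26, 2), (33, 2), (54, 2), (61, 2), (62, 2), (66, 2)], []⟩, ⟨[(4, 3), (5,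 3), (7, 3), (8, 3), (26, 3), (33, 3), (54, 3), (61, 3), (62, 3), (66, 3)], []⟩]

def l47 : Line := .forb 3 654815023890 654818156565 [(1, 0), (1, 21), (4, 29), (1, 34), (1, 41), (4, 47), (4, 53), (1, 60), (4, 62), (4, 66)] [⟨[(60, 10), (41, 20), (47, 20), (21, 20), (0, 20), (53, 10), (66, 1), (34, 0), (29, 20), (62, 10)], []⟩, ⟨[(66, 0), (29, 0), (21, 0), (47, 10), (62, 4), (34, 4), (60, 20), (53, 1), (41, 10), (0, 0)], []⟩, ⟨[(0, 2), (21, 2), (29, 2), (34, 2), (41, 2), (47, 2), (53, 2), (60, 2), (62, 2), (66, 2)], []⟩, ⟨[(0, 3), (21, 3), (29, 3), (34, 3), (41, 3), (47, 3), (53, 3), (60, 3), (62, 3), (66, 3)], []⟩]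

def l48 : Line := .forb 3 654817050705 654816003330 [(1, 0), (4, 10), (1, 30), (4, 31), (1, 35), (4, 39), (1, 46), (1, 55), (4, 58), (4, 67)] [⟨[(30, 1), (39, 4), (55, 1), (58, 4), (0, 4), (31, 4), (35, 1), (46, 0), (67, 1), (10, 10)], []⟩, ⟨[(10, 20), (0, 1), (67, 0), (46, 20), (39, 10), (35, 4), (31, 1), (58, 10), (55, 4), (30, 0)], []⟩, ⟨[(0, 2), (10, 2), (30, 2), (31, 2), (35, 2), (39, 2), (46, 2), (55, 2), (58, 2), (67, 2)], []⟩, ⟨[(0, 3), (10, 3), (30, 3), (31, 3), (35, 3), (39, 3), (46, 3), (55, 3), (58, 3), (67, 3)], []⟩]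

def l49 : Line := .forb 2 654814818885 654814818885 [(1, 18), (1, 31), (1, 34), (1, 38), (1, 42), (1, 49), (1, 52), (1, 57), (1, 63), (1, 66), (1, 69), (1, 71)] [⟨[(57, 1), (69, 4), (66, 4), (49, 10), (71, 1), (38, 4), (63, 1), (18, 20), (52, 20), (34, 10), (31, 10), (42, 20)], []⟩, ⟨[(34, 20), (42, 1), (71, 10), (63, 1), (52, 0), (57, 4), (31, 20), (69, 1), (66, 20), (38, 0), (49, 4), (18, 10)], []⟩, ⟨[(18, 2), (31, 2), (34, 2), (38, 2), (42, 2), (49, 2), (52, 2), (57, 2), (63, 2), (66, 2), (69, 2), (71, 2)], []⟩, ⟨[(18, 3), (31, 3), (34, 3), (38, 3), (42, 3), (49, 3), (52, 3), (57, 3), (63, 3), (66, 3), (69, 3), (71, 3)], []⟩]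

def l50 : Line := .forb 3 654818218560 654819021360 [(1, 11), (4, 13), (1, 15), (4, 16), (4, 20), (1, 37), (4, 42), (1, 68), (1, 69), (4, 70)] [⟨[(68, 0), (20, 0), (69, 0), (70, 0), (16, 4), (11, 1), (13, 0), (15, 1), (37, 10), (42, 10)], []⟩, ⟨[(13, 4), (11, 10), (70, 10), (69, 4), (37, 4), (20, 10), (68, 10), (42, 4), (16, 10), (15, 4)], []⟩, ⟨[(11, 2), (13, 2), (15, 2), (16, 2), (20, 2), (37, 2), (42, 2), (68, 2), (69, 2), (70, 2)], []⟩, ⟨[(11, 3), (13, 3), (15, 3), (16, 3), (20, 3), (37, 3), (42, 3), (68, 3), (69, 3), (70, 3)], []⟩]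

def l51 : Line := .forb 3 654818955570 654818218020 [(1, 6), (4, 12), (1, 17), (4, 25), (4, 34), (4, 45), (1, 50), (1, 52), (4, 54), (1, 62)] [⟨[(52, 4), (34, 20), (50, 10), (45, 4), (54, 1), (12, 0), (62, 4), (17, 0), (25, 10), (6, 10)], []⟩, ⟨[(54, 10), (17, 20), (12, 1), (62, 1), (52, 0), (50, 4), (45, 10), (34, 0), (6, 4), (25, 20)], []⟩, ⟨[(6, 2), (12, 2), (17, 2), (25, 2), (34, 2), (45, 2), (50, 2), (52, 2), (54, 2), (62, 2)], []⟩, ⟨[(6, 3), (12, 3), (17, 3), (25, 3), (34, 3), (45, 3), (50, 3), (52, 3), (54, 3), (62, 3)], []⟩]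

def l52 : Line := .forb 3 654819000915 654816117315 [(1, 5), (4, 8), (1, 11), (4, 16), (1, 24), (4, 36), (4, 37), (4, 59), (1, 63), (1, 70)] [⟨[(24, 10), (36, 10), (63, 1), (37, 10), (70, 20), (59, 1), (8, 4), (16, 1), (5, 20), (11, 10)], []⟩, ⟨[(36, 4), (24, 20), (16, 20), (11, 1), (8, 1), (5, 10), (70, 0), (63, 10), (59, 4), (37, 0)], []⟩, ⟨[(5, 2), (8, 2), (11, 2), (16, 2), (24, 2), (36, 2), (37, 2), (59, 2), (63, 2), (70, 2)], []⟩, ⟨[(5, 3), (8, 3), (11, 3), (16, 3), (24, 3), (36, 3), (37, 3), (59, 3), (63, 3), (70, 3)], []⟩]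

def l53 : Line := .forb 3 654820058160 654820119360 [(1, 7), (1, 18), (4, 24), (4, 28), (4, 29), (1, 32), (4, 53), (1, 58), (1, 59), (4, 65)] [⟨[(58, 1), (32, 20), (53, 10), (29, 0), (24, 1), (7, 10), (65, 0), (59, 4), (18, 0), (28, 1)], []⟩, ⟨[(28, 4), (24, 0), (18, 0), (7, 10), (32, 0), (29, 0), (59, 4), (65, 0), (53, 10), (58, 0)], []⟩, ⟨[(7, 2), (18, 2), (24, 2), (28, 2), (29, 2), (32, 2), (53, 2), (58, 2), (59, 2), (65, 2)], []⟩, ⟨[(7, 3), (18, 3), (24, 3), (28, 3), (29, 3), (32, 3), (53, 3), (58, 3), (59, 3), (65, 3)], []⟩]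

def l54 : Line := .forb 2 654816851220 654816851220 [(1, 16), (1, 26), (1, 28), (1, 39), (1, 40), (1, 43), (1, 46), (1, 53), (1, 54), (1, 60), (1, 64), (1, 68)] [⟨[(46, 1), (43, 0), (40, 1), (64, 1), (28, 20), (26, 0), (16, 20), (60, 20), (68, 10), (53, 1), (39, 20), (54, 4)], []⟩, ⟨[(60, 20), (16, 0), (54, 1), (40, 1), (43, 20), (39, 0), (28, 20), (68, 20), (46, 0), (26, 1), (53, 20), (64, 4)], []⟩, ⟨[(16, 2), (26, 2), (28, 2), (39, 2), (40, 2), (43, 2), (46, 2), (53, 2), (54, 2), (60, 2), (64, 2), (68, 2)], []⟩, ⟨[(16, 3), (26, 3), (28, 3), (39, 3), (40, 3), (43, 3), (46, 3), (53, 3), (54, 3), (60, 3), (64, 3), (68, 3)], []⟩]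

def l55 : Line := .forb 2 654820062240 654820127040 [(1, 2), (1, 8), (1, 12), (1, 18), (1, 19), (1, 28), (1, 46), (1, 47), (1, 49), (1, 55), (1, 66), (1, 70)] [⟨[(66, 20), (47, 1), (49, 4), (28, 20), (70, 20), (18, 1), (55, 20), (8, 20), (12, 10), (46, 1), (2, 1), (19, 1)], []⟩, ⟨[(70, 10), (19, 1), (47, 20), (12, 4), (55, 4), (46, 0), (66, 4), (18, 20), (2, 10), (8, 4), (28, 10), (49, 20)], []⟩, ⟨[(2, 2), (8, 2), (12, 2), (18, 2), (19, 2), (28, 2), (46, 2), (47, 2), (49, 2), (55, 2), (66, 2), (70, 2)], []⟩, ⟨[(2, 3), (8, 3), (12, 3), (18, 3), (19, 3), (28, 3), (46, 3), (47, 3), (49, 3), (55, 3), (66, 3), (70, 3)], []⟩]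

def l56 : Line := .forb 2 654815007525 654815011125 [(1, 1), (1, 11), (1, 14), (1, 26), (1, 32), (1, 34), (1, 37), (1, 38), (1, 40), (1, 46), (1, 57), (1, 62)] [⟨[(26, 20), (46, 1), (38, 20), (1, 1), (40, 10), (62, 0), (57, 20), (14, 1), (32, 4), (11, 20), (37, 1), (34, 0)], []⟩, ⟨[(40, 0), (26, 0), (11, 10), (14, 4), (46, 10), (38, 4), (1, 20), (57, 0), (37, 1), (62, 10), (34, 10), (32, 20)], []⟩, ⟨[(1, 2), (11, 2), (14, 2), (26, 2), (32, 2), (34, 2), (37, 2), (38, 2), (40, 2), (46, 2), (57, 2), (62, 2)], []⟩, ⟨[(1, 3), (11, 3), (14, 3), (26, 3), (32, 3), (34, 3), (37, 3), (38, 3), (40, 3), (46, 3), (57, 3), (62, 3)], []⟩]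

def l57 : Line := .forb 2 654817038405 654814823730 [(1, 3), (1, 7), (1, 12), (1, 14), (1, 15), (1, 16), (1, 26), (1, 30), (1, 31), (1, 45), (1, 51), (1, 60)] [⟨[(31, 10), (12, 10), (7, 4), (15, 4), (14, 10), (51, 1), (30, 0), (26, 0), (3, 4), (60, 20), (16, 20), (45, 1)], []⟩, ⟨[(12, 20), (14, 0), (16, 4), (26, 0), (31, 0), (3, 20), (7, 0), (45, 0), (60, 4), (51, 1), (30, 20), (15, 10)], []⟩, ⟨[(3, 2), (7, 2), (12, 2), (14, 2), (15, 2), (16, 2), (26, 2), (30, 2), (31, 2), (45, 2), (51, 2), (60, 2)], []⟩, ⟨[(3, 3), (7, 3), (12, 3), (14, 3), (15, 3), (16, 3), (26, 3), (30, 3), (31, 3), (45, 3), (51, 3), (60, 3)], []⟩]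

def l58 : Line := .forb 2 654820115505 654820119555 [(1, 2), (1, 11), (1, 12), (1, 26), (1, 28), (1, 35), (1, 41), (1, 44), (1, 51), (1, 58), (1, 63), (1, 64)] [⟨[(44, 4), (63, 20), (64, 10), (41, 20), (35, 4), (28, 10), (26, 1), (2, 10), (58, 10), (51, 4), (11, 1), (12, 4)], []⟩, ⟨[(35, 20), (41, 4), (44, 4), (28, 0), (64, 1), (63, 20), (51, 4), (58, 20), (11, 1), (12, 20), (2, 4), (26, 20)], []⟩, ⟨[(2, 2), (11, 2), (12, 2), (26, 2), (28, 2), (35, 2), (41, 2), (44, 2), (51, 2), (58, 2), (63, 2), (64, 2)], []⟩, ⟨[(2, 3), (11, 3), (12, 3), (26, 3), (28, 3), (35, 3), (41, 3), (44, 3), (51, 3), (58, 3), (63, 3), (64, 3)], []⟩]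

def l59 : Line := .forb 1 654815921460 654816842835 [(1, 1), (1, 15), (1, 16), (1, 18), (1, 19), (1, 21), (1, 25), (1, 61), (1, 62), (1, 63), (1, 64), (1, 65)] [⟨[(62, 20), (19, 1), (15, 1), (1, 10), (64, 4), (21, 10), (25, 4), (18, 20), (65, 10), (16, 4), (63, 20), (61, 1)], []⟩, ⟨[(61, 1), (65, 20), (62, 20), (25, 4), (63, 20), (64, 10), (18, 10), (1, 20), (16, 1), (19, 1), (21, 4), (15, 1)], []⟩]

def l60 : Line := .forb 1 654814885140 654816850965 [(1, 2), (1, 17), (1, 20), (1, 22), (1, 23), (1, 26), (1, 27), (1, 30), (1, 34), (1, 66), (1, 67), (1, 68)] [⟨[(26, 1), (34, 1), (68, 20), (22, 4), (2, 4), (27, 4), (66, 20), (30, 10), (67, 10), (23, 1), (20, 10), (17, 20)], []⟩, ⟨[(30, 10), (66, 20), (34, 4), (67, 10), (26, 1), (23, 20), (68, 10), (2, 4), (20, 10), (17, 1), (22, 4), (27, 4)], []⟩]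

def l61 : Line := .forb 1 654819067155 654817166355 [(1, 3), (1, 4), (1, 28), (1, 31), (1, 32), (1, 33), (1, 35), (1, 36), (1, 40), (1, 48), (1, 69), (1, 70)] [⟨[(3, 4), (32, 10), (35, 1), (4, 1), (48, 0), (28, 4), (40, 4), (31, 4), (70, 1), (36, 20), (69, 10), (33, 20)], []⟩, ⟨[(48, 1), (70, 10), (69, 4), (40, 1), (36, 1), (35, 1), (33, 20), (32, 20), (31, 20), (3, 20), (28, 10), (4, 4)], []⟩]

def l62 : Line := .forb 3 654818153730 654817120305 [(3, 64), (2, 65), (4, 66), (3, 68), (2, 69), (1, 71)] [⟨[(33, 4), (31, 10), (54, 10), (14, 20), (52, 1), (21, 10)], [⟨4, 0, 0, 0, [(27, 0), (68, 0)]⟩, ⟨3, 1, 0, 0, [(38, 0), (54, 0)]⟩, ⟨4, 3, 0, 0, [(5, 0), (45, 0)]⟩, ⟨4, 5, 0, 0, [(16, 0), (62, 0)]⟩, ⟨1, 6, 0, 0, [(19, 0), (61, 0)]⟩, ⟨4, 7, 0, 0, [(23, 0), (34, 0)]⟩, ⟨4, 8, 0, 0, [(35, 0), (36, 0)]⟩, ⟨1, 10, 0, 0, [(0, 0), (71, 0)]⟩,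 ⟨3, 11, 0, 0, [(9, 0), (57, 0)]⟩, ⟨3, 12, 0, 0, [(32, 0), (33, 0)]⟩, ⟨1, 13, 0, 0, [(4, 0), (70, 0)]⟩, ⟨3, 14, 0, 0, [(18, 0), (64, 0)]⟩, ⟨3, 15, 0, 0, [(6, 0), (44, 0)]⟩, ⟨3, 16, 0, 0, [(22, 0), (30, 0)]⟩, ⟨4, 17, 0, 0, [(21, 0), (25, 0)]⟩, ⟨3, 19, 0, 0, [(55, 0), (60, 0)]⟩, ⟨1, 20, 0, 0, [(37, 0), (49, 0)]⟩, ⟨1, 21, 0, 0, [(2, 0), (67, 0)]⟩, ⟨2, 22, 0, 0, [(28, 0), (48, 0)]⟩, ⟨3, 23, 0, 0, [(20, 0), (26, 0)]⟩, ⟨4, 25, 0, 0, [(8, 0), (58, 0)]⟩, ⟨2, 28, 0, 0, [(29, 0), (42, 0)]⟩, ⟨4, 30, 0, 0, [(17, 0), (66, 0)]⟩, ⟨1, 31, 0, 0, [(41, 0), (46, 0)]⟩, ⟨3, 32, 0, 0, [(13, 0), (52, 0)]⟩, ⟨1, 33, 0, 0, [(15, 0), (65, 0)]⟩, ⟨1, 34, 0, 0, [(11, 0), (53, 0)]⟩, ⟨2, 35, 0, 0, [(1, 0), (2, 0), (31, 0), (34, 0), (39, 0), (45, 0), (47, 0), (48, 0), (50, 0), (64, 0)]⟩, ⟨1, 36, 0, 0, [(4, 0), (10, 0), (13, 0), (30, 0), (31, 0), (43, 0), (47,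 0), (62, 0), (64, 0), (66, 0)]⟩, ⟨2, 37, 0, 0, [(3, 0), (21, 0), (23, 0), (35, 0), (38, 0), (46, 0), (49, 0), (58, 0), (65, 0), (67, 0)]⟩, ⟨2, 38, 0, 0, [(1, 0), (15, 0), (17, 0), (34, 0), (39, 0), (49, 0), (51, 0), (53, 0), (55, 0), (58, 0)]⟩, ⟨2, 39, 0, 0, [(14, 0), (16, 0), (19, 0), (22, 0), (24, 0), (27, 0), (29, 0), (36, 0), (44, 0), (69, 0)]⟩, ⟨3, 41, 0, 0, [(2, 0), (13, 0), (16, 0), (20, 0), (32, 0), (36, 0), (38, 0), (59, 0), (64, 0), (71, 0)]⟩, ⟨2, 42, 0, 0, [(9, 0), (10, 0), (11, 0), (12, 0), (13, 0), (52, 0), (53, 0), (55, 0), (56, 0), (57, 0), (59, 0), (60, 0)]⟩, ⟨3, 43, 0, 0, [(9, 0), (15, 0), (26, 0), (36, 0), (40, 0), (45, 0), (46, 0), (50, 0), (56, 0), (58, 0), (63, 0), (66, 0)]⟩, ⟨2, 44, 0, 0, [(7, 0), (8, 0), (9, 0), (12, 0), (24, 0), (25, 0), (40, 0), (42, 0), (61, 0), (69, 0)]⟩, ⟨3, 45, 0, 0, [(5, 0), (6,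 0), (7, 0), (29, 0), (37, 0), (39, 0), (41, 0), (42, 0), (44, 0), (45, 0), (46, 0), (49, 0)]⟩, ⟨4, 46, 0, 0, [(4, 0), (5, 0), (7, 0), (8, 0), (26, 0), (33, 0), (54, 0), (61, 0), (62, 0), (66, 0)]⟩, ⟨3, 47, 0, 0, [(0, 0), (21, 0), (29, 0), (34, 0), (41, 0), (47, 0), (53, 0), (60, 0), (62, 0), (66, 0)]⟩, ⟨1, 48, 0, 0, [(0, 0), (10, 0), (30, 0), (31, 0), (35, 0), (39, 0), (46, 0), (55, 0), (58, 0), (67, 0)]⟩, ⟨4, 50, 0, 0, [(11, 0), (13, 0), (15, 0), (16, 0), (20, 0), (37, 0), (42, 0), (68, 0), (69, 0), (70, 0)]⟩, ⟨4, 51, 0, 0, [(6, 0), (12, 0), (17, 0), (25, 0), (34, 0), (45, 0), (50, 0), (52, 0), (54, 0), (62, 0)]⟩, ⟨4, 52, 0, 0, [(5, 0), (8, 0), (11, 0), (16, 0), (24, 0), (36, 0), (37, 0), (59, 0), (63, 0), (70, 0)]⟩, ⟨4, 54, 0, 0, [(16, 0), (26, 0), (28, 0), (39, 0), (40, 0), (43, 0), (46, 0), (53, 0), (54, 0), (60, 0), (64,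 0), (68, 0)]⟩, ⟨2, 55, 0, 0, [(2, 0), (8, 0), (12, 0), (18, 0), (19, 0), (28, 0), (46, 0), (47, 0), (49, 0), (55, 0), (66, 0), (70, 0)]⟩, ⟨1, 56, 0, 0, [(1, 0), (11, 0), (14, 0), (26, 0), (32, 0), (34, 0), (37, 0), (38, 0), (40, 0), (46, 0), (57, 0), (62, 0)]⟩, ⟨4, 57, 0, 0, [(3, 0), (7, 0), (12, 0), (14, 0), (15, 0), (16, 0), (26, 0), (30, 0), (31, 0), (45, 0), (51, 0), (60, 0)]⟩, ⟨3, 58, 0, 0, [(2, 0), (11, 0), (12, 0), (26, 0), (28, 0), (35, 0), (41, 0), (44, 0), (51, 0), (58, 0), (63, 0), (64, 0)]⟩, ⟨4, 60, 0, 0, [(2, 0), (17, 0), (20, 0), (22, 0), (23, 0), (26, 0), (27, 0), (30, 0), (34, 0), (66, 0), (67, 0), (68, 0)]⟩, ⟨4, 61, 0, 0, [(3, 0), (4, 0), (28, 0), (31, 0), (32, 0), (33, 0), (35, 0), (36, 0), (40, 0), (48, 0), (69, 0), (70, 0)]⟩]⟩, ⟨[(8, 1), (43, 4), (48, 0), (35, 10), (22, 4), (25, 20)], [⟨1, 0, 0, 0, [(27,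 0), (68, 0)]⟩, ⟨3, 1, 0, 0, [(38, 0), (54, 0)]⟩, ⟨1, 2, 0, 0, [(14, 0), (50, 0)]⟩, ⟨4, 3, 0, 0, [(5, 0), (45, 0)]⟩, ⟨1, 4, 0, 0, [(3, 0), (69, 0)]⟩, ⟨1, 5, 0, 0, [(16, 0), (62, 0)]⟩, ⟨1, 7, 0, 0, [(23, 0), (34, 0)]⟩, ⟨3, 8, 0, 0, [(35, 0), (36, 0)]⟩, ⟨3, 9, 0, 0, [(1, 0), (63, 0)]⟩, ⟨2, 10, 0, 0, [(0, 0), (71, 0)]⟩, ⟨3, 11, 0, 0, [(9, 0), (57, 0)]⟩, ⟨1, 12, 0, 0, [(32, 0), (33, 0)]⟩, ⟨3, 13, 0, 0, [(4, 0), (70, 0)]⟩, ⟨3, 14, 0, 0, [(18, 0), (64, 0)]⟩, ⟨2, 15, 0, 0, [(6, 0), (44, 0)]⟩, ⟨2, 16, 0, 0, [(22, 0), (30, 0)]⟩, ⟨1, 17, 0, 0, [(21, 0), (25, 0)]⟩, ⟨2, 18, 0, 0, [(10, 0), (59, 0)]⟩, ⟨2, 19, 0, 0, [(55, 0), (60, 0)]⟩, ⟨3, 21, 0, 0, [(2, 0), (67, 0)]⟩, ⟨4, 22, 0, 0, [(28, 0), (48, 0)]⟩, ⟨1, 23, 0, 0, [(20, 0), (26, 0)]⟩, ⟨2, 24, 0, 0, [(31, 0), (40, 0)]⟩, ⟨2, 25, 0, 0, [(8, 0), (58, 0)]⟩, ⟨2, 26, 0, 0, [(7, 0), (39, 0)]⟩,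 ⟨2, 27, 0, 0, [(24, 0), (47, 0)]⟩, ⟨3, 28, 0, 0, [(29, 0), (42, 0)]⟩, ⟨4, 29, 0, 0, [(43, 0), (51, 0)]⟩, ⟨4, 30, 0, 0, [(17, 0), (66, 0)]⟩, ⟨2, 31, 0, 0, [(41, 0), (46, 0)]⟩, ⟨2, 32, 0, 0, [(13, 0), (52, 0)]⟩, ⟨4, 33, 0, 0, [(15, 0), (65, 0)]⟩, ⟨1, 35, 0, 0, [(1, 0), (2, 0), (31, 0), (34, 0), (39, 0), (45, 0), (47, 0), (48, 0), (50, 0), (64, 0)]⟩, ⟨1, 36, 0, 0, [(4, 0), (10, 0), (13, 0), (30, 0), (31, 0), (43, 0), (47, 0), (62, 0), (64, 0), (66, 0)]⟩, ⟨3, 37, 0, 0, [(3, 0), (21, 0), (23, 0), (35, 0), (38, 0), (46, 0), (49, 0), (58, 0), (65, 0), (67, 0)]⟩, ⟨2, 40, 0, 0, [(9, 0), (10, 0), (14, 0), (19, 0), (27, 0), (38, 0), (39, 0), (49, 0), (64, 0), (67, 0)]⟩, ⟨3, 41, 0, 0, [(2, 0), (13, 0), (16, 0), (20, 0), (32, 0), (36, 0), (38, 0), (59, 0), (64, 0), (71, 0)]⟩, ⟨3, 42, 0, 0, [(9, 0), (10, 0), (11, 0), (12, 0), (13, 0), (52,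 0), (53, 0), (55, 0), (56, 0), (57, 0), (59, 0), (60, 0)]⟩, ⟨2, 43, 0, 0, [(9, 0), (15, 0), (26, 0), (36, 0), (40, 0), (45, 0), (46, 0), (50, 0), (56, 0), (58, 0), (63, 0), (66, 0)]⟩, ⟨3, 45, 0, 0, [(5, 0), (6, 0), (7, 0), (29, 0), (37, 0), (39, 0), (41, 0), (42, 0), (44, 0), (45, 0), (46, 0), (49, 0)]⟩, ⟨1, 47, 0, 0, [(0, 0), (21, 0), (29, 0), (34, 0), (41, 0), (47, 0), (53, 0), (60, 0), (62, 0), (66, 0)]⟩, ⟨2, 48, 0, 0, [(0, 0), (10, 0), (30, 0), (31, 0), (35, 0), (39, 0), (46, 0), (55, 0), (58, 0), (67, 0)]⟩, ⟨4, 49, 0, 0, [(18, 0), (31, 0), (34, 0), (38, 0), (42, 0), (49, 0), (52, 0), (57, 0), (63, 0), (66, 0), (69, 0), (71, 0)]⟩, ⟨4, 50, 0, 0, [(11, 0), (13, 0), (15, 0), (16, 0), (20, 0), (37, 0), (42, 0), (68, 0), (69, 0), (70, 0)]⟩, ⟨3, 52, 0, 0, [(5, 0), (8, 0), (11, 0), (16, 0), (24, 0), (36, 0), (37, 0), (59, 0), (63,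 0), (70, 0)]⟩, ⟨3, 54, 0, 0, [(16, 0), (26, 0), (28, 0), (39, 0), (40, 0), (43, 0), (46, 0), (53, 0), (54, 0), (60, 0), (64, 0), (68, 0)]⟩, ⟨3, 55, 0, 0, [(2, 0), (8, 0), (12, 0), (18, 0), (19, 0), (28, 0), (46, 0), (47, 0), (49, 0), (55, 0), (66, 0), (70, 0)]⟩, ⟨1, 56, 0, 0, [(1, 0), (11, 0), (14, 0), (26, 0), (32, 0), (34, 0), (37, 0), (38, 0), (40, 0), (46, 0), (57, 0), (62, 0)]⟩, ⟨4, 58, 0, 0, [(2, 0), (11, 0), (12, 0), (26, 0), (28, 0), (35, 0), (41, 0), (44, 0), (51, 0), (58, 0), (63, 0), (64, 0)]⟩, ⟨1, 60, 0, 0, [(2, 0), (17, 0), (20, 0), (22, 0), (23, 0), (26, 0), (27, 0), (30, 0), (34, 0), (66, 0), (67, 0), (68, 0)]⟩, ⟨1, 61, 0, 0, [(3, 0), (4, 0), (28, 0), (31, 0), (32, 0), (33, 0), (35, 0), (36, 0), (40, 0), (48, 0), (69, 0), (70, 0)]⟩]⟩, ⟨[(64, 2), (65, 2), (66, 2), (68, 2), (69, 2), (71, 2)], []⟩, ⟨[(64, 3), (65,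 3), (66, 3), (68, 3), (69, 3), (71, 3)], []⟩]

def lines0 : List Line := [l0, l1, l2, l3, l4, l5, l6, l7, l8, l9, l10, l11, l12, l13, l14, l15, l16, l17, l18, l19, l20, l21, l22, l23, l24, l25, l26, l27, l28, l29, l30, l31, l32, l33, l34, l35, l36, l37, l38, l39, l40, l41, l42, l43, l44, l45, l46, l47, l48, l49]

def lines1 : List Line := [l50, l51, l52, l53, l54, l55, l56, l57, l58, l59, l60, l61, l62]

def final0 : List Item := [⟨2, 1, 0, 0, [(38, 0), (54, 0)]⟩, ⟨1, 2, 0, 0, [(14, 0), (50, 0)]⟩, ⟨1, 3, 0, 0, [(5, 0), (45, 0)]⟩, ⟨1, 4, 0, 0, [(3, 0), (69, 0)]⟩, ⟨4, 5, 0, 0, [(16, 0), (62, 0)]⟩, ⟨3, 6, 0, 0, [(19, 0), (61, 0)]⟩, ⟨3, 7, 0, 0, [(23, 0), (34, 0)]⟩, ⟨3, 8, 0, 0, [(35, 0), (36, 0)]⟩, ⟨4, 9, 0, 0, [(1, 0), (63, 0)]⟩, ⟨3, 10, 0, 0, [(0, 0), (71, 0)]⟩, ⟨2, 11, 0, 0, [(9, 0), (57, 0)]⟩, ⟨2, 12, 0, 0, [(32, 0), (33, 0)]⟩,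 ⟨3, 13, 0, 0, [(4, 0), (70, 0)]⟩, ⟨4, 16, 0, 0, [(22, 0), (30, 0)]⟩, ⟨4, 17, 0, 0, [(21, 0), (25, 0)]⟩, ⟨1, 18, 0, 0, [(10, 0), (59, 0)]⟩, ⟨3, 19, 0, 0, [(55, 0), (60, 0)]⟩, ⟨1, 20, 0, 0, [(37, 0), (49, 0)]⟩, ⟨1, 21, 0, 0, [(2, 0), (67, 0)]⟩, ⟨2, 22, 0, 0, [(28, 0), (48, 0)]⟩, ⟨1, 23, 0, 0, [(20, 0), (26, 0)]⟩, ⟨3, 24, 0, 0, [(31, 0), (40, 0)]⟩, ⟨4, 25, 0, 0, [(8, 0), (58, 0)]⟩, ⟨3, 26, 0, 0, [(7, 0), (39, 0)]⟩, ⟨2, 28, 0, 0, [(29, 0), (42, 0)]⟩, ⟨1, 29, 0, 0, [(43, 0), (51, 0)]⟩, ⟨2, 30, 0, 0, [(17, 0), (66, 0)]⟩, ⟨2, 31, 0, 0, [(41, 0), (46, 0)]⟩, ⟨3, 32, 0, 0, [(13, 0), (52, 0)]⟩, ⟨3, 33, 0, 0, [(15, 0), (65, 0)]⟩, ⟨3, 34, 0, 0, [(11, 0), (53, 0)]⟩, ⟨4, 35, 0, 0, [(1, 0), (2, 0), (31, 0), (34, 0), (39, 0), (45, 0), (47, 0), (48, 0), (50, 0), (64, 0)]⟩, ⟨2, 37, 0, 0, [(3, 0), (21, 0), (23, 0), (35, 0), (38, 0), (46, 0), (49,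 0), (58, 0), (65, 0), (67, 0)]⟩, ⟨1, 39, 0, 0, [(14, 0), (16, 0), (19, 0), (22, 0), (24, 0), (27, 0), (29, 0), (36, 0), (44, 0), (69, 0)]⟩, ⟨1, 40, 0, 0, [(9, 0), (10, 0), (14, 0), (19, 0), (27, 0), (38, 0), (39, 0), (49, 0), (64, 0), (67, 0)]⟩, ⟨4, 41, 0, 0, [(2, 0), (13, 0), (16, 0), (20, 0), (32, 0), (36, 0), (38, 0), (59, 0), (64, 0), (71, 0)]⟩, ⟨3, 42, 0, 0, [(9, 0), (10, 0), (11, 0), (12, 0), (13, 0), (52, 0), (53, 0), (55, 0), (56, 0), (57, 0), (59, 0), (60, 0)]⟩, ⟨2, 43, 0, 0, [(9, 0), (15, 0), (26, 0), (36, 0), (40, 0), (45, 0), (46, 0), (50, 0), (56, 0), (58, 0), (63, 0), (66, 0)]⟩, ⟨2, 44, 0, 0, [(7, 0), (8, 0), (9, 0), (12, 0), (24, 0), (25, 0), (40, 0), (42, 0), (61, 0), (69, 0)]⟩, ⟨2, 45, 0, 0, [(5, 0), (6, 0), (7, 0), (29, 0), (37, 0), (39, 0), (41, 0), (42, 0), (44, 0), (45, 0), (46, 0), (49, 0)]⟩]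

def final1 : List Item := [⟨1, 46, 0, 0, [(4, 0), (5, 0), (7, 0), (8, 0), (26, 0), (33, 0), (54, 0), (61, 0), (62, 0), (66, 0)]⟩, ⟨3, 48, 0, 0, [(0, 0), (10, 0), (30, 0), (31, 0), (35, 0), (39, 0), (46, 0), (55, 0), (58, 0), (67, 0)]⟩, ⟨2, 49, 0, 0, [(18, 0), (31, 0), (34, 0), (38, 0), (42, 0), (49, 0), (52, 0), (57, 0), (63, 0), (66, 0), (69, 0), (71, 0)]⟩, ⟨3, 51, 0, 0, [(6, 0), (12, 0), (17, 0), (25, 0), (34, 0), (45, 0), (50, 0), (52, 0), (54, 0), (62, 0)]⟩, ⟨1, 52, 0, 0, [(5, 0), (8, 0), (11, 0), (16, 0), (24, 0), (36, 0), (37, 0), (59, 0), (63, 0), (70, 0)]⟩, ⟨3, 53, 0, 0, [(7, 0), (18, 0), (24, 0), (28, 0), (29, 0), (32, 0), (53, 0), (58, 0), (59, 0), (65, 0)]⟩, ⟨4, 54, 0, 0, [(16, 0), (26, 0), (28, 0), (39, 0), (40, 0), (43, 0), (46, 0), (53, 0), (54, 0), (60, 0), (64, 0), (68, 0)]⟩, ⟨1, 55, 0, 0, [(2, 0), (8, 0), (12,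 0), (18, 0), (19, 0), (28, 0), (46, 0), (47, 0), (49, 0), (55, 0), (66, 0), (70, 0)]⟩, ⟨3, 56, 0, 0, [(1, 0), (11, 0), (14, 0), (26, 0), (32, 0), (34, 0), (37, 0), (38, 0), (40, 0), (46, 0), (57, 0), (62, 0)]⟩, ⟨1, 57, 0, 0, [(3, 0), (7, 0), (12, 0), (14, 0), (15, 0), (16, 0), (26, 0), (30, 0), (31, 0), (45, 0), (51, 0), (60, 0)]⟩, ⟨4, 59, 0, 0, [(1, 0), (15, 0), (16, 0), (18, 0), (19, 0), (21, 0), (25, 0), (61, 0), (62, 0), (63, 0), (64, 0), (65, 0)]⟩, ⟨1, 61, 0, 0, [(3, 0), (4, 0), (28, 0), (31, 0), (32, 0), (33, 0), (35, 0), (36, 0), (40, 0), (48, 0), (69, 0), (70, 0)]⟩, ⟨2, 62, 0, 0, [(64, 0), (65, 0), (66, 0), (68, 0), (69, 0), (71, 0)]⟩, ⟨4, 62, 0, 1, [(22, 0), (20, 4), (69, 0), (31, 0), (44, 10), (71, 20)]⟩, ⟨1, 62, 0, 4, [(36, 0), (33, 4), (44, 10), (45, 0), (53, 4), (71, 10)]⟩, ⟨3, 62, 0, 10, [(49, 20), (41, 0), (53,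 4), (57, 10), (61, 4), (71, 4)]⟩]

/-- The certificate. -/
def cert : Cert := ⟨72, 72, 60, tab, rtab, lines0 ++ lines1, final0 ++ final1⟩

end CfsgLib.AltLift.DataC3
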