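import Cfsg.Agent.AltLift.Checker

/-! Certificate data (DataC4). -/

set_option autoImplicit false
set_option maxHeartbeats 4000000
set_option maxRecDepth 10000

namespace CfsgLib.AltLift.DataC4

def tabaa : Table := .node 28 (.node 14 (.node 7 (.node 3 (.node 1 (.leaf 654820258320 0 0) (.node 1 (.leaf 654820000545 0 0) (.leaf 654820257825 1 0))) (.node 2 (.node 1 (.leaf 384523579920 2 0) (.leaf 654301213200 3 0)) (.node 1 (.leaf 654820049970 0 1) (.leaf 654820066050 1 1)))) (.node 3 (.node 1 (.leaf 384523322145 2 1) (.node 1 (.leaf 654300955425 3 1) (.leaf 654820000050 0 2))) (.node 2 (.node 1 (.leaf 654820258050 1 2) (.leaf 384523579425 2 2)) (.node 1 (.leaf 654301212705 3 2) (.leaf 436349448720 2 3))))) (.node 7 (.node 3 (.node 1 (.leaf 453210550800 3 3) (.node 1 (.leaf 384004534800 2 4) (.leaf 654820118595 0 5))) (.node 2 (.node 1 (.leaf 654820119600 1 5) (.leaf 384523371570 2 5)) (.node 1 (.leaf 654301004850 3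 5) (.leaf 654820115475 0 6)))) (.node 3 (.node 1 (.leaf 384523387650 2 6) (.node 1 (.leaf 654301020930 3 6) (.leaf 436349190945 2 7))) (.node 2 (.node 1 (.leaf 453210293025 3 7) (.leaf 384004277025 2 8)) (.node 1 (.leaf 654820065840 1 9) (.leaf 384523321650 2 9)))))) (.node 14 (.node 7 (.node 3 (.node 1 (.leaf 654300954930 3 9) (.node 1 (.leaf 654820000275 0 10) (.leaf 384523579650 2 10))) (.node 2 (.node 1 (.leaf 654301212930 3 10) (.leaf 436349448225 2 11)) (.node 1 (.leaf 453210550305 3 11) (.leaf 384004534305 2 12)))) (.node 3 (.node 1 (.leaf 508307976720 2 13) (.node 1 (.leaf 505036419600 2 14) (.leaf 521944707600 3 14))) (.node 2 (.node 1 (.leaf 435830403600 2 15) (.leaf 452990349840 3 15)) (.node 1 (.leaf 654820188420 0 16) (.leaf 384523440195 2 16))))) (.node 7 (.node 3 (.node 1 (.leaf 654301073475 3 16) (.node 1 (.leaf 654820188225 0 17) (.leaf 384523441200 2 17))) (.node 2 (.node 1 (.leaf 654301074480 3 17)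 (.leaf 436349240370 2 18)) (.node 1 (.leaf 453210342450 3 18) (.leaf 384004326450 2 19)))) (.node 3 (.node 1 (.leaf 654820184100 0 20) (.node 1 (.leaf 384523437075 2 20) (.leaf 654301070355 3 20))) (.node 2 (.node 1 (.leaf 436349256450 2 21) (.leaf 453210358530 3 21)) (.node 1 (.leaf 384004342530 2 22) (.leaf 508307718945 2 23))))))

def tabab : Table := .node 28 (.node 14 (.node 7 (.node 3 (.node 1 (.leaf 505036161825 2 24) (.node 1 (.leaf 521944449825 3 24) (.leaf 435830145825 2 25))) (.node 2 (.node 1 (.leaf 452990092065 3 25) (.leaf 384523387440 2 26)) (.node 1 (.leaf 654301020720 3 26) (.leaf 436349190450 2 27)))) (.node 3 (.node 1 (.leaf 453210292530 3 27) (.node 1 (.leaf 384004276530 2 28) (.leaf 384523321875 2 29))) (.node 2 (.node 1 (.leaf 654300955155 3 29) (.leaf 436349448450 2 30)) (.node 1 (.leaf 453210550530 3 30) (.leaf 384004534530 2 31))))) (.node 7 (.node 3 (.node 1 (.leaf 508307976225 2 32) (.node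 1 (.leaf 505036419105 2 33) (.leaf 521944707105 3 33))) (.node 2 (.node 1 (.leaf 435830403105 2 34) (.leaf 452990349345 3 34)) (.node 1 (.leaf 581524795920 2 35) (.leaf 576994947600 2 36)))) (.node 3 (.node 1 (.leaf 573770576400 2 37) (.node 1 (.leaf 509047222800 2 38) (.leaf 384523510020 2 40))) (.node 2 (.node 1 (.leaf 654301143300 3 40) (.leaf 436349308995 2 41)) (.node 1 (.leaf 453210411075 3 41) (.leaf 384004395075 2 42)))))) (.node 14 (.node 7 (.node 3 (.node 1 (.leaf 384523509825 2 43) (.node 1 (.leaf 654301143105 3 43) (.leaf 436349310000 2 44))) (.node 2 (.node 1 (.leaf 453210412080 3 44) (.leaf 384004396080 2 45)) (.node 1 (.leaf 508307768370 2 46) (.leaf 505036211250 2 47)))) (.node 3 (.node 1 (.leaf 521944499250 3 47) (.node 1 (.leaf 435830195250 2 48) (.leaf 452990141490 3 48))) (.node 2 (.node 1 (.leaf 384523505700 2 49) (.leaf 654301138980 3 49)) (.node 1 (.leaf 436349305875 2 50) (.leaf 453210407955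 3 50))))) (.node 7 (.node 3 (.node 1 (.leaf 384004391955 2 51) (.node 1 (.leaf 508307784450 2 52) (.leaf 505036227330 2 53))) (.node 2 (.node 1 (.leaf 521944515330 3 53) (.leaf 435830211330 2 54)) (.node 1 (.leaf 452990157570 3 54) (.leaf 581524538145 2 55)))) (.node 3 (.node 1 (.leaf 576994689825 2 56) (.node 1 (.leaf 573770318625 2 57) (.leaf 509046965025 2 58))) (.node 2 (.node 1 (.leaf 436349256240 2 60) (.leaf 453210358320 3 60)) (.node 1 (.leaf 384004342320 2 61) (.leaf 508307718450 2 62))))))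

def taba : Table := .node 56 tabaa tabab

def tabba : Table := .node 28 (.node 14 (.node 7 (.node 3 (.node 1 (.leaf 505036161330 2 63) (.node 1 (.leaf 521944449330 3 63) (.leaf 435830145330 2 64))) (.node 2 (.node 1 (.leaf 452990091570 3 64) (.leaf 436349190675 2 65)) (.node 1 (.leaf 453210292755 3 65) (.leaf 384004276755 2 66)))) (.node 3 (.node 1 (.leaf 508307976450 2 67) (.node 1 (.leaf 505036419330 2 68) (.leaf 521944707330 3 68))) (.node 2 (.node 1 (.leaf 435830403330 2 69) (.leaf 452990349570 3 69)) (.node 1 (.leaf 581524795425 2 70) (.leaf 576994947105 2 71))))) (.node 7 (.node 3 (.node 1 (.leaf 573770575905 2 72) (.node 1 (.leaf 509047222305 2 73) (.leaf 436349378820 2 79))) (.node 2 (.node 1 (.leaf 453210480900 3 79) (.leaf 384004464900 2 80)) (.node 1 (.leaf 508307836995 2 81) (.leaf 505036279875 2 82)))) (.node 3 (.node 1 (.leaf 521944567875 3 82) (.node 1 (.leaf 435830263875 2 83) (.leaf 452990210115 3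 83))) (.node 2 (.node 1 (.leaf 436349378625 2 84) (.leaf 453210480705 3 84)) (.node 1 (.leaf 384004464705 2 85) (.leaf 508307838000 2 86)))))) (.node 14 (.node 7 (.node 3 (.node 1 (.leaf 505036280880 2 87) (.node 1 (.leaf 521944568880 3 87) (.leaf 435830264880 2 88))) (.node 2 (.node 1 (.leaf 452990211120 3 88) (.leaf 581524587570 2 89)) (.node 1 (.leaf 576994739250 2 90) (.leaf 573770368050 2 91)))) (.node 3 (.node 1 (.leaf 509047014450 2 92) (.node 1 (.leaf 436349374500 2 94) (.leaf 453210476580 3 94))) (.node 2 (.node 1 (.leaf 384004460580 2 95) (.leaf 508307833875 2 96)) (.node 1 (.leaf 505036276755 2 97) (.leaf 521944564755 3 97))))) (.node 7 (.node 3 (.node 1 (.leaf 435830260755 2 98) (.node 1 (.leaf 452990206995 3 98) (.leaf 581524603650 2 99))) (.node 2 (.node 1 (.leaf 576994755330 2 100) (.leaf 573770384130 2 101)) (.node 1 (.leaf 509047030530 2 102) (.leaf 508307784240 2 108)))) (.node 3 (.node 1 (.leaf 505036227120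 2 109) (.node 1 (.leaf 521944515120 3 109) (.leaf 435830211120 2 110))) (.node 2 (.node 1 (.leaf 452990157360 3 110) (.leaf 581524537650 2 111)) (.node 1 (.leaf 576994689330 2 112) (.leaf 573770318130 2 113))))))

def tabbb : Table := .node 28 (.node 14 (.node 7 (.node 3 (.node 1 (.leaf 509046964530 2 114) (.node 1 (.leaf 508307718675 2 116) (.leaf 505036161555 2 117))) (.node 2 (.node 1 (.leaf 521944449555 3 117) (.leaf 435830145555 2 118)) (.node 1 (.leaf 452990091795 3 118) (.leaf 581524795650 2 119)))) (.node 3 (.node 1 (.leaf 576994947330 2 120) (.node 1 (.leaf 573770576130 2 121) (.leaf 509047222530 2 122))) (.node 2 (.node 1 (.leaf 508307906820 2 128) (.leaf 505036349700 2 129)) (.node 1 (.leaf 521944637700 3 129) (.leaf 435830333700 2 130))))) (.node 7 (.node 3 (.node 1 (.leaf 452990279940 3 130) (.node 1 (.leaf 581524656195 2 131) (.leaf 576994807875 2 132))) (.node 2 (.node 1 (.leaf 573770436675 2 133) (.leaf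 509047083075 2 134)) (.node 1 (.leaf 508307906625 2 136) (.leaf 505036349505 2 137)))) (.node 3 (.node 1 (.leaf 521944637505 3 137) (.node 1 (.leaf 435830333505 2 138) (.leaf 452990279745 3 138))) (.node 2 (.node 1 (.leaf 581524657200 2 139) (.leaf 576994808880 2 140)) (.node 1 (.leaf 573770437680 2 141) (.leaf 509047084080 2 142)))))) (.node 14 (.node 7 (.node 3 (.node 1 (.leaf 508307902500 2 148) (.node 1 (.leaf 505036345380 2 149) (.leaf 521944633380 3 149))) (.node 2 (.node 1 (.leaf 435830329380 2 150) (.leaf 452990275620 3 150)) (.node 1 (.leaf 581524653075 2 151) (.leaf 576994804755 2 152)))) (.node 3 (.node 1 (.leaf 573770433555 2 153) (.node 1 (.leaf 509047079955 2 154) (.leaf 581524603440 2 160))) (.node 2 (.node 1 (.leaf 576994755120 2 161) (.leaf 573770383920 2 162)) (.node 1 (.leaf 509047030320 2 163) (.leaf 581524537875 2 169))))) (.node 7 (.node 3 (.node 1 (.leaf 576994689555 2 170) (.node 1 (.leaf 573770318355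 2 171) (.leaf 509046964755 2 172))) (.node 2 (.node 1 (.leaf 581524726020 2 178) (.leaf 576994877700 2 179)) (.node 1 (.leaf 573770506500 2 180) (.leaf 509047152900 2 181)))) (.node 4 (.node 2 (.node 1 (.leaf 581524725825 2 187) (.leaf 576994877505 2 188)) (.node 1 (.leaf 573770506305 2 189) (.leaf 509047152705 2 190))) (.node 2 (.node 1 (.leaf 581524721700 2 196) (.leaf 576994873380 2 197)) (.node 1 (.leaf 573770502180 2 198) (.leaf 509047148580 2 199))))))

def tabb : Table := .node 56 tabba tabbb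

def tab : Table := .node 112 taba tabb

def rtab : Table := .node 8 (.node 4 (.node 2 (.node 1 (.leaf 654820258320 0 0) (.leaf 654820254465 0 0)) (.node 1 (.leaf 654820249650 1 0) (.leaf 590144090640 2 0))) (.node 2 (.node 1 (.leaf 509361795600 3 0) (.leaf 654820245795 1 1)) (.node 1 (.leaf 590144086785 2 1) (.leaf 509361791745 3 1)))) (.node 4 (.node 2 (.node 1 (.leaf 590144081970 2 2) (.leaf 509361786930 3 2)) (.node 1 (.leaf 444685627920 3 3) (.leaf 590144078115 2 5))) (.node 2 (.node 1 (.leaf 509361783075 3 5) (.leaf 444685624065 3 6)) (.node 1 (.leaf 444685619250 3 8) (.leaf 444685615395 3 11))))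

def l0 : Line := .forb 2 654820189200 654820131600 [(1, 129), (1, 137), (1, 149)] [⟨[(129, 5), (137, 2), (149, 1)], []⟩, ⟨[(149, 2), (129, 0), (137, 2)], []⟩]

def l1 : Line := .forb 2 288317012325 155441530725 [(1, 160), (1, 161), (1, 163)] [⟨[(160, 10), (161, 4), (163, 3)], []⟩, ⟨[(163, 4), (160, 0), (161, 4)], []⟩]

def l2 : Line := .forb 2 288316954725 215839508325 [(1, 67), (1, 68), (1, 69)] [⟨[(67, 3), (68, 10), (69, 4)], []⟩, ⟨[(69, 10), (67, 10), (68, 0)], []⟩]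

def l3 : Line := .forb 2 288316823670 215021619045 [(1, 2), (1, 72), (1, 74)] [⟨[(2, 3), (72, 10), (74, 4)], []⟩, ⟨[(74, 3), (2, 3), (72, 0)], []⟩]

def l4 : Line := .forb 2 288317081445 288317081445 [(1, 104), (1, 105), (1, 107)] [⟨[(104, 3), (105, 10), (107, 4)], []⟩, ⟨[(107, 4), (104, 0), (105, 4)], []⟩]

def l5 : Line := .forb 2 654820131600 654820189200 [(1, 16), (1, 17), (1, 20)] [⟨[(16, 1), (17, 5), (20, 2)], []⟩, ⟨[(20, 5), (16, 5), (17, 0)], []⟩]

def l6 : Line := .forb 2 654820258320 654820258320 [(1, 38), (1, 73), (1, 122)] [⟨[(38, 1), (73, 2), (122, 5)], []⟩, ⟨[(73, 0), (122, 0), (38, 0)], []⟩]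

def l7 : Line := .forb 2 654820131600 654820189200 [(1, 133), (1, 141), (1, 153)] [⟨[(133, 1), (141, 5), (153, 2)], []⟩, ⟨[(153, 5), (133, 5), (141, 0)], []⟩]

def l8 : Line := .forb 2 288316954725 215839508325 [(1, 13), (1, 14), (1, 15)] [⟨[(13, 3), (14, 10), (15, 4)], []⟩, ⟨[(15, 10), (13, 10), (14, 0)], []⟩]

def l9 : Line := .forb 2 654820258320 654820258320 [(1, 37), (1, 72), (1, 121)] [⟨[(37, 1), (72, 2), (121, 5)], []⟩, ⟨[(72, 0), (121, 0), (37, 0)], []⟩]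

def l10 : Line := .forb 2 288316954725 215839508325 [(1, 86), (1, 87), (1, 88)] [⟨[(86, 3), (87, 10), (88, 4)], []⟩, ⟨[(88, 10), (86, 10), (87, 0)], []⟩]

def l11 : Line := .forb 2 288316954725 215839508325 [(1, 96), (1, 97), (1, 98)] [⟨[(96, 3), (97, 10), (98, 4)], []⟩, ⟨[(98, 10), (96, 10), (97, 0)], []⟩]

def l12 : Line := .forb 2 288317081445 288317081445 [(1, 165), (1, 166), (1, 168)] [⟨[(165, 3), (166, 10), (168, 4)], []⟩, ⟨[(168, 4), (165, 0), (166, 4)], []⟩]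

def l13 : Line := .forb 2 654820189200 654820131600 [(1, 180), (1, 189), (1, 198)] [⟨[(180, 5), (189, 2), (198, 1)], []⟩, ⟨[(198, 2), (180, 0), (189, 2)], []⟩]

def l14 : Line := .forb 2 654820062240 654820127040 [(1, 91), (1, 101), (1, 162)] [⟨[(91, 5), (101, 1), (162, 2)], []⟩, ⟨[(101, 5), (162, 5), (91, 0)], []⟩]

def l15 : Line := .forb 2 654820131600 654820189200 [(1, 135), (1, 143), (1, 155)] [⟨[(135, 1), (143, 5), (155, 2)], []⟩, ⟨[(155, 5), (135, 5), (143, 0)], []⟩]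

def l16 : Line := .forb 2 288316885365 150660024165 [(1, 30), (1, 31), (1, 176)] [⟨[(30, 10), (31, 3), (176, 4)], []⟩, ⟨[(31, 10), (176, 3), (30, 4)], []⟩]

def l17 : Line := .forb 2 288317081445 288317081445 [(1, 174), (1, 175), (1, 177)] [⟨[(174, 3), (175, 10), (177, 4)], []⟩, ⟨[(177, 4), (174, 0), (175, 4)], []⟩]

def l18 : Line := .forb 2 654820258320 654820258320 [(1, 35), (1, 70), (1, 119)] [⟨[(35, 1), (70, 2), (119, 5)], []⟩, ⟨[(70, 0), (119, 0), (35, 0)], []⟩]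

def l19 : Line := .forb 2 654820000545 654820188420 [(1, 55), (1, 111), (1, 169)] [⟨[(55, 1), (111, 2), (169, 5)], []⟩, ⟨[(111, 0), (169, 0), (55, 0)], []⟩]

def l20 : Line := .forb 2 654820189200 654820131600 [(1, 182), (1, 191), (1, 200)] [⟨[(182, 5), (191, 2), (200, 1)], []⟩, ⟨[(200, 2), (182, 0), (191, 2)], []⟩]

def l21 : Line := .forb 2 654820131600 654820189200 [(1, 132), (1, 140), (1, 152)] [⟨[(132, 1), (140, 5), (152, 2)], []⟩, ⟨[(152, 5), (132, 5), (140, 0)], []⟩]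

def l22 : Line := .forb 2 654820189200 654820131600 [(1, 130), (1, 138), (1, 150)] [⟨[(130, 5), (138, 2), (150, 1)], []⟩, ⟨[(150, 2), (130, 0), (138, 2)], []⟩]

def l23 : Line := .forb 2 654820189200 654820131600 [(1, 216), (1, 220), (1, 224)] [⟨[(216, 5), (220, 2), (224, 1)], []⟩, ⟨[(224, 2), (216, 0), (220, 2)], []⟩]

def l24 : Line := .forb 2 288317081445 288317081445 [(1, 209), (1, 210), (1, 212)] [⟨[(209, 3), (210, 10), (212, 4)], []⟩, ⟨[(212, 4), (209, 0), (210, 4)], []⟩]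

def l25 : Line := .forb 2 288317012325 155441530725 [(1, 187), (1, 188), (1, 190)] [⟨[(187, 10), (188, 4), (190, 3)], []⟩, ⟨[(190, 4), (187, 0), (188, 4)], []⟩]

def l26 : Line := .forb 2 654820189200 654820131600 [(1, 40), (1, 43), (1, 49)] [⟨[(40, 5), (43, 2), (49, 1)], []⟩, ⟨[(49, 2), (40, 0), (43, 2)], []⟩]

def l27 : Line := .forb 2 654820131600 654820189200 [(1, 131), (1, 139), (1, 151)] [⟨[(131, 1), (139, 5), (151, 2)], []⟩, ⟨[(151, 5), (131, 5), (139, 0)], []⟩]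

def l28 : Line := .forb 2 288316885365 150660024165 [(1, 60), (1, 61), (1, 207)] [⟨[(60, 10), (61, 3), (207, 4)], []⟩, ⟨[(61, 10), (207, 3), (60, 4)], []⟩]

def l29 : Line := .forb 2 654820189200 654820131600 [(1, 213), (1, 217), (1, 221)] [⟨[(213, 5), (217, 2), (221, 1)], []⟩, ⟨[(221, 2), (213, 0), (217, 2)], []⟩]

def l30 : Line := .forb 2 288317012325 155441530725 [(1, 196), (1, 197), (1, 199)] [⟨[(196, 10), (197, 4), (199, 3)], []⟩, ⟨[(199, 4), (196, 0), (197, 4)], []⟩]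

def l31 : Line := .forb 2 654820131600 654820189200 [(1, 134), (1, 142), (1, 154)] [⟨[(134, 1), (142, 5), (154, 2)], []⟩, ⟨[(154, 5), (134, 5), (142, 0)], []⟩]

def l32 : Line := .forb 2 654820062240 654820127040 [(1, 5), (1, 6), (1, 26)] [⟨[(5, 5), (6, 1), (26, 2)], []⟩, ⟨[(6, 5), (26, 5), (5, 0)], []⟩]

def l33 : Line := .forb 2 288316954725 215839508325 [(1, 81), (1, 82), (1, 83)] [⟨[(81, 3), (82, 10), (83, 4)], []⟩, ⟨[(83, 10), (81, 10), (82, 0)], []⟩]

def l34 : Line := .forb 2 654820258320 654820258320 [(1, 36), (1, 71), (1, 120)] [⟨[(36, 1), (71, 2), (120, 5)], []⟩, ⟨[(71, 0), (120, 0), (36, 0)], []⟩]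

def l35 : Line := .forb 2 654820000545 654820188420 [(1, 58), (1, 114), (1, 172)] [⟨[(58, 1), (114, 2), (172, 5)], []⟩, ⟨[(114, 0), (172, 0), (58, 0)], []⟩]

def l36 : Line := .forb 2 288317081445 288317081445 [(1, 75), (1, 76), (1, 78)] [⟨[(75, 3), (76, 10), (78, 4)], []⟩, ⟨[(78, 4), (75, 0), (76, 4)], []⟩]

def l37 : Line := .forb 2 654820000545 654820188420 [(1, 7), (1, 27), (1, 65)] [⟨[(7, 1), (27, 2), (65, 5)], []⟩, ⟨[(27, 0), (65, 0), (7, 0)], []⟩]

def l38 : Line := .forb 2 288316885365 150660024165 [(1, 11), (1, 12), (1, 126)] [⟨[(11, 10), (12, 3), (126, 4)], []⟩, ⟨[(12, 10), (126, 3), (11, 4)], []⟩]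

def l39 : Line := .forb 2 288316823670 215021619045 [(1, 10), (1, 121), (1, 123)] [⟨[(10, 3), (121, 10), (123, 4)], []⟩, ⟨[(123, 3), (10, 3), (121, 0)], []⟩]

def l40 : Line := .forb 2 288317081445 288317081445 [(1, 201), (1, 202), (1, 204)] [⟨[(201, 3), (202, 10), (204, 4)], []⟩, ⟨[(204, 4), (201, 0), (202, 4)], []⟩]

def l41 : Line := .forb 2 654820189200 654820131600 [(1, 128), (1, 136), (1, 148)] [⟨[(128, 5), (136, 2), (148, 1)], []⟩, ⟨[(148, 2), (128, 0), (136, 2)], []⟩]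

def l42 : Line := .forb 2 288316885365 150660024165 [(1, 21), (1, 22), (1, 158)] [⟨[(21, 10), (22, 3), (158, 4)], []⟩, ⟨[(22, 10), (158, 3), (21, 4)], []⟩]

def l43 : Line := .forb 2 288317081445 288317081445 [(1, 124), (1, 125), (1, 127)] [⟨[(124, 3), (125, 10), (127, 4)], []⟩, ⟨[(127, 4), (124, 0), (125, 4)], []⟩]

def l44 : Line := .forb 2 654820258320 654820258320 [(1, 39), (1, 74), (1, 123)] [⟨[(39, 1), (74, 2), (123, 5)], []⟩, ⟨[(74, 0), (123, 0), (39, 0)], []⟩]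

def l45 : Line := .forb 2 288317081445 288317081445 [(1, 183), (1, 184), (1, 186)] [⟨[(183, 3), (184, 10), (186, 4)], []⟩, ⟨[(186, 4), (183, 0), (184, 4)], []⟩]

def l46 : Line := .forb 2 654820000545 654820188420 [(1, 56), (1, 112), (1, 170)] [⟨[(56, 1), (112, 2), (170, 5)], []⟩, ⟨[(112, 0), (170, 0), (56, 0)], []⟩]

def l47 : Line := .forb 2 288316885365 150660024165 [(1, 18), (1, 19), (1, 146)] [⟨[(18, 10), (19, 3), (146, 4)], []⟩, ⟨[(19, 10), (146, 3), (18, 4)], []⟩]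

def l48 : Line := .forb 2 654820000545 654820188420 [(1, 106), (1, 167), (1, 211)] [⟨[(106, 1), (167, 2), (211, 5)], []⟩, ⟨[(167, 0), (211, 0), (106, 0)], []⟩]

def l49 : Line := .forb 2 654820000545 654820188420 [(1, 8), (1, 28), (1, 66)] [⟨[(8, 1), (28, 2), (66, 5)], []⟩, ⟨[(28, 0), (66, 0), (8, 0)], []⟩]

def l50 : Line := .forb 2 654820062240 654820127040 [(1, 93), (1, 103), (1, 164)] [⟨[(93, 5), (103, 1), (164, 2)], []⟩, ⟨[(103, 5), (164, 5), (93, 0)], []⟩]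

def l51 : Line := .forb 2 288317081445 288317081445 [(1, 192), (1, 193), (1, 195)] [⟨[(192, 3), (193, 10), (195, 4)], []⟩, ⟨[(195, 4), (192, 0), (193, 4)], []⟩]

def l52 : Line := .forb 2 288317012325 155441530725 [(1, 178), (1, 179), (1, 181)] [⟨[(178, 10), (179, 4), (181, 3)], []⟩, ⟨[(181, 4), (178, 0), (179, 4)], []⟩]

def l53 : Line := .forb 2 288316954725 215839508325 [(1, 32), (1, 33), (1, 34)] [⟨[(32, 3), (33, 10), (34, 4)], []⟩, ⟨[(34, 10), (32, 10), (33, 0)], []⟩]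

def l54 : Line := .forb 2 654820189200 654820131600 [(1, 214), (1, 218), (1, 222)] [⟨[(214, 5), (218, 2), (222, 1)], []⟩, ⟨[(222, 2), (214, 0), (218, 2)], []⟩]

def l55 : Line := .forb 2 288317012325 155441530725 [(1, 99), (1, 100), (1, 102)] [⟨[(99, 10), (100, 4), (102, 3)], []⟩, ⟨[(102, 4), (99, 0), (100, 4)], []⟩]

def l56 : Line := .forb 2 288316885365 150660024165 [(1, 3), (1, 4), (1, 77)] [⟨[(3, 10), (4, 3), (77, 4)], []⟩, ⟨[(4, 10), (77, 3), (3, 4)], []⟩]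

def l57 : Line := .forb 2 288317012325 155441530725 [(1, 89), (1, 90), (1, 92)] [⟨[(89, 10), (90, 4), (92, 3)], []⟩, ⟨[(92, 4), (89, 0), (90, 4)], []⟩]

def l58 : Line := .forb 1 654820184640 654820065840 [(1, 1), (1, 4), (1, 30), (1, 83), (1, 86), (1, 89), (1, 97), (1, 102), (1, 115), (1, 126), (1, 161), (1, 171), (1, 214), (1, 220), (1, 221)] [⟨[(30, 5), (83, 1), (86, 5), (102, 1), (89, 2), (221, 5), (161, 0), (220, 0), (4, 13), (97, 3), (214, 0), (126, 2), (171, 8), (115, 13), (1, 1)], []⟩, ⟨[(4, 1), (86, 9), (97, 5), (115, 1), (1, 12), (161, 3), (171, 0), (89, 5), (126, 14), (83, 15), (102, 11), (30, 5), (221, 1), (214, 9), (220, 12)], []⟩]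

def l59 : Line := .forb 1 654820065840 654820184640 [(1, 29), (1, 36), (1, 59), (1, 70), (1, 80), (1, 81), (1, 84), (1, 87), (1, 98), (1, 113), (1, 122), (1, 144), (1, 159), (1, 206), (1, 223)] [⟨[(84, 5), (206, 1), (80, 13), (144, 5), (98, 1), (70, 1), (81, 2), (36, 5), (122, 0), (223, 0), (159, 5), (29, 5), (59, 15), (113, 6), (87, 11)], []⟩, ⟨[(80, 5), (122, 11), (223, 15), (36, 6), (81, 7), (29, 9), (87, 5), (113, 1), (59, 1), (84, 2), (70, 2), (159, 7), (206, 4), (144, 1), (98, 14)], []⟩]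

def l60 : Line := .forb 1 654820000275 654820180500 [(1, 18), (1, 22), (1, 38), (1, 49), (1, 71), (1, 83), (1, 86), (1, 97), (1, 104), (1, 119), (1, 168), (1, 180), (1, 191), (1, 207), (1, 210)] [⟨[(86, 2), (83, 1), (168, 1), (18, 5), (210, 2), (38, 1), (119, 5), (71, 0), (49, 1), (104, 5), (191, 13), (207, 0), (22, 10), (97, 3), (180, 8)], []⟩, ⟨[(97, 0), (86, 7), (119, 1), (22, 5), (38, 8), (191, 0), (49, 9), (180, 2), (168, 4), (71, 11), (210, 4), (18, 2), (207, 14), (83, 14), (104, 0)], []⟩]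

def l61 : Line := .forb 1 654820049970 654820118595 [(1, 14), (1, 20), (1, 32), (1, 56), (1, 69), (1, 85), (1, 94), (1, 111), (1, 133), (1, 143), (1, 145), (1, 156), (1, 172), (1, 208), (1, 215)] [⟨[(56, 0), (94, 0), (111, 0), (145, 0), (172, 0), (69, 0), (32, 2), (156, 2), (215, 0), (85, 10), (133, 3), (20, 0), (208, 5), (143, 15), (14, 3)], []⟩, ⟨[(133, 2), (85, 1), (20, 7), (172, 6), (143, 1), (32, 4), (14, 2), (56, 8), (94, 0), (215, 13), (156, 2), (208, 7), (111, 5), (145, 12), (69, 10)], []⟩]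

def l62 : Line := .forb 1 654820061220 654819995970 [(1, 0), (1, 23), (1, 41), (1, 45), (1, 63), (1, 72), (1, 118), (1, 123), (1, 144), (1, 157), (1, 178), (1, 190), (1, 197), (1, 203), (1, 208)] [⟨[(41, 0), (178, 0), (23, 0), (118, 0), (197, 2), (203, 2), (190, 0), (45, 10), (0, 0), (72, 8), (144, 0), (208, 5), (157, 0), (63, 8), (123, 15)], []⟩, ⟨[(45, 2), (0, 7), (63, 1), (23, 12), (72, 2), (41, 5), (123, 5), (203, 15), (208, 4), (144, 5), (197, 6), (178, 2), (190, 11), (118, 10), (157, 12)], []⟩]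

def l63 : Line := .forb 1 654820196865 654820196865 [(1, 6), (1, 8), (1, 38), (1, 65), (1, 71), (1, 81), (1, 87), (1, 91), (1, 98), (1, 119), (1, 164), (1, 167), (1, 214), (1, 220), (1, 221)] [⟨[(65, 5), (98, 5), (220, 5), (81, 5), (214, 1), (119, 2), (71, 1), (167, 5), (38, 1), (221, 0), (8, 13), (87, 8), (91, 6), (164, 10), (6, 2)], []⟩, ⟨[(8, 0), (81, 9), (119, 0), (87, 1), (38, 3), (6, 9), (91, 0), (65, 1), (164, 1), (71, 3), (167, 10), (98, 13), (221, 0), (214, 7), (220, 7)], []⟩]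

def l64 : Line := .forb 1 654820065795 654820180545 [(1, 7), (1, 35), (1, 40), (1, 66), (1, 71), (1, 81), (1, 88), (1, 97), (1, 122), (1, 144), (1, 157), (1, 167), (1, 191), (1, 198), (1, 208)] [⟨[(81, 0), (144, 0), (7, 0), (88, 0), (157, 2), (35, 0), (122, 0), (71, 2), (208, 5), (40, 0), (198, 3), (97, 8), (66, 10), (167, 2), (191, 15)], []⟩, ⟨[(97, 1), (71, 6), (66, 5), (81, 9), (122, 8), (40, 7), (191, 5), (198, 2), (35, 5), (208, 7), (144, 1), (88, 13), (167, 14), (7, 5), (157, 4)], []⟩]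

def l65 : Line := .forb 1 654820254465 654820254465 [(1, 26), (1, 27), (1, 66), (1, 75), (1, 93), (1, 101), (1, 106), (1, 127), (1, 129), (1, 134), (1, 138), (1, 139), (1, 148), (1, 152), (1, 175)] [⟨[(27, 1), (148, 0), (138, 5), (26, 1), (66, 15), (106, 5), (129, 6), (93, 15), (152, 1), (127, 1), (134, 2), (75, 5), (139, 5), (175, 0), (101, 11)], []⟩, ⟨[(66, 0), (129, 5), (148, 12), (127, 12), (106, 13), (27, 0), (138, 14), (175, 7), (101, 5), (139, 5), (93, 5), (152, 3), (26, 12), (134, 11), (75, 2)], []⟩]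

def l66 : Line := .forb 1 654820254480 654820254480 [(1, 1), (1, 19), (1, 21), (1, 78), (1, 113), (1, 124), (1, 129), (1, 132), (1, 136), (1, 139), (1, 150), (1, 154), (1, 173), (1, 175), (1, 207)] [⟨[(21, 2), (150, 0), (136, 1), (173, 13), (207, 5), (1, 2), (132, 2), (175, 0), (139, 1), (124, 0), (154, 5), (78, 2), (19, 10), (113, 11), (129, 8)], []⟩, ⟨[(19, 1), (136, 12), (129, 5), (175, 9), (21, 0), (78, 12), (113, 5), (154, 11), (1, 9), (132, 11), (173, 5), (139, 0), (207, 10), (124, 1), (150, 15)], []⟩]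

def l67 : Line := .forb 1 654820049700 654819991875 [(1, 0), (1, 42), (1, 44), (1, 56), (1, 74), (1, 111), (1, 121), (1, 129), (1, 138), (1, 147), (1, 148), (1, 157), (1, 172), (1, 203), (1, 205)] [⟨[(44, 5), (138, 2), (148, 5), (157, 5), (42, 13), (205, 1), (203, 0), (56, 1), (172, 5), (74, 15), (111, 0), (121, 11), (147, 5), (129, 6), (0, 1)], []⟩, ⟨[(42, 2), (148, 4), (129, 1), (172, 6), (203, 13), (56, 8), (44, 1), (121, 0), (74, 0), (157, 9), (0, 9), (205, 1), (111, 5), (138, 13), (147, 12)], []⟩]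

def l68 : Line := .forb 1 654820254465 654820254465 [(1, 6), (1, 7), (1, 28), (1, 78), (1, 91), (1, 125), (1, 128), (1, 132), (1, 137), (1, 142), (1, 150), (1, 151), (1, 164), (1, 174), (1, 211)] [⟨[(7, 5), (128, 1), (150, 0), (164, 13), (211, 5), (91, 11), (151, 1), (125, 1), (132, 2), (78, 5), (142, 5), (174, 0), (28, 13), (6, 5), (137, 11)], []⟩, ⟨[(28, 0), (137, 2), (128, 12), (125, 12), (7, 1), (174, 1), (6, 12), (142, 11), (91, 5), (151, 0), (164, 5), (132, 11), (211, 10), (78, 9), (150, 15)], []⟩]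

def l69 : Line := .forb 1 654820246290 654820253715 [(1, 16), (1, 21), (1, 56), (1, 61), (1, 75), (1, 111), (1, 127), (1, 130), (1, 136), (1, 141), (1, 146), (1, 149), (1, 155), (1, 172), (1, 175)] [⟨[(21, 1), (136, 0), (175, 5), (130, 0), (16, 1), (75, 1), (155, 10), (172, 2), (111, 1), (146, 2), (149, 11), (56, 1), (61, 10), (127, 2), (141, 11)], []⟩, ⟨[(61, 2), (149, 5), (172, 3), (136, 9), (127, 9), (56, 3), (175, 12), (155, 2), (16, 4), (21, 1), (130, 14), (141, 2), (146, 10), (111, 0), (75, 1)], []⟩]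

def l70 : Line := .forb 1 654820188420 654820000545 [(1, 8), (1, 10), (1, 39), (1, 48), (1, 53), (1, 65), (1, 72), (1, 108), (1, 134), (1, 139), (1, 152), (1, 167), (1, 216), (1, 217), (1, 222)] [⟨[(48, 0), (65, 0), (8, 10), (134, 0), (152, 0), (108, 5), (167, 0), (139, 5), (216, 0), (217, 0), (222, 0), (53, 8), (39, 10), (10, 0), (72, 8)], []⟩, ⟨[(108, 12), (8, 1), (167, 14), (39, 2), (72, 1), (53, 2), (65, 5), (10, 9), (139, 1), (152, 6), (134, 3), (48, 10), (222, 9), (216, 4), (217, 2)], []⟩]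

def l71 : Line := .forb 1 654820189185 654820131585 [(1, 5), (1, 13), (1, 28), (1, 33), (1, 65), (1, 69), (1, 101), (1, 106), (1, 134), (1, 140), (1, 151), (1, 164), (1, 216), (1, 218), (1, 221)] [⟨[(65, 0), (151, 2), (69, 5), (140, 0), (13, 1), (134, 0), (106, 2), (33, 8), (216, 2), (218, 1), (221, 5), (28, 15), (164, 14), (101, 6), (5, 0)], []⟩, ⟨[(28, 0), (5, 9), (13, 9), (101, 1), (33, 5), (164, 2), (65, 2), (69, 13), (151, 0), (134, 6), (140, 6), (106, 15), (218, 4), (221, 2), (216, 9)], []⟩]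

def l72 : Line := .forb 1 654820189185 654820131585 [(1, 6), (1, 7), (1, 15), (1, 32), (1, 66), (1, 68), (1, 93), (1, 132), (1, 139), (1, 154), (1, 162), (1, 167), (1, 214), (1, 217), (1, 224)] [⟨[(7, 2), (32, 2), (154, 2), (139, 0), (15, 1), (132, 0), (66, 10), (214, 2), (217, 1), (224, 5), (167, 5), (68, 11), (162, 8), (6, 1), (93, 10)], []⟩, ⟨[(66, 2), (68, 1), (93, 2), (6, 7), (32, 12), (162, 2), (167, 10), (154, 3), (132, 6), (139, 1), (7, 5), (15, 14), (217, 0), (224, 9), (214, 9)], []⟩]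

def l73 : Line := .forb 1 654820118580 654819988530 [(1, 0), (1, 24), (1, 64), (1, 72), (1, 79), (1, 85), (1, 92), (1, 99), (1, 116), (1, 123), (1, 161), (1, 184), (1, 192), (1, 204), (1, 223)] [⟨[(79, 2), (161, 2), (92, 2), (223, 1), (116, 0), (64, 0), (204, 2), (192, 2), (99, 1), (85, 13), (184, 5), (72, 8), (0, 1), (123, 13), (24, 8)], []⟩, ⟨[(85, 1), (72, 0), (123, 0), (79, 2), (24, 2), (116, 7), (99, 0), (161, 8), (0, 4), (223, 13), (92, 8), (192, 0), (204, 9), (184, 9), (64, 13)], []⟩]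

def l74 : Line := .forb 1 654820131600 654820189200 [(1, 1), (1, 19), (1, 35), (1, 60), (1, 73), (1, 115), (1, 120), (1, 130), (1, 136), (1, 149), (1, 158), (1, 171), (1, 184), (1, 195), (1, 201)] [⟨[(60, 1), (130, 1), (201, 1), (136, 0), (195, 1), (19, 15), (184, 2), (73, 1), (35, 5), (120, 0), (149, 8), (158, 5), (171, 11), (115, 14), (1, 5)], []⟩, ⟨[(19, 1), (136, 12), (120, 8), (149, 5), (35, 5), (158, 10), (73, 6), (115, 5), (1, 9), (171, 5), (130, 15), (60, 0), (201, 5), (184, 12), (195, 4)], []⟩]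

def l75 : Line := .forb 1 654820114755 654820049955 [(1, 3), (1, 31), (1, 43), (1, 48), (1, 52), (1, 58), (1, 109), (1, 111), (1, 126), (1, 170), (1, 180), (1, 183), (1, 195), (1, 200), (1, 202)] [⟨[(52, 0), (48, 1), (3, 0), (58, 2), (111, 1), (195, 0), (170, 2), (183, 0), (109, 3), (202, 2), (126, 0), (43, 1), (200, 13), (31, 14), (180, 3)], []⟩, ⟨[(109, 0), (52, 4), (31, 5), (200, 1), (43, 12), (111, 1), (180, 1), (170, 8), (48, 13), (58, 11), (3, 1), (195, 9), (202, 12), (126, 10), (183, 1)], []⟩]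

def l76 : Line := .forb 1 654820196880 654820196880 [(1, 19), (1, 21), (1, 29), (1, 35), (1, 57), (1, 71), (1, 82), (1, 86), (1, 98), (1, 115), (1, 122), (1, 207), (1, 213), (1, 220), (1, 222)] [⟨[(98, 2), (86, 2), (21, 1), (213, 2), (207, 2), (222, 1), (71, 2), (35, 1), (122, 1), (19, 14), (220, 1), (82, 11), (29, 0), (115, 10), (57, 8)], []⟩, ⟨[(86, 4), (82, 2), (19, 1), (71, 3), (21, 0), (122, 3), (57, 2), (29, 7), (115, 1), (207, 10), (35, 0), (98, 13), (220, 7), (222, 7), (213, 0)], []⟩]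

def l77 : Line := .forb 1 654820062240 654820127040 [(1, 9), (1, 14), (1, 32), (1, 42), (1, 44), (1, 57), (1, 69), (1, 144), (1, 159), (1, 173), (1, 178), (1, 188), (1, 199), (1, 203), (1, 206)] [⟨[(44, 2), (188, 5), (178, 1), (69, 2), (32, 1), (203, 5), (199, 0), (9, 5), (173, 15), (42, 15), (144, 1), (206, 0), (159, 2), (14, 6), (57, 6)], []⟩, ⟨[(42, 1), (57, 1), (9, 9), (32, 12), (14, 2), (44, 5), (173, 5), (159, 12), (206, 12), (203, 10), (188, 8), (199, 11), (178, 1), (69, 15), (144, 0)], []⟩]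

def l78 : Line := .forb 1 654820180260 654820000035 [(1, 10), (1, 37), (1, 42), (1, 46), (1, 50), (1, 53), (1, 58), (1, 74), (1, 110), (1, 111), (1, 170), (1, 194), (1, 214), (1, 217), (1, 224)] [⟨[(50, 1), (194, 1), (110, 5), (111, 2), (46, 2), (170, 1), (224, 2), (42, 14), (58, 2), (217, 0), (214, 0), (53, 8), (37, 8), (10, 1), (74, 13)], []⟩, ⟨[(42, 5), (50, 5), (46, 7), (10, 9), (53, 2), (37, 1), (111, 5), (194, 14), (74, 2), (170, 6), (58, 8), (110, 10), (217, 5), (224, 4), (214, 12)], []⟩]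

def l79 : Line := .forb 1 654820250115 654820246065 [(1, 27), (1, 40), (1, 66), (1, 78), (1, 81), (1, 87), (1, 92), (1, 98), (1, 100), (1, 106), (1, 125), (1, 160), (1, 174), (1, 189), (1, 200)] [⟨[(81, 5), (27, 1), (98, 5), (200, 13), (160, 0), (100, 0), (78, 1), (92, 5), (125, 0), (87, 8), (189, 6), (174, 0), (40, 2), (106, 5), (66, 10)], []⟩, ⟨[(87, 1), (66, 5), (81, 9), (125, 7), (40, 7), (189, 5), (160, 1), (200, 2), (92, 6), (98, 13), (174, 2), (100, 3), (78, 12), (27, 2), (106, 15)], []⟩]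

def l80 : Line := .forb 1 654820127040 654820062240 [(1, 4), (1, 9), (1, 30), (1, 46), (1, 54), (1, 57), (1, 109), (1, 126), (1, 173), (1, 181), (1, 184), (1, 187), (1, 195), (1, 197), (1, 201)] [⟨[(54, 5), (30, 1), (46, 5), (187, 2), (181, 1), (126, 5), (197, 0), (109, 6), (4, 14), (195, 5), (57, 6), (201, 0), (173, 15), (184, 5), (9, 0)], []⟩, ⟨[(46, 9), (4, 2), (109, 2), (9, 4), (173, 2), (30, 1), (57, 5), (54, 13), (126, 15), (187, 0), (201, 0), (197, 8), (184, 7), (181, 8), (195, 7)], []⟩]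

def l81 : Line := .forb 1 654820196370 654820196370 [(1, 16), (1, 18), (1, 22), (1, 23), (1, 35), (1, 64), (1, 73), (1, 117), (1, 120), (1, 141), (1, 155), (1, 207), (1, 213), (1, 218), (1, 224)] [⟨[(18, 0), (23, 0), (64, 2), (35, 0), (213, 0), (73, 0), (224, 2), (120, 0), (218, 0), (207, 5), (22, 10), (117, 11), (16, 0), (141, 3), (155, 10)], []⟩, ⟨[(22, 2), (117, 1), (23, 4), (16, 9), (120, 3), (155, 1), (35, 0), (141, 1), (73, 3), (18, 0), (207, 13), (64, 10), (224, 4), (213, 1), (218, 7)], []⟩]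

def l82 : Line := .forb 1 654820049460 654819988035 [(1, 2), (1, 39), (1, 56), (1, 79), (1, 83), (1, 85), (1, 87), (1, 96), (1, 114), (1, 121), (1, 145), (1, 159), (1, 169), (1, 205), (1, 223)] [⟨[(79, 0), (85, 10), (145, 2), (96, 0), (114, 0), (83, 1), (56, 0), (169, 2), (159, 1), (223, 2), (121, 6), (39, 10), (205, 2), (2, 0), (87, 6)], []⟩, ⟨[(85, 0), (223, 14), (114, 8), (87, 1), (39, 2), (96, 7), (121, 1), (2, 7), (169, 5), (79, 0), (205, 5), (145, 9), (56, 6), (159, 7), (83, 10)], []⟩]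

def l83 : Line := .forb 1 654820062210 654820126785 [(1, 15), (1, 16), (1, 28), (1, 32), (1, 65), (1, 68), (1, 106), (1, 143), (1, 144), (1, 153), (1, 157), (1, 179), (1, 187), (1, 199), (1, 208)] [⟨[(199, 0), (65, 1), (15, 0), (187, 5), (32, 0), (179, 1), (68, 3), (28, 15), (16, 2), (106, 0), (153, 11), (157, 2), (144, 0), (208, 1), (143, 14)], []⟩, ⟨[(143, 2), (28, 1), (32, 9), (16, 12), (68, 5), (153, 5), (15, 13), (106, 15), (208, 4), (65, 0), (144, 5), (199, 6), (179, 8), (187, 5), (157, 12)], []⟩]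

def l84 : Line := .forb 1 654820246035 654820246035 [(1, 18), (1, 43), (1, 56), (1, 61), (1, 78), (1, 81), (1, 88), (1, 97), (1, 114), (1, 124), (1, 158), (1, 169), (1, 175), (1, 180), (1, 200)] [⟨[(81, 2), (18, 0), (175, 0), (88, 2), (200, 10), (169, 1), (114, 5), (56, 0), (78, 0), (43, 5), (97, 11), (124, 0), (180, 6), (158, 2), (61, 13)], []⟩, ⟨[(97, 0), (61, 2), (114, 3), (81, 9), (175, 7), (43, 4), (200, 2), (180, 2), (169, 0), (78, 9), (88, 13), (56, 3), (124, 5), (18, 2), (158, 15)], []⟩]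

def l85 : Line := .forb 1 654820049475 654820049475 [(1, 11), (1, 31), (1, 40), (1, 56), (1, 77), (1, 83), (1, 86), (1, 97), (1, 111), (1, 144), (1, 159), (1, 172), (1, 189), (1, 200), (1, 206)] [⟨[(86, 1), (83, 2), (11, 1), (206, 1), (97, 6), (172, 5), (111, 2), (56, 5), (144, 5), (40, 1), (200, 14), (159, 5), (77, 5), (31, 10), (189, 3)], []⟩, ⟨[(97, 1), (86, 7), (31, 0), (172, 6), (83, 14), (200, 0), (40, 7), (189, 1), (56, 8), (159, 9), (206, 7), (111, 5), (11, 0), (77, 14), (144, 5)], []⟩]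

def l86 : Line := .forb 1 654820057860 654819992385 [(1, 2), (1, 8), (1, 27), (1, 39), (1, 121), (1, 128), (1, 132), (1, 138), (1, 139), (1, 144), (1, 149), (1, 154), (1, 157), (1, 208), (1, 211)] [⟨[(27, 5), (138, 1), (128, 2), (8, 14), (211, 1), (139, 0), (157, 0), (154, 2), (144, 1), (2, 0), (132, 2), (208, 2), (121, 8), (39, 15), (149, 6)], []⟩, ⟨[(8, 0), (128, 9), (149, 1), (211, 10), (27, 0), (2, 9), (154, 8), (39, 1), (132, 3), (208, 9), (121, 1), (139, 2), (144, 0), (157, 9), (138, 13)], []⟩]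

def l87 : Line := .forb 1 654819996180 654819996180 [(1, 10), (1, 19), (1, 21), (1, 37), (1, 74), (1, 81), (1, 88), (1, 97), (1, 105), (1, 168), (1, 181), (1, 188), (1, 196), (1, 207), (1, 209)] [⟨[(21, 2), (88, 1), (81, 0), (207, 5), (19, 10), (196, 2), (181, 0), (188, 2), (37, 8), (74, 15), (168, 2), (105, 1), (209, 1), (97, 8), (10, 1)], []⟩, ⟨[(19, 2), (81, 7), (97, 2), (21, 1), (207, 14), (10, 12), (74, 2), (37, 5), (209, 2), (105, 12), (196, 5), (181, 11), (188, 3), (88, 10), (168, 7)], []⟩]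

def l88 : Line := .forb 1 654820061220 654819995970 [(1, 2), (1, 25), (1, 39), (1, 42), (1, 50), (1, 62), (1, 117), (1, 121), (1, 147), (1, 156), (1, 181), (1, 188), (1, 194), (1, 196), (1, 206)] [⟨[(50, 2), (181, 0), (42, 10), (25, 0), (62, 2), (196, 2), (188, 0), (194, 0), (39, 10), (2, 2), (147, 0), (206, 5), (117, 3), (156, 0), (121, 11)], []⟩, ⟨[(42, 5), (39, 1), (194, 14), (62, 7), (117, 0), (2, 9), (121, 5), (50, 5), (206, 4), (147, 12), (196, 1), (181, 8), (25, 15), (188, 11), (156, 5)], []⟩]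

def l89 : Line := .forb 1 654820180500 654820000275 [(1, 10), (1, 19), (1, 39), (1, 56), (1, 60), (1, 72), (1, 81), (1, 87), (1, 98), (1, 111), (1, 158), (1, 172), (1, 213), (1, 218), (1, 224)] [⟨[(60, 0), (98, 5), (19, 13), (218, 5), (81, 0), (158, 0), (111, 5), (56, 2), (172, 5), (213, 1), (87, 3), (224, 0), (10, 2), (72, 6), (39, 13)], []⟩, ⟨[(19, 2), (81, 7), (158, 13), (172, 8), (87, 0), (60, 2), (10, 12), (72, 2), (39, 5), (56, 11), (98, 14), (111, 1), (224, 12), (213, 5), (218, 4)], []⟩]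

def l90 : Line := .forb 1 654820188180 654820000530 [(1, 0), (1, 19), (1, 21), (1, 25), (1, 62), (1, 72), (1, 117), (1, 123), (1, 131), (1, 142), (1, 152), (1, 207), (1, 214), (1, 217), (1, 224)] [⟨[(21, 0), (25, 2), (62, 1), (142, 0), (131, 0), (207, 0), (152, 2), (19, 13), (217, 1), (224, 1), (214, 0), (117, 8), (72, 3), (0, 0), (123, 14)], []⟩, ⟨[(19, 2), (62, 4), (117, 2), (123, 1), (0, 9), (21, 1), (72, 5), (207, 14), (152, 3), (131, 1), (142, 6), (25, 15), (217, 0), (224, 9), (214, 9)], []⟩]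

def l91 : Line := .forb 1 654820246305 654820253955 [(1, 26), (1, 42), (1, 50), (1, 55), (1, 75), (1, 91), (1, 103), (1, 112), (1, 125), (1, 129), (1, 136), (1, 150), (1, 172), (1, 177), (1, 194)] [⟨[(50, 2), (150, 2), (136, 2), (75, 2), (26, 5), (194, 1), (42, 10), (125, 5), (91, 3), (112, 2), (55, 1), (172, 1), (177, 1), (103, 14), (129, 3)], []⟩, ⟨[(42, 2), (136, 4), (129, 2), (112, 3), (177, 7), (50, 0), (194, 13), (172, 3), (75, 2), (91, 2), (26, 9), (103, 5), (55, 0), (125, 12), (150, 14)], []⟩]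

def l92 : Line := .forb 1 654820000050 654820184100 [(1, 17), (1, 35), (1, 47), (1, 52), (1, 73), (1, 79), (1, 95), (1, 107), (1, 110), (1, 120), (1, 135), (1, 153), (1, 166), (1, 209), (1, 219)] [⟨[(79, 5), (209, 2), (120, 5), (35, 5), (107, 5), (52, 1), (110, 0), (135, 13), (73, 1), (166, 1), (95, 15), (219, 0), (153, 3), (17, 5), (47, 8)], []⟩, ⟨[(95, 2), (120, 6), (153, 0), (17, 7), (35, 2), (47, 2), (52, 12), (166, 4), (135, 2), (73, 11), (219, 10), (79, 2), (209, 0), (107, 4), (110, 14)], []⟩]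

def l93 : Line := .forb 1 654819988515 654820114740 [(1, 14), (1, 32), (1, 41), (1, 43), (1, 51), (1, 69), (1, 89), (1, 102), (1, 107), (1, 161), (1, 166), (1, 182), (1, 194), (1, 198), (1, 209)] [⟨[(161, 1), (89, 5), (32, 1), (41, 2), (69, 0), (102, 5), (209, 5), (107, 5), (182, 13), (166, 1), (198, 3), (51, 13), (14, 11), (194, 5), (43, 5)], []⟩, ⟨[(198, 2), (43, 4), (14, 2), (51, 1), (32, 7), (182, 0), (161, 11), (89, 2), (166, 9), (102, 6), (209, 5), (194, 13), (69, 13), (41, 0), (107, 7)], []⟩]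

def l94 : Line := .forb 1 654820130835 654820181010 [(1, 22), (1, 25), (1, 36), (1, 40), (1, 60), (1, 62), (1, 73), (1, 117), (1, 119), (1, 146), (1, 183), (1, 191), (1, 195), (1, 198), (1, 202)] [⟨[(25, 2), (73, 2), (202, 2), (60, 2), (62, 5), (119, 5), (195, 0), (36, 1), (183, 0), (117, 3), (40, 2), (22, 13), (191, 13), (146, 0), (198, 11)], []⟩, ⟨[(62, 4), (191, 2), (73, 11), (22, 5), (117, 0), (40, 12), (119, 1), (198, 5), (36, 8), (25, 13), (195, 12), (146, 15), (202, 4), (60, 5), (183, 5)], []⟩]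

def l95 : Line := .forb 1 654820057920 654820057920 [(1, 4), (1, 29), (1, 30), (1, 59), (1, 113), (1, 126), (1, 130), (1, 134), (1, 136), (1, 139), (1, 147), (1, 149), (1, 152), (1, 157), (1, 205)] [⟨[(130, 0), (30, 0), (136, 0), (4, 10), (126, 0), (149, 8), (134, 0), (147, 0), (139, 0), (205, 5), (59, 10), (152, 0), (157, 0), (113, 8), (29, 5)], []⟩, ⟨[(136, 7), (4, 0), (149, 1), (126, 10), (30, 0), (130, 14), (59, 2), (139, 0), (29, 7), (152, 8), (157, 4), (113, 1), (134, 8), (205, 2), (147, 9)], []⟩]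

def l96 : Line := .forb 1 654820253745 654820250370 [(1, 6), (1, 25), (1, 62), (1, 78), (1, 80), (1, 93), (1, 94), (1, 117), (1, 124), (1, 134), (1, 140), (1, 151), (1, 162), (1, 175), (1, 219)] [⟨[(94, 0), (134, 0), (151, 2), (93, 10), (25, 0), (80, 10), (62, 2), (140, 0), (6, 2), (78, 0), (175, 0), (124, 2), (219, 5), (162, 11), (117, 3)], []⟩, ⟨[(80, 5), (93, 1), (6, 4), (175, 9), (62, 12), (219, 15), (117, 5), (162, 0), (78, 12), (151, 5), (134, 11), (140, 3), (94, 5), (124, 1), (25, 14)], []⟩]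

def l97 : Line := .forb 1 654820180500 654820000275 [(1, 0), (1, 18), (1, 22), (1, 58), (1, 74), (1, 82), (1, 88), (1, 96), (1, 112), (1, 121), (1, 169), (1, 207), (1, 214), (1, 220), (1, 221)] [⟨[(18, 1), (96, 5), (88, 0), (220, 5), (22, 10), (112, 5), (58, 2), (169, 5), (214, 1), (207, 0), (221, 0), (82, 3), (121, 8), (74, 13), (0, 1)], []⟩, ⟨[(22, 1), (82, 1), (96, 9), (169, 2), (207, 14), (121, 5), (74, 2), (0, 12), (58, 11), (18, 2), (112, 6), (88, 10), (221, 5), (214, 12), (220, 4)], []⟩]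

def l98 : Line := .forb 1 654820049475 654820049475 [(1, 3), (1, 12), (1, 43), (1, 55), (1, 82), (1, 88), (1, 96), (1, 114), (1, 147), (1, 157), (1, 170), (1, 176), (1, 182), (1, 198), (1, 205)] [⟨[(96, 1), (88, 1), (3, 5), (205, 1), (170, 5), (114, 2), (55, 5), (147, 5), (182, 13), (198, 8), (157, 5), (82, 8), (12, 13), (176, 0), (43, 0)], []⟩, ⟨[(82, 2), (96, 7), (12, 0), (170, 6), (198, 0), (182, 1), (43, 7), (55, 2), (157, 9), (205, 1), (114, 11), (88, 13), (176, 10), (3, 2), (147, 12)], []⟩]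

def l99 : Line := .forb 1 654819988290 654820057140 [(1, 4), (1, 16), (1, 30), (1, 90), (1, 99), (1, 107), (1, 126), (1, 129), (1, 138), (1, 141), (1, 148), (1, 155), (1, 163), (1, 166), (1, 209)] [⟨[(138, 5), (30, 2), (148, 0), (166, 5), (209, 5), (155, 15), (129, 6), (90, 1), (163, 0), (126, 1), (99, 2), (4, 13), (107, 1), (141, 8), (16, 5)], []⟩, ⟨[(148, 9), (4, 2), (129, 0), (163, 11), (90, 8), (166, 9), (138, 10), (141, 1), (155, 1), (30, 1), (16, 4), (126, 13), (99, 1), (209, 5), (107, 7)], []⟩]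

def l100 : Line := .forb 1 654820257825 654820258050 [(1, 6), (1, 23), (1, 42), (1, 44), (1, 64), (1, 76), (1, 91), (1, 117), (1, 124), (1, 164), (1, 177), (1, 181), (1, 187), (1, 197), (1, 203)] [⟨[(44, 0), (187, 5), (64, 5), (23, 2), (181, 1), (91, 6), (203, 5), (197, 0), (6, 0), (42, 10), (164, 10), (177, 2), (124, 1), (76, 1), (117, 11)], []⟩, ⟨[(42, 2), (6, 4), (23, 9), (117, 1), (164, 0), (124, 0), (44, 0), (91, 1), (177, 4), (203, 13), (76, 4), (187, 1), (197, 6), (181, 3), (64, 13)], []⟩]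

def l101 : Line := .forb 1 654819988515 654820114740 [(1, 15), (1, 33), (1, 40), (1, 45), (1, 50), (1, 67), (1, 90), (1, 99), (1, 104), (1, 163), (1, 168), (1, 185), (1, 189), (1, 200), (1, 210)] [⟨[(163, 1), (90, 5), (50, 1), (15, 5), (67, 0), (99, 5), (210, 5), (104, 5), (40, 1), (168, 1), (200, 10), (33, 6), (185, 2), (45, 15), (189, 11)], []⟩, ⟨[(200, 2), (189, 0), (45, 1), (67, 7), (33, 1), (40, 4), (163, 11), (90, 8), (168, 9), (99, 1), (210, 12), (15, 14), (50, 1), (185, 10), (104, 1)], []⟩]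

def l102 : Line := .forb 1 654819996705 654820126980 [(1, 5), (1, 14), (1, 34), (1, 42), (1, 50), (1, 67), (1, 101), (1, 107), (1, 164), (1, 165), (1, 179), (1, 187), (1, 194), (1, 199), (1, 210)] [⟨[(50, 2), (179, 2), (199, 1), (34, 2), (67, 1), (187, 1), (194, 2), (164, 14), (42, 15), (5, 2), (210, 0), (165, 0), (14, 6), (107, 2), (101, 6)], []⟩, ⟨[(42, 1), (101, 1), (164, 2), (67, 12), (14, 5), (5, 9), (50, 2), (210, 9), (194, 10), (107, 12), (199, 11), (179, 11), (34, 14), (187, 0), (165, 1)], []⟩]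

def l103 : Line := .forb 1 654819991860 654819988260 [(1, 2), (1, 39), (1, 46), (1, 53), (1, 84), (1, 95), (1, 105), (1, 110), (1, 121), (1, 131), (1, 142), (1, 152), (1, 168), (1, 209), (1, 215)] [⟨[(84, 5), (95, 10), (131, 2), (152, 5), (46, 0), (110, 1), (121, 3), (142, 2), (215, 1), (209, 1), (168, 5), (105, 0), (39, 10), (2, 0), (53, 8)], []⟩, ⟨[(95, 0), (215, 13), (2, 7), (121, 0), (53, 5), (46, 7), (209, 5), (39, 0), (84, 5), (152, 6), (131, 2), (142, 11), (105, 7), (168, 9), (110, 13)], []⟩]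

def l104 : Line := .forb 1 654820250115 654820246065 [(1, 8), (1, 49), (1, 65), (1, 75), (1, 82), (1, 88), (1, 89), (1, 96), (1, 102), (1, 127), (1, 161), (1, 167), (1, 175), (1, 180), (1, 191)] [⟨[(88, 2), (65, 0), (96, 5), (49, 1), (161, 0), (102, 0), (75, 1), (89, 5), (127, 0), (191, 13), (175, 0), (82, 11), (180, 8), (167, 1), (8, 15)], []⟩, ⟨[(96, 7), (8, 5), (82, 2), (127, 7), (180, 1), (191, 5), (161, 6), (49, 9), (89, 1), (175, 9), (102, 3), (88, 13), (75, 5), (65, 5), (167, 14)], []⟩]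

def l105 : Line := .forb 1 654819995940 654819995940 [(1, 2), (1, 37), (1, 45), (1, 48), (1, 50), (1, 53), (1, 107), (1, 108), (1, 123), (1, 166), (1, 178), (1, 185), (1, 188), (1, 199), (1, 209)] [⟨[(50, 0), (185, 1), (48, 2), (199, 5), (108, 0), (188, 0), (123, 15), (178, 0), (45, 15), (37, 6), (209, 2), (53, 6), (166, 1), (107, 1), (2, 2)], []⟩, ⟨[(45, 2), (50, 5), (108, 4), (123, 2), (53, 2), (37, 1), (166, 12), (2, 9), (185, 15), (209, 1), (188, 11), (48, 13), (199, 3), (178, 5), (107, 9)], []⟩]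

def l106 : Line := .forb 1 654820246065 654820250115 [(1, 26), (1, 55), (1, 76), (1, 81), (1, 85), (1, 87), (1, 93), (1, 94), (1, 98), (1, 101), (1, 114), (1, 124), (1, 170), (1, 177), (1, 215)] [⟨[(94, 0), (124, 5), (101, 11), (55, 1), (98, 0), (170, 5), (85, 14), (81, 5), (114, 0), (215, 1), (177, 1), (26, 1), (76, 2), (93, 15), (87, 11)], []⟩, ⟨[(85, 2), (170, 3), (124, 2), (26, 9), (81, 4), (101, 1), (215, 14), (87, 2), (93, 0), (94, 5), (55, 0), (177, 12), (114, 3), (76, 7), (98, 14)], []⟩]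

def l107 : Line := .forb 1 654820126740 654819996690 [(1, 10), (1, 21), (1, 23), (1, 39), (1, 61), (1, 64), (1, 72), (1, 117), (1, 146), (1, 178), (1, 184), (1, 188), (1, 195), (1, 199), (1, 201)] [⟨[(21, 5), (23, 5), (178, 1), (61, 13), (64, 1), (199, 0), (146, 5), (188, 5), (117, 11), (201, 1), (72, 6), (184, 2), (39, 15), (195, 5), (10, 0)], []⟩, ⟨[(61, 2), (117, 2), (10, 7), (146, 14), (23, 12), (39, 2), (21, 1), (72, 5), (64, 10), (188, 3), (201, 0), (199, 8), (184, 7), (178, 2), (195, 7)], []⟩]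

def l108 : Line := .forb 1 654819988260 654819991860 [(1, 10), (1, 37), (1, 41), (1, 45), (1, 74), (1, 90), (1, 102), (1, 107), (1, 128), (1, 138), (1, 149), (1, 160), (1, 165), (1, 203), (1, 210)] [⟨[(41, 0), (203, 2), (128, 2), (138, 1), (45, 10), (210, 0), (107, 2), (74, 14), (160, 2), (102, 1), (90, 0), (165, 5), (10, 5), (149, 11), (37, 6)], []⟩, ⟨[(45, 1), (41, 2), (149, 0), (128, 7), (203, 13), (102, 8), (160, 1), (210, 7), (10, 4), (74, 0), (37, 2), (90, 11), (107, 9), (138, 13), (165, 5)], []⟩]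

def l109 : Line := .forb 1 654820253715 654820246290 [(1, 19), (1, 23), (1, 43), (1, 60), (1, 64), (1, 75), (1, 117), (1, 127), (1, 132), (1, 142), (1, 151), (1, 158), (1, 175), (1, 182), (1, 198)] [⟨[(64, 5), (151, 5), (60, 0), (23, 1), (142, 2), (43, 5), (132, 5), (182, 13), (175, 2), (127, 1), (75, 1), (117, 11), (198, 3), (19, 13), (158, 2)], []⟩, ⟨[(23, 7), (43, 9), (19, 5), (117, 0), (182, 5), (127, 12), (198, 5), (175, 7), (142, 11), (151, 0), (132, 11), (64, 10), (75, 2), (158, 15), (60, 5)], []⟩]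

def l110 : Line := .forb 1 654820196370 654820196370 [(1, 17), (1, 19), (1, 25), (1, 38), (1, 60), (1, 63), (1, 71), (1, 116), (1, 119), (1, 135), (1, 153), (1, 158), (1, 216), (1, 217), (1, 222)] [⟨[(60, 5), (25, 0), (38, 0), (216, 0), (116, 5), (71, 0), (222, 2), (119, 0), (217, 0), (19, 10), (158, 0), (63, 8), (135, 10), (17, 0), (153, 3)], []⟩, ⟨[(19, 0), (116, 7), (135, 2), (119, 0), (63, 0), (153, 1), (38, 3), (17, 7), (71, 3), (158, 14), (60, 1), (25, 10), (222, 4), (216, 7), (217, 1)], []⟩]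

def l111 : Line := .forb 1 654820131120 654820185120 [(1, 29), (1, 36), (1, 47), (1, 54), (1, 57), (1, 73), (1, 84), (1, 95), (1, 108), (1, 115), (1, 119), (1, 184), (1, 192), (1, 204), (1, 215)] [⟨[(84, 0), (184, 0), (36, 0), (73, 2), (215, 0), (204, 2), (108, 5), (54, 0), (119, 5), (95, 14), (192, 0), (57, 3), (29, 0), (115, 14), (47, 3)], []⟩, ⟨[(95, 5), (73, 11), (57, 1), (115, 0), (84, 2), (119, 1), (47, 5), (108, 12), (29, 4), (215, 15), (36, 8), (192, 5), (204, 4), (184, 12), (54, 15)], []⟩]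

def l112 : Line := .forb 1 654820250160 654820250160 [(1, 9), (1, 59), (1, 78), (1, 79), (1, 82), (1, 85), (1, 86), (1, 89), (1, 98), (1, 100), (1, 124), (1, 163), (1, 171), (1, 175), (1, 223)] [⟨[(79, 2), (85, 13), (59, 14), (86, 0), (100, 0), (98, 2), (89, 1), (124, 0), (163, 2), (175, 2), (9, 5), (78, 5), (223, 1), (171, 6), (82, 8)], []⟩, ⟨[(85, 2), (223, 15), (175, 12), (82, 1), (171, 2), (86, 12), (9, 7), (100, 6), (59, 1), (163, 3), (78, 7), (89, 1), (79, 5), (124, 2), (98, 14)], []⟩]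

def l113 : Line := .forb 1 654820049700 654819991875 [(1, 10), (1, 39), (1, 45), (1, 50), (1, 55), (1, 72), (1, 114), (1, 128), (1, 137), (1, 145), (1, 150), (1, 156), (1, 170), (1, 185), (1, 208)] [⟨[(50, 0), (45, 15), (150, 5), (128, 1), (156, 5), (185, 1), (208, 1), (55, 1), (170, 5), (72, 11), (114, 0), (10, 5), (145, 5), (137, 8), (39, 13)], []⟩, ⟨[(45, 1), (185, 14), (128, 7), (137, 1), (170, 6), (50, 1), (55, 2), (10, 4), (72, 0), (156, 2), (39, 2), (208, 7), (114, 11), (150, 10), (145, 12)], []⟩]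

def l114 : Line := .forb 1 654819988260 654819991860 [(1, 0), (1, 42), (1, 50), (1, 72), (1, 89), (1, 100), (1, 105), (1, 123), (1, 130), (1, 137), (1, 148), (1, 163), (1, 168), (1, 194), (1, 209)] [⟨[(50, 2), (130, 2), (148, 5), (194, 0), (209, 0), (105, 2), (72, 8), (42, 10), (163, 2), (100, 1), (89, 0), (168, 5), (123, 15), (137, 6), (0, 1)], []⟩, ⟨[(42, 2), (148, 4), (137, 1), (50, 1), (100, 8), (163, 6), (209, 1), (194, 13), (123, 0), (72, 0), (0, 9), (89, 5), (105, 9), (130, 13), (168, 12)], []⟩]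

def l115 : Line := .forb 1 654820253745 654820250370 [(1, 5), (1, 23), (1, 63), (1, 75), (1, 79), (1, 85), (1, 101), (1, 118), (1, 125), (1, 131), (1, 142), (1, 152), (1, 164), (1, 177), (1, 223)] [⟨[(79, 0), (131, 0), (152, 2), (5, 0), (23, 0), (118, 0), (223, 0), (142, 0), (101, 8), (75, 0), (177, 0), (125, 2), (85, 15), (164, 15), (63, 8)], []⟩, ⟨[(85, 5), (5, 7), (101, 0), (177, 9), (63, 5), (23, 9), (79, 5), (164, 0), (75, 5), (152, 11), (131, 5), (142, 3), (223, 15), (125, 7), (118, 15)], []⟩]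

def l116 : Line := .forb 1 654820250160 654820250160 [(1, 29), (1, 57), (1, 76), (1, 80), (1, 81), (1, 88), (1, 92), (1, 94), (1, 97), (1, 99), (1, 115), (1, 127), (1, 161), (1, 174), (1, 219)] [⟨[(94, 1), (219, 1), (57, 8), (88, 0), (99, 0), (92, 1), (127, 0), (81, 2), (161, 2), (174, 2), (80, 14), (115, 15), (76, 5), (29, 1), (97, 8)], []⟩, ⟨[(80, 5), (94, 5), (174, 5), (81, 7), (29, 9), (115, 1), (99, 1), (97, 2), (57, 1), (161, 3), (219, 14), (76, 7), (92, 6), (127, 9), (88, 15)], []⟩]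

def l117 : Line := .forb 1 654820185120 654820131120 [(1, 1), (1, 13), (1, 33), (1, 41), (1, 45), (1, 69), (1, 89), (1, 100), (1, 113), (1, 163), (1, 173), (1, 203), (1, 213), (1, 220), (1, 222)] [⟨[(41, 0), (89, 0), (100, 2), (13, 0), (69, 0), (163, 5), (213, 0), (222, 0), (203, 2), (220, 5), (45, 10), (33, 8), (1, 0), (173, 10), (113, 8)], []⟩, ⟨[(45, 5), (1, 7), (113, 2), (33, 5), (13, 9), (173, 5), (100, 11), (163, 11), (41, 1), (89, 0), (203, 10), (69, 15), (220, 9), (222, 12), (213, 1)], []⟩]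

def l118 : Line := .forb 1 654820066050 654820188225 [(1, 7), (1, 17), (1, 28), (1, 36), (1, 70), (1, 122), (1, 130), (1, 135), (1, 136), (1, 145), (1, 149), (1, 153), (1, 156), (1, 208), (1, 211)] [⟨[(136, 5), (7, 2), (130, 1), (145, 1), (156, 0), (208, 0), (122, 2), (28, 15), (70, 1), (153, 11), (36, 1), (211, 5), (17, 0), (135, 10), (149, 3)], []⟩, ⟨[(149, 5), (28, 1), (136, 9), (122, 11), (36, 6), (70, 2), (135, 1), (211, 14), (17, 12), (156, 1), (153, 2), (7, 1), (208, 4), (145, 7), (130, 15)], []⟩]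

def l119 : Line := .forb 1 654820058160 654820119360 [(1, 1), (1, 15), (1, 32), (1, 68), (1, 80), (1, 94), (1, 113), (1, 131), (1, 142), (1, 145), (1, 152), (1, 159), (1, 173), (1, 205), (1, 219)] [⟨[(94, 2), (142, 1), (131, 2), (152, 1), (15, 2), (32, 1), (219, 0), (205, 5), (159, 2), (113, 8), (145, 2), (173, 13), (80, 10), (1, 2), (68, 6)], []⟩, ⟨[(80, 2), (173, 0), (1, 4), (113, 0), (32, 9), (68, 1), (94, 1), (152, 8), (131, 0), (205, 2), (142, 8), (145, 4), (219, 13), (159, 9), (15, 13)], []⟩]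

def l120 : Line := .forb 1 654820246065 654820250115 [(1, 6), (1, 58), (1, 75), (1, 79), (1, 83), (1, 86), (1, 91), (1, 95), (1, 97), (1, 112), (1, 127), (1, 164), (1, 169), (1, 175), (1, 219)] [⟨[(79, 1), (127, 5), (6, 5), (86, 5), (58, 1), (169, 5), (219, 2), (83, 5), (112, 0), (175, 1), (164, 13), (95, 10), (75, 2), (91, 11), (97, 3)], []⟩, ⟨[(95, 5), (169, 0), (127, 9), (97, 2), (164, 2), (6, 7), (79, 2), (86, 9), (91, 0), (58, 3), (175, 12), (219, 14), (112, 3), (75, 1), (83, 10)], []⟩]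

def l121 : Line := .forb 1 654819996225 654820061700 [(1, 3), (1, 12), (1, 26), (1, 83), (1, 86), (1, 93), (1, 97), (1, 101), (1, 105), (1, 165), (1, 176), (1, 179), (1, 190), (1, 196), (1, 212)] [⟨[(86, 5), (83, 1), (3, 1), (190, 2), (196, 5), (12, 15), (179, 1), (176, 5), (101, 11), (26, 1), (97, 3), (105, 1), (212, 5), (165, 0), (93, 15)], []⟩, ⟨[(97, 5), (86, 9), (12, 2), (93, 1), (26, 4), (176, 14), (101, 2), (3, 1), (165, 5), (212, 7), (83, 15), (190, 11), (196, 0), (179, 11), (105, 9)], []⟩]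

def l122 : Line := .forb 1 654820127760 654820127760 [(1, 9), (1, 13), (1, 19), (1, 21), (1, 33), (1, 59), (1, 69), (1, 171), (1, 179), (1, 183), (1, 187), (1, 195), (1, 199), (1, 202), (1, 207)] [⟨[(21, 1), (187, 0), (69, 1), (13, 0), (179, 0), (19, 14), (199, 2), (207, 2), (202, 0), (9, 0), (183, 1), (59, 10), (195, 1), (171, 8), (33, 3)], []⟩, ⟨[(19, 0), (9, 9), (13, 9), (33, 1), (171, 5), (207, 15), (59, 1), (21, 2), (199, 8), (195, 7), (179, 3), (202, 7), (187, 2), (183, 0), (69, 14)], []⟩]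

def l123 : Line := .forb 1 654820181025 654820131075 [(1, 6), (1, 13), (1, 34), (1, 41), (1, 51), (1, 56), (1, 68), (1, 91), (1, 111), (1, 164), (1, 172), (1, 194), (1, 216), (1, 217), (1, 222)] [⟨[(41, 1), (111, 1), (172, 2), (13, 1), (34, 0), (222, 1), (56, 5), (194, 2), (217, 1), (51, 10), (216, 2), (68, 11), (164, 10), (6, 0), (91, 11)], []⟩, ⟨[(51, 2), (6, 7), (164, 2), (68, 5), (13, 12), (172, 8), (91, 2), (41, 1), (56, 11), (194, 10), (111, 1), (34, 14), (222, 12), (216, 12), (217, 0)], []⟩]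

def l124 : Line := .forb 1 654820131585 654820189185 [(1, 6), (1, 28), (1, 35), (1, 65), (1, 71), (1, 93), (1, 106), (1, 122), (1, 128), (1, 138), (1, 149), (1, 162), (1, 184), (1, 192), (1, 204)] [⟨[(65, 1), (138, 0), (192, 1), (128, 0), (184, 2), (28, 14), (149, 8), (204, 1), (35, 2), (122, 1), (71, 1), (106, 2), (162, 11), (6, 2), (93, 14)], []⟩, ⟨[(28, 0), (128, 12), (71, 11), (149, 5), (122, 6), (106, 13), (138, 14), (35, 2), (6, 12), (93, 5), (162, 5), (65, 0), (192, 5), (204, 4), (184, 12)], []⟩]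

def l125 : Line := .forb 1 654820131600 654820189200 [(1, 21), (1, 29), (1, 38), (1, 59), (1, 61), (1, 71), (1, 113), (1, 119), (1, 129), (1, 138), (1, 146), (1, 148), (1, 183), (1, 193), (1, 204)] [⟨[(148, 2), (21, 5), (204, 1), (61, 13), (138, 0), (193, 1), (146, 5), (183, 2), (71, 1), (38, 5), (129, 6), (119, 0), (29, 5), (113, 8), (59, 15)], []⟩, ⟨[(129, 5), (61, 0), (119, 2), (146, 13), (148, 12), (38, 11), (21, 0), (71, 6), (113, 5), (59, 2), (138, 15), (29, 12), (204, 12), (183, 5), (193, 4)], []⟩]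

def l126 : Line := .forb 1 654820184130 654820065330 [(1, 12), (1, 16), (1, 25), (1, 30), (1, 62), (1, 77), (1, 90), (1, 102), (1, 117), (1, 143), (1, 153), (1, 160), (1, 213), (1, 220), (1, 222)] [⟨[(25, 2), (30, 0), (102, 2), (62, 5), (160, 5), (117, 6), (222, 0), (220, 1), (90, 0), (12, 10), (77, 2), (213, 2), (16, 2), (143, 13), (153, 11)], []⟩, ⟨[(62, 9), (12, 5), (143, 5), (117, 5), (16, 7), (25, 13), (102, 11), (160, 5), (153, 0), (77, 14), (30, 5), (90, 3), (220, 9), (222, 12), (213, 1)], []⟩]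

def l127 : Line := .forb 1 654820061760 654820061760 [(1, 1), (1, 4), (1, 11), (1, 82), (1, 86), (1, 98), (1, 113), (1, 147), (1, 156), (1, 173), (1, 176), (1, 179), (1, 187), (1, 199), (1, 206)] [⟨[(11, 2), (98, 2), (86, 0), (179, 2), (187, 1), (199, 5), (176, 5), (173, 10), (1, 2), (4, 13), (82, 3), (206, 2), (156, 1), (147, 0), (113, 11)], []⟩, ⟨[(4, 1), (86, 9), (82, 5), (113, 1), (1, 12), (173, 0), (11, 2), (206, 4), (147, 12), (176, 15), (98, 15), (199, 6), (179, 8), (187, 5), (156, 5)], []⟩]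

def l128 : Line := .forb 1 654820119300 654819992625 [(1, 0), (1, 27), (1, 66), (1, 74), (1, 90), (1, 99), (1, 106), (1, 121), (1, 130), (1, 136), (1, 149), (1, 163), (1, 183), (1, 193), (1, 204)] [⟨[(27, 1), (136, 1), (130, 2), (66, 14), (193, 2), (183, 1), (149, 6), (106, 5), (163, 0), (99, 0), (90, 5), (204, 0), (0, 1), (121, 11), (74, 10)], []⟩, ⟨[(66, 0), (149, 1), (136, 7), (106, 10), (163, 8), (90, 3), (130, 14), (27, 0), (74, 2), (0, 7), (121, 1), (99, 2), (204, 9), (183, 0), (193, 9)], []⟩]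

def l129 : Line := .forb 1 654820115505 654820119555 [(1, 5), (1, 15), (1, 32), (1, 56), (1, 68), (1, 84), (1, 95), (1, 101), (1, 114), (1, 164), (1, 169), (1, 183), (1, 195), (1, 202), (1, 215)] [⟨[(84, 0), (114, 0), (169, 0), (202, 0), (56, 0), (32, 5), (15, 0), (215, 2), (195, 5), (95, 13), (183, 1), (5, 2), (164, 14), (101, 11), (68, 6)], []⟩, ⟨[(95, 1), (164, 0), (5, 7), (114, 6), (101, 0), (68, 5), (32, 4), (84, 5), (169, 2), (215, 13), (56, 11), (195, 9), (202, 12), (183, 1), (15, 13)], []⟩]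

def l130 : Line := .forb 1 654820118595 654820049970 [(1, 4), (1, 25), (1, 30), (1, 43), (1, 63), (1, 92), (1, 100), (1, 116), (1, 126), (1, 160), (1, 182), (1, 186), (1, 192), (1, 198), (1, 202)] [⟨[(25, 0), (92, 0), (116, 0), (30, 0), (100, 2), (186, 0), (202, 0), (160, 5), (63, 3), (192, 5), (4, 10), (182, 10), (43, 0), (126, 2), (198, 3)], []⟩, ⟨[(116, 4), (182, 2), (63, 0), (4, 1), (198, 1), (160, 2), (92, 3), (43, 7), (25, 10), (100, 8), (126, 14), (202, 9), (186, 4), (30, 1), (192, 2)], []⟩]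

def l131 : Line := .forb 1 654820249650 654820249650 [(1, 17), (1, 24), (1, 62), (1, 75), (1, 85), (1, 92), (1, 94), (1, 100), (1, 118), (1, 127), (1, 135), (1, 153), (1, 160), (1, 175), (1, 215)] [⟨[(94, 5), (100, 5), (160, 1), (17, 5), (118, 5), (127, 5), (62, 0), (175, 5), (92, 5), (135, 13), (85, 14), (215, 1), (75, 1), (153, 3), (24, 6)], []⟩, ⟨[(85, 5), (153, 1), (17, 7), (127, 7), (62, 9), (160, 1), (24, 5), (92, 6), (135, 2), (175, 9), (215, 13), (94, 2), (100, 3), (75, 5), (118, 15)], []⟩]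

def l132 : Line := .forb 1 654819995940 654819995940 [(1, 10), (1, 39), (1, 42), (1, 44), (1, 46), (1, 54), (1, 72), (1, 104), (1, 109), (1, 168), (1, 179), (1, 190), (1, 196), (1, 203), (1, 210)] [⟨[(44, 5), (42, 13), (54, 1), (46, 2), (196, 5), (190, 0), (203, 0), (10, 5), (179, 0), (39, 13), (210, 2), (168, 1), (104, 1), (109, 3), (72, 8)], []⟩, ⟨[(42, 5), (203, 15), (46, 7), (109, 0), (10, 9), (39, 1), (44, 2), (168, 12), (72, 2), (210, 7), (190, 11), (196, 0), (179, 11), (54, 14), (104, 2)], []⟩]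

def lines0 : List Line := [l0, l1, l2, l3, l4, l5, l6, l7, l8, l9, l10, l11, l12, l13, l14, l15, l16, l17, l18, l19, l20, l21, l22, l23, l24, l25, l26, l27, l28, l29, l30, l31, l32, l33, l34, l35, l36, l37, l38, l39, l40, l41, l42, l43, l44, l45, l46, l47, l48, l49]

def lines1 : List Line := [l50, l51, l52, l53, l54, l55, l56, l57, l58, l59, l60, l61, l62, l63, l64, l65, l66, l67, l68, l69, l70, l71, l72, l73, l74, l75, l76, l77, l78, l79, l80, l81, l82, l83, l84, l85, l86, l87, l88, l89, l90, l91, l92, l93, l94, l95, l96, l97, l98, l99]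

def lines2 : List Line := [l100, l101, l102, l103, l104, l105, l106, l107, l108, l109, l110, l111, l112, l113, l114, l115, l116, l117, l118, l119, l120, l121, l122, l123, l124, l125, l126, l127, l128, l129, l130, l131, l132]

def final0 : List Item := [⟨1, 0, 0, 0, [(129, 0), (137, 0), (149, 0)]⟩, ⟨4, 1, 0, 0, [(160, 0), (161, 0), (163, 0)]⟩, ⟨4, 2, 0, 0, [(67, 0), (68, 0), (69, 0)]⟩, ⟨3, 3, 0, 0, [(2, 0), (72, 0), (74, 0)]⟩, ⟨3, 4, 0, 0, [(104, 0), (105, 0), (107, 0)]⟩, ⟨2, 5, 0, 0, [(16, 0), (17, 0), (20, 0)]⟩, ⟨2, 6, 0, 0, [(38, 0), (73, 0), (122, 0)]⟩, ⟨2, 7, 0, 0, [(133, 0), (141, 0), (153, 0)]⟩, ⟨4, 8, 0, 0, [(13, 0), (14, 0), (15, 0)]⟩, ⟨3, 9, 0, 0, [(37, 0), (72, 0), (121, 0)]⟩, ⟨3, 10, 0, 0, [(86, 0), (87, 0), (88, 0)]⟩, ⟨3, 11, 0, 0, [(96, 0), (97, 0), (98, 0)]⟩, ⟨3, 12, 0, 0, [(165, 0), (166, 0), (168, 0)]⟩, ⟨3, 13, 0, 0, [(180, 0), (189, 0), (198, 0)]⟩, ⟨3, 14, 0, 0, [(91, 0), (101, 0), (162, 0)]⟩, ⟨2,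 15, 0, 0, [(135, 0), (143, 0), (155, 0)]⟩, ⟨4, 16, 0, 0, [(30, 0), (31, 0), (176, 0)]⟩, ⟨3, 17, 0, 0, [(174, 0), (175, 0), (177, 0)]⟩, ⟨2, 18, 0, 0, [(35, 0), (70, 0), (119, 0)]⟩, ⟨2, 19, 0, 0, [(55, 0), (111, 0), (169, 0)]⟩, ⟨3, 20, 0, 0, [(182, 0), (191, 0), (200, 0)]⟩, ⟨4, 21, 0, 0, [(132, 0), (140, 0), (152, 0)]⟩, ⟨1, 22, 0, 0, [(130, 0), (138, 0), (150, 0)]⟩, ⟨3, 23, 0, 0, [(216, 0), (220, 0), (224, 0)]⟩, ⟨3, 24, 0, 0, [(209, 0), (210, 0), (212, 0)]⟩, ⟨1, 25, 0, 0, [(187, 0), (188, 0), (190, 0)]⟩, ⟨3, 26, 0, 0, [(40, 0), (43, 0), (49, 0)]⟩, ⟨4, 27, 0, 0, [(131, 0), (139, 0), (151, 0)]⟩, ⟨1, 28, 0, 0, [(60, 0), (61, 0), (207, 0)]⟩, ⟨3, 29, 0, 0, [(213, 0), (217, 0), (221, 0)]⟩, ⟨1, 30, 0, 0, [(196, 0), (197, 0), (199, 0)]⟩, ⟨4, 31, 0, 0, [(134, 0), (142, 0), (154, 0)]⟩, ⟨3, 32, 0, 0, [(5, 0), (6, 0), (26, 0)]⟩, ⟨3, 33, 0, 0, [(81, 0), (82, 0), (83, 0)]⟩, ⟨2, 34, 0, 0, [(36, 0), (71, 0), (120, 0)]⟩, ⟨2, 35, 0, 0,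 [(58, 0), (114, 0), (172, 0)]⟩, ⟨3, 36, 0, 0, [(75, 0), (76, 0), (78, 0)]⟩, ⟨3, 37, 0, 0, [(7, 0), (27, 0), (65, 0)]⟩, ⟨4, 38, 0, 0, [(11, 0), (12, 0), (126, 0)]⟩, ⟨3, 39, 0, 0, [(10, 0), (121, 0), (123, 0)]⟩]

def final1 : List Item := [⟨4, 40, 0, 0, [(201, 0), (202, 0), (204, 0)]⟩, ⟨1, 41, 0, 0, [(128, 0), (136, 0), (148, 0)]⟩, ⟨1, 42, 0, 0, [(21, 0), (22, 0), (158, 0)]⟩, ⟨3, 43, 0, 0, [(124, 0), (125, 0), (127, 0)]⟩, ⟨3, 44, 0, 0, [(39, 0), (74, 0), (123, 0)]⟩, ⟨4, 45, 0, 0, [(183, 0), (184, 0), (186, 0)]⟩, ⟨2, 46, 0, 0, [(56, 0), (112, 0), (170, 0)]⟩, ⟨1, 47, 0, 0, [(18, 0), (19, 0), (146, 0)]⟩, ⟨3, 48, 0, 0, [(106, 0), (167, 0), (211, 0)]⟩, ⟨3, 49, 0, 0, [(8, 0), (28, 0), (66, 0)]⟩, ⟨3, 50, 0, 0, [(93, 0), (103, 0), (164, 0)]⟩, ⟨4, 51, 0, 0, [(192, 0), (193, 0), (195, 0)]⟩, ⟨1, 52, 0, 0, [(178, 0), (179, 0), (181, 0)]⟩, ⟨4, 53, 0, 0, [(32, 0), (33, 0), (34, 0)]⟩, ⟨3, 54, 0, 0, [(214, 0), (218, 0), (222, 0)]⟩,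 ⟨4, 55, 0, 0, [(99, 0), (100, 0), (102, 0)]⟩, ⟨4, 56, 0, 0, [(3, 0), (4, 0), (77, 0)]⟩, ⟨4, 57, 0, 0, [(89, 0), (90, 0), (92, 0)]⟩, ⟨3, 58, 0, 0, [(1, 0), (4, 0), (30, 0), (83, 0), (86, 0), (89, 0), (97, 0), (102, 0), (115, 0), (126, 0), (161, 0), (171, 0), (214, 0), (220, 0), (221, 0)]⟩, ⟨4, 59, 0, 0, [(29, 0), (36, 0), (59, 0), (70, 0), (80, 0), (81, 0), (84, 0), (87, 0), (98, 0), (113, 0), (122, 0), (144, 0), (159, 0), (206, 0), (223, 0)]⟩, ⟨1, 60, 0, 0, [(18, 0), (22, 0), (38, 0), (49, 0), (71, 0), (83, 0), (86, 0), (97, 0), (104, 0), (119, 0), (168, 0), (180, 0), (191, 0), (207, 0), (210, 0)]⟩, ⟨3, 61, 0, 0, [(14, 0), (20, 0), (32, 0), (56, 0), (69, 0), (85, 0), (94, 0), (111, 0), (133, 0), (143, 0), (145, 0), (156, 0), (172, 0), (208, 0), (215, 0)]⟩, ⟨4, 62, 0, 0, [(0, 0), (23, 0), (41, 0), (45, 0), (63, 0), (72, 0), (118, 0), (123, 0), (144, 0), (157, 0), (178, 0), (190, 0), (197, 0), (203, 0), (208, 0)]⟩, ⟨2,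 63, 0, 0, [(6, 0), (8, 0), (38, 0), (65, 0), (71, 0), (81, 0), (87, 0), (91, 0), (98, 0), (119, 0), (164, 0), (167, 0), (214, 0), (220, 0), (221, 0)]⟩, ⟨3, 64, 0, 0, [(7, 0), (35, 0), (40, 0), (66, 0), (71, 0), (81, 0), (88, 0), (97, 0), (122, 0), (144, 0), (157, 0), (167, 0), (191, 0), (198, 0), (208, 0)]⟩, ⟨1, 65, 0, 0, [(26, 0), (27, 0), (66, 0), (75, 0), (93, 0), (101, 0), (106, 0), (127, 0), (129, 0), (134, 0), (138, 0), (139, 0), (148, 0), (152, 0), (175, 0)]⟩, ⟨2, 66, 0, 0, [(1, 0), (19, 0), (21, 0), (78, 0), (113, 0), (124, 0), (129, 0), (132, 0), (136, 0), (139, 0), (150, 0), (154, 0), (173, 0), (175, 0), (207, 0)]⟩, ⟨3, 67, 0, 0, [(0, 0), (42, 0), (44, 0), (56, 0), (74, 0), (111, 0), (121, 0), (129, 0), (138, 0), (147, 0), (148, 0), (157, 0), (172, 0), (203, 0), (205, 0)]⟩, ⟨2, 68, 0, 0, [(6, 0), (7, 0), (28, 0), (78, 0), (91, 0), (125, 0), (128, 0), (132, 0), (137, 0), (142, 0), (150, 0), (151, 0), (164,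 0), (174, 0), (211, 0)]⟩, ⟨2, 69, 0, 0, [(16, 0), (21, 0), (56, 0), (61, 0), (75, 0), (111, 0), (127, 0), (130, 0), (136, 0), (141, 0), (146, 0), (149, 0), (155, 0), (172, 0), (175, 0)]⟩, ⟨3, 70, 0, 0, [(8, 0), (10, 0), (39, 0), (48, 0), (53, 0), (65, 0), (72, 0), (108, 0), (134, 0), (139, 0), (152, 0), (167, 0), (216, 0), (217, 0), (222, 0)]⟩, ⟨3, 71, 0, 0, [(5, 0), (13, 0), (28, 0), (33, 0), (65, 0), (69, 0), (101, 0), (106, 0), (134, 0), (140, 0), (151, 0), (164, 0), (216, 0), (218, 0), (221, 0)]⟩, ⟨3, 72, 0, 0, [(6, 0), (7, 0), (15, 0), (32, 0), (66, 0), (68, 0), (93, 0), (132, 0), (139, 0), (154, 0), (162, 0), (167, 0), (214, 0), (217, 0), (224, 0)]⟩, ⟨1, 73, 0, 0, [(0, 0), (24, 0), (64, 0), (72, 0), (79, 0), (85, 0), (92, 0), (99, 0), (116, 0), (123, 0), (161, 0), (184, 0), (192, 0), (204, 0), (223, 0)]⟩, ⟨4, 74, 0, 0, [(1, 0), (19, 0), (35, 0), (60, 0), (73, 0), (115, 0), (120, 0), (130, 0), (136, 0), (149,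 0), (158, 0), (171, 0), (184, 0), (195, 0), (201, 0)]⟩, ⟨3, 75, 0, 0, [(3, 0), (31, 0), (43, 0), (48, 0), (52, 0), (58, 0), (109, 0), (111, 0), (126, 0), (170, 0), (180, 0), (183, 0), (195, 0), (200, 0), (202, 0)]⟩, ⟨1, 76, 0, 0, [(19, 0), (21, 0), (29, 0), (35, 0), (57, 0), (71, 0), (82, 0), (86, 0), (98, 0), (115, 0), (122, 0), (207, 0), (213, 0), (220, 0), (222, 0)]⟩, ⟨3, 77, 0, 0, [(9, 0), (14, 0), (32, 0), (42, 0), (44, 0), (57, 0), (69, 0), (144, 0), (159, 0), (173, 0), (178, 0), (188, 0), (199, 0), (203, 0), (206, 0)]⟩, ⟨4, 78, 0, 0, [(10, 0), (37, 0), (42, 0), (46, 0), (50, 0), (53, 0), (58, 0), (74, 0), (110, 0), (111, 0), (170, 0), (194, 0), (214, 0), (217, 0), (224, 0)]⟩, ⟨1, 79, 0, 0, [(27, 0), (40, 0), (66, 0), (78, 0), (81, 0), (87, 0), (92, 0), (98, 0), (100, 0), (106, 0), (125, 0), (160, 0), (174, 0), (189, 0), (200, 0)]⟩]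

def final2 : List Item := [⟨4, 80, 0, 0, [(4, 0), (9, 0), (30, 0), (46, 0), (54, 0), (57, 0), (109, 0), (126, 0), (173, 0), (181, 0), (184, 0), (187, 0), (195, 0), (197, 0), (201, 0)]⟩, ⟨2, 81, 0, 0, [(16, 0), (18, 0), (22, 0), (23, 0), (35, 0), (64, 0), (73, 0), (117, 0), (120, 0), (141, 0), (155, 0), (207, 0), (213, 0), (218, 0), (224, 0)]⟩, ⟨1, 82, 0, 0, [(2, 0), (39, 0), (56, 0), (79, 0), (83, 0), (85, 0), (87, 0), (96, 0), (114, 0), (121, 0), (145, 0), (159, 0), (169, 0), (205, 0), (223, 0)]⟩, ⟨2, 83, 0, 0, [(15, 0), (16, 0), (28, 0), (32, 0), (65, 0), (68, 0), (106, 0), (143, 0), (144, 0), (153, 0), (157, 0), (179, 0), (187, 0), (199, 0), (208, 0)]⟩, ⟨2, 84, 0, 0, [(18, 0), (43, 0), (56, 0), (61, 0), (78, 0), (81, 0), (88, 0), (97, 0), (114, 0), (124, 0), (158, 0), (169, 0), (175, 0), (180, 0), (200, 0)]⟩, ⟨3, 85, 0, 0, [(11, 0), (31, 0), (40, 0), (56, 0), (77, 0), (83, 0), (86, 0), (97, 0), (111, 0), (144,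 0), (159, 0), (172, 0), (189, 0), (200, 0), (206, 0)]⟩, ⟨1, 86, 0, 0, [(2, 0), (8, 0), (27, 0), (39, 0), (121, 0), (128, 0), (132, 0), (138, 0), (139, 0), (144, 0), (149, 0), (154, 0), (157, 0), (208, 0), (211, 0)]⟩, ⟨2, 87, 0, 0, [(10, 0), (19, 0), (21, 0), (37, 0), (74, 0), (81, 0), (88, 0), (97, 0), (105, 0), (168, 0), (181, 0), (188, 0), (196, 0), (207, 0), (209, 0)]⟩, ⟨2, 88, 0, 0, [(2, 0), (25, 0), (39, 0), (42, 0), (50, 0), (62, 0), (117, 0), (121, 0), (147, 0), (156, 0), (181, 0), (188, 0), (194, 0), (196, 0), (206, 0)]⟩, ⟨2, 89, 0, 0, [(10, 0), (19, 0), (39, 0), (56, 0), (60, 0), (72, 0), (81, 0), (87, 0), (98, 0), (111, 0), (158, 0), (172, 0), (213, 0), (218, 0), (224, 0)]⟩, ⟨1, 90, 0, 0, [(0, 0), (19, 0), (21, 0), (25, 0), (62, 0), (72, 0), (117, 0), (123, 0), (131, 0), (142, 0), (152, 0), (207, 0), (214, 0), (217, 0), (224, 0)]⟩, ⟨2, 91, 0, 0, [(26, 0), (42, 0), (50, 0), (55, 0), (75, 0), (91, 0), (103,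 0), (112, 0), (125, 0), (129, 0), (136, 0), (150, 0), (172, 0), (177, 0), (194, 0)]⟩, ⟨2, 92, 0, 0, [(17, 0), (35, 0), (47, 0), (52, 0), (73, 0), (79, 0), (95, 0), (107, 0), (110, 0), (120, 0), (135, 0), (153, 0), (166, 0), (209, 0), (219, 0)]⟩, ⟨2, 93, 0, 0, [(14, 0), (32, 0), (41, 0), (43, 0), (51, 0), (69, 0), (89, 0), (102, 0), (107, 0), (161, 0), (166, 0), (182, 0), (194, 0), (198, 0), (209, 0)]⟩, ⟨2, 94, 0, 0, [(22, 0), (25, 0), (36, 0), (40, 0), (60, 0), (62, 0), (73, 0), (117, 0), (119, 0), (146, 0), (183, 0), (191, 0), (195, 0), (198, 0), (202, 0)]⟩, ⟨1, 95, 0, 0, [(4, 0), (29, 0), (30, 0), (59, 0), (113, 0), (126, 0), (130, 0), (134, 0), (136, 0), (139, 0), (147, 0), (149, 0), (152, 0), (157, 0), (205, 0)]⟩, ⟨3, 96, 0, 0, [(6, 0), (25, 0), (62, 0), (78, 0), (80, 0), (93, 0), (94, 0), (117, 0), (124, 0), (134, 0), (140, 0), (151, 0), (162, 0), (175, 0), (219, 0)]⟩, ⟨4, 97, 0, 0, [(0, 0), (18, 0), (22, 0),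 (58, 0), (74, 0), (82, 0), (88, 0), (96, 0), (112, 0), (121, 0), (169, 0), (207, 0), (214, 0), (220, 0), (221, 0)]⟩, ⟨1, 98, 0, 0, [(3, 0), (12, 0), (43, 0), (55, 0), (82, 0), (88, 0), (96, 0), (114, 0), (147, 0), (157, 0), (170, 0), (176, 0), (182, 0), (198, 0), (205, 0)]⟩, ⟨4, 99, 0, 0, [(4, 0), (16, 0), (30, 0), (90, 0), (99, 0), (107, 0), (126, 0), (129, 0), (138, 0), (141, 0), (148, 0), (155, 0), (163, 0), (166, 0), (209, 0)]⟩, ⟨1, 100, 0, 0, [(6, 0), (23, 0), (42, 0), (44, 0), (64, 0), (76, 0), (91, 0), (117, 0), (124, 0), (164, 0), (177, 0), (181, 0), (187, 0), (197, 0), (203, 0)]⟩, ⟨3, 101, 0, 0, [(15, 0), (33, 0), (40, 0), (45, 0), (50, 0), (67, 0), (90, 0), (99, 0), (104, 0), (163, 0), (168, 0), (185, 0), (189, 0), (200, 0), (210, 0)]⟩, ⟨3, 102, 0, 0, [(5, 0), (14, 0), (34, 0), (42, 0), (50, 0), (67, 0), (101, 0), (107, 0), (164, 0), (165, 0), (179, 0), (187, 0), (194, 0), (199, 0), (210, 0)]⟩, ⟨4, 103, 0,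 0, [(2, 0), (39, 0), (46, 0), (53, 0), (84, 0), (95, 0), (105, 0), (110, 0), (121, 0), (131, 0), (142, 0), (152, 0), (168, 0), (209, 0), (215, 0)]⟩, ⟨1, 104, 0, 0, [(8, 0), (49, 0), (65, 0), (75, 0), (82, 0), (88, 0), (89, 0), (96, 0), (102, 0), (127, 0), (161, 0), (167, 0), (175, 0), (180, 0), (191, 0)]⟩, ⟨4, 105, 0, 0, [(2, 0), (37, 0), (45, 0), (48, 0), (50, 0), (53, 0), (107, 0), (108, 0), (123, 0), (166, 0), (178, 0), (185, 0), (188, 0), (199, 0), (209, 0)]⟩, ⟨2, 106, 0, 0, [(26, 0), (55, 0), (76, 0), (81, 0), (85, 0), (87, 0), (93, 0), (94, 0), (98, 0), (101, 0), (114, 0), (124, 0), (170, 0), (177, 0), (215, 0)]⟩, ⟨3, 107, 0, 0, [(10, 0), (21, 0), (23, 0), (39, 0), (61, 0), (64, 0), (72, 0), (117, 0), (146, 0), (178, 0), (184, 0), (188, 0), (195, 0), (199, 0), (201, 0)]⟩, ⟨2, 108, 0, 0, [(10, 0), (37, 0), (41, 0), (45, 0), (74, 0), (90, 0), (102, 0), (107, 0), (128, 0), (138, 0), (149, 0), (160, 0), (165, 0),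 (203, 0), (210, 0)]⟩, ⟨3, 109, 0, 0, [(19, 0), (23, 0), (43, 0), (60, 0), (64, 0), (75, 0), (117, 0), (127, 0), (132, 0), (142, 0), (151, 0), (158, 0), (175, 0), (182, 0), (198, 0)]⟩, ⟨3, 110, 0, 0, [(17, 0), (19, 0), (25, 0), (38, 0), (60, 0), (63, 0), (71, 0), (116, 0), (119, 0), (135, 0), (153, 0), (158, 0), (216, 0), (217, 0), (222, 0)]⟩, ⟨3, 111, 0, 0, [(29, 0), (36, 0), (47, 0), (54, 0), (57, 0), (73, 0), (84, 0), (95, 0), (108, 0), (115, 0), (119, 0), (184, 0), (192, 0), (204, 0), (215, 0)]⟩, ⟨2, 112, 0, 0, [(9, 0), (59, 0), (78, 0), (79, 0), (82, 0), (85, 0), (86, 0), (89, 0), (98, 0), (100, 0), (124, 0), (163, 0), (171, 0), (175, 0), (223, 0)]⟩, ⟨3, 113, 0, 0, [(10, 0), (39, 0), (45, 0), (50, 0), (55, 0), (72, 0), (114, 0), (128, 0), (137, 0), (145, 0), (150, 0), (156, 0), (170, 0), (185, 0), (208, 0)]⟩, ⟨4, 114, 0, 0, [(0, 0), (42, 0), (50, 0), (72, 0), (89, 0), (100, 0), (105, 0), (123, 0), (130, 0), (137,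 0), (148, 0), (163, 0), (168, 0), (194, 0), (209, 0)]⟩, ⟨2, 115, 0, 0, [(5, 0), (23, 0), (63, 0), (75, 0), (79, 0), (85, 0), (101, 0), (118, 0), (125, 0), (131, 0), (142, 0), (152, 0), (164, 0), (177, 0), (223, 0)]⟩, ⟨4, 116, 0, 0, [(29, 0), (57, 0), (76, 0), (80, 0), (81, 0), (88, 0), (92, 0), (94, 0), (97, 0), (99, 0), (115, 0), (127, 0), (161, 0), (174, 0), (219, 0)]⟩, ⟨4, 117, 0, 0, [(1, 0), (13, 0), (33, 0), (41, 0), (45, 0), (69, 0), (89, 0), (100, 0), (113, 0), (163, 0), (173, 0), (203, 0), (213, 0), (220, 0), (222, 0)]⟩, ⟨4, 118, 0, 0, [(7, 0), (17, 0), (28, 0), (36, 0), (70, 0), (122, 0), (130, 0), (135, 0), (136, 0), (145, 0), (149, 0), (153, 0), (156, 0), (208, 0), (211, 0)]⟩, ⟨4, 119, 0, 0, [(1, 0), (15, 0), (32, 0), (68, 0), (80, 0), (94, 0), (113, 0), (131, 0), (142, 0), (145, 0), (152, 0), (159, 0), (173, 0), (205, 0), (219, 0)]⟩]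

def final3 : List Item := [⟨2, 120, 0, 0, [(6, 0), (58, 0), (75, 0), (79, 0), (83, 0), (86, 0), (91, 0), (95, 0), (97, 0), (112, 0), (127, 0), (164, 0), (169, 0), (175, 0), (219, 0)]⟩, ⟨2, 121, 0, 0, [(3, 0), (12, 0), (26, 0), (83, 0), (86, 0), (93, 0), (97, 0), (101, 0), (105, 0), (165, 0), (176, 0), (179, 0), (190, 0), (196, 0), (212, 0)]⟩, ⟨1, 122, 0, 0, [(9, 0), (13, 0), (19, 0), (21, 0), (33, 0), (59, 0), (69, 0), (171, 0), (179, 0), (183, 0), (187, 0), (195, 0), (199, 0), (202, 0), (207, 0)]⟩, ⟨3, 123, 0, 0, [(6, 0), (13, 0), (34, 0), (41, 0), (51, 0), (56, 0), (68, 0), (91, 0), (111, 0), (164, 0), (172, 0), (194, 0), (216, 0), (217, 0), (222, 0)]⟩, ⟨1, 124, 0, 0, [(6, 0), (28, 0), (35, 0), (65, 0), (71, 0), (93, 0), (106, 0), (122, 0), (128, 0), (138, 0), (149, 0), (162, 0), (184, 0), (192, 0), (204, 0)]⟩, ⟨2, 125, 0, 0, [(21, 0), (29, 0), (38, 0), (59, 0), (61, 0), (71, 0), (113, 0), (119, 0), (129, 0), (138,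 0), (146, 0), (148, 0), (183, 0), (193, 0), (204, 0)]⟩, ⟨3, 126, 0, 0, [(12, 0), (16, 0), (25, 0), (30, 0), (62, 0), (77, 0), (90, 0), (102, 0), (117, 0), (143, 0), (153, 0), (160, 0), (213, 0), (220, 0), (222, 0)]⟩, ⟨3, 127, 0, 0, [(1, 0), (4, 0), (11, 0), (82, 0), (86, 0), (98, 0), (113, 0), (147, 0), (156, 0), (173, 0), (176, 0), (179, 0), (187, 0), (199, 0), (206, 0)]⟩, ⟨4, 128, 0, 0, [(0, 0), (27, 0), (66, 0), (74, 0), (90, 0), (99, 0), (106, 0), (121, 0), (130, 0), (136, 0), (149, 0), (163, 0), (183, 0), (193, 0), (204, 0)]⟩, ⟨4, 129, 0, 0, [(5, 0), (15, 0), (32, 0), (56, 0), (68, 0), (84, 0), (95, 0), (101, 0), (114, 0), (164, 0), (169, 0), (183, 0), (195, 0), (202, 0), (215, 0)]⟩, ⟨1, 130, 0, 0, [(4, 0), (25, 0), (30, 0), (43, 0), (63, 0), (92, 0), (100, 0), (116, 0), (126, 0), (160, 0), (182, 0), (186, 0), (192, 0), (198, 0), (202, 0)]⟩, ⟨4, 131, 0, 0, [(17, 0), (24, 0), (62, 0), (75, 0), (85, 0), (92, 0),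 (94, 0), (100, 0), (118, 0), (127, 0), (135, 0), (153, 0), (160, 0), (175, 0), (215, 0)]⟩, ⟨3, 132, 0, 0, [(10, 0), (39, 0), (42, 0), (44, 0), (46, 0), (54, 0), (72, 0), (104, 0), (109, 0), (168, 0), (179, 0), (190, 0), (196, 0), (203, 0), (210, 0)]⟩]

/-- The certificate. -/
def cert : Cert := ⟨225, 225, 16, tab, rtab, lines0 ++ lines1 ++ lines2, final0 ++ final1 ++ final2 ++ final3⟩

end CfsgLib.AltLift.DataC4
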