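import Cfsg.Agent.AltLift.Checker

/-! Certificate data (DataC5). -/

set_option autoImplicit false
set_option maxHeartbeats 4000000
set_option maxRecDepth 10000

namespace CfsgLib.AltLift.DataC5

def taba : Table := .node 18 (.node 9 (.node 4 (.node 2 (.node 1 (.leaf 654820258320 0 0) (.leaf 654818230800 1 0)) (.node 1 (.leaf 654819263265 0 1) (.leaf 654819152400 1 1))) (.node 2 (.node 1 (.leaf 654815073330 0 2) (.leaf 654820181025 1 2)) (.node 1 (.leaf 654815023905 0 3) (.node 1 (.leaf 654816124995 0 4) (.leaf 654814942530 1 4))))) (.node 4 (.node 2 (.node 1 (.leaf 654820249650 0 5) (.leaf 654818149665 1 5)) (.node 1 (.leaf 654815810610 0 6) (.leaf 654815081505 1 6))) (.node 2 (.node 1 (.leaf 654817177860 0 7) (.leaf 654816060675 0 8)) (.node 1 (.leaf 654815007570 1 8) (.node 1 (.leaf 654819991875 0 9) (.leaf 654818218050 1 9))))))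 (.node 9 (.node 4 (.node 2 (.node 1 (.leaf 654818940210 0 10) (.leaf 654816923715 0 11)) (.node 1 (.leaf 654815802690 1 11) (.leaf 654816133170 0 12))) (.node 2 (.node 1 (.leaf 654814954785 1 12) (.leaf 654817050885 1 13)) (.node 1 (.leaf 654816851220 0 14) (.node 1 (.leaf 654816125700 1 14) (.leaf 654815798355 0 15))))) (.node 4 (.node 2 (.node 1 (.leaf 654820061700 0 16) (.leaf 654817894740 1 16)) (.node 1 (.leaf 654819135570 1 17) (.leaf 654814815555 0 18))) (.node 2 (.node 1 (.leaf 654819988290 1 18) (.leaf 654816915540 1 19)) (.node 1 (.leaf 654816920835 0 20) (.node 1 (.leaf 654817165635 0 21) (.leaf 654816006210 1 21))))))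

def tabb : Table := .node 18 (.node 9 (.node 4 (.node 2 (.node 1 (.leaf 654816052530 0 22) (.leaf 654817120515 1 23)) (.node 1 (.leaf 654817969440 0 24) (.leaf 654815798580 1 26))) (.node 2 (.node 1 (.leaf 654820131600 0 27) (.leaf 654817968645 1 27)) (.node 1 (.leaf 654819013200 0 28) (.node 1 (.leaf 654818943285 1 28) (.leaf 654814815060 1 30))))) (.node 4 (.node 2 (.node 1 (.leaf 654820058115 0 31) (.leaf 654818034000 0 32)) (.node 1 (.leaf 654816924420 1 33) (.leaf 654818218500 0 34))) (.node 2 (.node 1 (.leaf 654817034580 1 34) (.leaf 654816063570 1 35)) (.node 1 (.leaf 654819067185 0 38) (.node 1 (.leaf 654816916800 0 39) (.leaf 654815798085 1 39)))))) (.node 9 (.node 4 (.node 2 (.node 1 (.leaf 654818038800 1 40) (.leaf 654819066645 0 41)) (.node 1 (.leaf 654814888785 0 42) (.leaf 654820065840 1 42))) (.node 2 (.node 1 (.leaf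 654814818885 0 43) (.leaf 654817961220 1 45)) (.node 1 (.leaf 654819131985 0 46) (.node 1 (.leaf 654816916485 1 47) (.leaf 654820115265 1 51))))) (.node 4 (.node 2 (.node 1 (.leaf 654818034945 0 52) (.leaf 654819079440 1 54)) (.node 1 (.leaf 654814942245 0 55) (.leaf 654817972800 1 57))) (.node 2 (.node 1 (.leaf 654819009285 1 59) (.leaf 654820246065 1 60)) (.node 1 (.leaf 654819087105 1 63) (.node 1 (.leaf 654815008035 1 65) (.leaf 654820127745 1 69))))))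

def tab : Table := .node 36 taba tabb

def rtab : Table := .node 10 (.node 5 (.node 2 (.node 1 (.leaf 654820258320 0 0) (.leaf 654820000545 0 0)) (.node 1 (.leaf 590144090640 1 0) (.node 1 (.leaf 509361795600 2 0) (.leaf 654820049970 0 1)))) (.node 2 (.node 1 (.leaf 590143832865 1 1) (.leaf 509361537825 2 1)) (.node 1 (.leaf 444685627920 2 2) (.node 1 (.leaf 654820118595 0 4) (.leaf 590143882290 1 4))))) (.node 5 (.node 2 (.node 1 (.leaf 509361587250 2 4) (.leaf 444685370145 2 5)) (.node 1 (.leaf 654820188420 0 8) (.node 1 (.leaf 590143950915 1 8) (.leaf 509361655875 2 8)))) (.node 2 (.node 1 (.leaf 444685419570 2 9) (.leaf 590144020740 1 12)) (.node 1 (.leaf 509361725700 2 12) (.node 1 (.leaf 444685488195 2 13) (.leaf 444685558020 2 16)))))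

def l0 : Line := .forb 0 654815085105 654819136005 [(1, 21), (1, 38), (1, 47), (1, 64)] [⟨[(38, 8), (21, 4), (64, 12), (47, 1)], []⟩, ⟨[(47, 12), (64, 0), (21, 1), (38, 0)], []⟩, ⟨[(21, 2), (38, 2), (47, 2), (64, 2)], []⟩, ⟨[(21, 3), (38, 3), (47, 3), (64, 3)], []⟩]

def l1 : Line := .forb 0 654816124980 654818939730 [(1, 12), (1, 46), (1, 49), (1, 55)] [⟨[(49, 4), (55, 12), (12, 8), (46, 1)], []⟩, ⟨[(55, 1), (49, 0), (46, 0), (12, 12)], []⟩, ⟨[(12, 2), (46, 2), (49, 2), (55, 2)], []⟩, ⟨[(12, 3), (46, 3), (49, 3), (55, 3)], []⟩]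

def l2 : Line := .forb 0 654818034945 654817055745 [(1, 5), (1, 39), (1, 55), (1, 56)] [⟨[(55, 8), (56, 1), (5, 4), (39, 12)], []⟩, ⟨[(39, 4), (5, 8), (56, 0), (55, 0)], []⟩, ⟨[(5, 2), (39, 2), (55, 2), (56, 2)], []⟩, ⟨[(5, 3), (39, 3), (55, 3), (56, 3)], []⟩]

def l3 : Line := .forb 0 654814819410 654815932485 [(1, 3), (1, 17), (1, 23), (1, 40)] [⟨[(17, 4), (3, 8), (40, 12), (23, 1)], []⟩, ⟨[(23, 1), (40, 8), (3, 12), (17, 4)], []⟩, ⟨[(3, 2), (17, 2), (23, 2), (40, 2)], []⟩, ⟨[(3, 3), (17, 3), (23, 3), (40, 3)], []⟩]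

def l4 : Line := .forb 0 654820131120 654820185120 [(1, 10), (1, 15), (1, 25), (1, 55)] [⟨[(15, 12), (10, 1), (55, 1), (25, 12)], []⟩, ⟨[(55, 8), (25, 8), (15, 4), (10, 4)], []⟩, ⟨[(10, 2), (15, 2), (25, 2), (55, 2)], []⟩, ⟨[(10, 3), (15, 3), (25, 3), (55, 3)], []⟩]

def l5 : Line := .forb 0 654817907220 654817907220 [(1, 5), (1, 26), (1, 49), (1, 67)] [⟨[(49, 0), (67, 4), (5, 0), (26, 8)], []⟩, ⟨[(26, 1), (5, 12), (67, 8), (49, 4)], []⟩, ⟨[(5, 2), (26, 2), (49, 2), (67, 2)], []⟩, ⟨[(5, 3), (26, 3), (49, 3), (67, 3)], []⟩]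

def l6 : Line := .forb 0 654816842835 654815921460 [(1, 9), (1, 10), (1, 35), (1, 69)] [⟨[(10, 1), (9, 12), (69, 12), (35, 1)], []⟩, ⟨[(35, 0), (69, 8), (9, 0), (10, 4)], []⟩, ⟨[(9, 2), (10, 2), (35, 2), (69, 2)], []⟩, ⟨[(9, 3), (10, 3), (35, 3), (69, 3)], []⟩]

def l7 : Line := .forb 0 654818034945 654817055745 [(1, 6), (1, 9), (1, 11), (1, 42)] [⟨[(11, 12), (42, 4), (6, 1), (9, 8)], []⟩, ⟨[(42, 1), (11, 0), (9, 0), (6, 12)], []⟩, ⟨[(6, 2), (9, 2), (11, 2), (42, 2)], []⟩, ⟨[(6, 3), (9, 3), (11, 3), (42, 3)], []⟩]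

def l8 : Line := .forb 0 654820131120 654820185120 [(1, 7), (1, 22), (1, 29), (1, 66)] [⟨[(29, 4), (66, 1), (7, 8), (22, 12)], []⟩, ⟨[(22, 8), (7, 4), (66, 4), (29, 8)], []⟩, ⟨[(7, 2), (22, 2), (29, 2), (66, 2)], []⟩, ⟨[(7, 3), (22, 3), (29, 3), (66, 3)], []⟩]

def l9 : Line := .forb 0 654814819410 654815932485 [(1, 16), (1, 55), (1, 59), (1, 61)] [⟨[(61, 4), (59, 8), (55, 4), (16, 8)], []⟩, ⟨[(59, 4), (61, 8), (16, 8), (55, 4)], []⟩, ⟨[(16, 2), (55, 2), (59, 2), (61, 2)], []⟩, ⟨[(16, 3), (55, 3), (59, 3), (61, 3)], []⟩]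

def l10 : Line := .forb 0 654819275040 654819275040 [(1, 18), (1, 29), (1, 42), (1, 64)] [⟨[(64, 0), (42, 0), (29, 0), (18, 0)], []⟩, ⟨[(29, 12), (18, 1), (64, 1), (42, 12)], []⟩, ⟨[(18, 2), (29, 2), (42, 2), (64, 2)], []⟩, ⟨[(18, 3), (29, 3), (42, 3), (64, 3)], []⟩]

def l11 : Line := .forb 0 654819070800 654816126000 [(1, 2), (1, 55), (1, 60), (1, 67)] [⟨[(67, 4), (60, 8), (55, 4), (2, 8)], []⟩, ⟨[(60, 1), (67, 12), (2, 12), (55, 1)], []⟩, ⟨[(2, 2), (55, 2), (60, 2), (67, 2)], []⟩, ⟨[(2, 3), (55, 3), (60, 3), (67, 3)], []⟩]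

def l12 : Line := .forb 0 654820131120 654820185120 [(1, 6), (1, 20), (1, 46), (1, 67)] [⟨[(46, 8), (67, 8), (6, 4), (20, 4)], []⟩, ⟨[(20, 12), (6, 1), (67, 12), (46, 1)], []⟩, ⟨[(6, 2), (20, 2), (46, 2), (67, 2)], []⟩, ⟨[(6, 3), (20, 3), (46, 3), (67, 3)], []⟩]

def l13 : Line := .forb 0 654816124980 654818939730 [(1, 5), (1, 9), (1, 45), (1, 57)] [⟨[(57, 12), (45, 1), (9, 12), (5, 1)], []⟩, ⟨[(45, 12), (57, 1), (5, 1), (9, 12)], []⟩, ⟨[(5, 2), (9, 2), (45, 2), (57, 2)], []⟩, ⟨[(5, 3), (9, 3), (45, 3), (57, 3)], []⟩]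

def l14 : Line := .forb 0 654815015505 654816064005 [(1, 15), (1, 22), (1, 30), (1, 65)] [⟨[(22, 12), (15, 1), (65, 1), (30, 12)], []⟩, ⟨[(65, 8), (30, 8), (22, 4), (15, 4)], []⟩, ⟨[(15, 2), (22, 2), (30, 2), (65, 2)], []⟩, ⟨[(15, 3), (22, 3), (30, 3), (65, 3)], []⟩]

def l15 : Line := .forb 0 654819000885 654815072835 [(1, 0), (1, 8), (1, 61), (1, 63)] [⟨[(63, 12), (61, 1), (8, 12), (0, 1)], []⟩, ⟨[(61, 8), (63, 4), (0, 4), (8, 8)], []⟩, ⟨[(0, 2), (8, 2), (61, 2), (63, 2)], []⟩, ⟨[(0, 3), (8, 3), (61, 3), (63, 3)], []⟩]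

def l16 : Line := .forb 0 654815085105 654819136005 [(1, 2), (1, 34), (1, 53), (1, 59)] [⟨[(34, 0), (2, 0), (59, 4), (53, 8)], []⟩, ⟨[(59, 8), (53, 1), (34, 12), (2, 4)], []⟩, ⟨[(2, 2), (34, 2), (53, 2), (59, 2)], []⟩, ⟨[(2, 3), (34, 3), (53, 3), (59, 3)], []⟩]

def l17 : Line := .forb 0 654815015505 654816064005 [(1, 16), (1, 20), (1, 23), (1, 63)] [⟨[(20, 0), (16, 0), (63, 0), (23, 0)], []⟩, ⟨[(63, 4), (23, 4), (20, 8), (16, 8)], []⟩, ⟨[(16, 2), (20, 2), (23, 2), (63, 2)], []⟩, ⟨[(16, 3), (20, 3), (23, 3), (63, 3)], []⟩]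

def l18 : Line := .forb 0 654819152130 654818230305 [(1, 9), (1, 25), (1, 52), (1, 65)] [⟨[(25, 1), (9, 12), (65, 1), (52, 12)], []⟩, ⟨[(65, 8), (52, 1), (25, 12), (9, 4)], []⟩, ⟨[(9, 2), (25, 2), (52, 2), (65, 2)], []⟩, ⟨[(9, 3), (25, 3), (52, 3), (65, 3)], []⟩]

def l19 : Line := .forb 0 654814819410 654815932485 [(1, 6), (1, 8), (1, 44), (1, 58)] [⟨[(58, 12), (44, 1), (8, 12), (6, 1)], []⟩, ⟨[(44, 12), (58, 1), (6, 1), (8, 12)], []⟩, ⟨[(6, 2), (8, 2), (44, 2), (58, 2)], []⟩, ⟨[(6, 3), (8, 3), (44, 3), (58, 3)], []⟩]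

def l20 : Line := .forb 0 654819152130 654818230305 [(1, 1), (1, 10), (1, 59), (1, 63)] [⟨[(10, 1), (1, 12), (63, 8), (59, 4)], []⟩, ⟨[(59, 4), (63, 12), (1, 8), (10, 1)], []⟩, ⟨[(1, 2), (10, 2), (59, 2), (63, 2)], []⟩, ⟨[(1, 3), (10, 3), (59, 3), (63, 3)], []⟩]

def l21 : Line := .forb 0 654820184580 654820000305 [(1, 6), (1, 39), (1, 47), (1, 51)] [⟨[(51, 12), (47, 1), (39, 12), (6, 1)], []⟩, ⟨[(39, 12), (6, 1), (51, 12), (47, 1)], []⟩, ⟨[(6, 2), (39, 2), (47, 2), (51, 2)], []⟩, ⟨[(6, 3), (39, 3), (47, 3), (51, 3)], []⟩]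

def l22 : Line := .forb 0 654819275040 654819275040 [(1, 10), (1, 14), (1, 47), (1, 56)] [⟨[(14, 0), (10, 0), (56, 8), (47, 4)], []⟩, ⟨[(47, 1), (56, 12), (10, 12), (14, 1)], []⟩, ⟨[(10, 2), (14, 2), (47, 2), (56, 2)], []⟩, ⟨[(10, 3), (14, 3), (47, 3), (56, 3)], []⟩]

def l23 : Line := .forb 0 654816842835 654815921460 [(1, 7), (1, 18), (1, 41), (1, 62)] [⟨[(18, 4), (7, 8), (62, 4), (41, 8)], []⟩, ⟨[(62, 1), (41, 4), (18, 8), (7, 12)], []⟩, ⟨[(7, 2), (18, 2), (41, 2), (62, 2)], []⟩, ⟨[(7, 3), (18, 3), (41, 3), (62, 3)], []⟩]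

def l24 : Line := .forb 0 654815986245 654814822995 [(1, 9), (1, 12), (1, 34), (1, 67)] [⟨[(67, 1), (34, 4), (12, 8), (9, 12)], []⟩, ⟨[(34, 12), (67, 12), (9, 1), (12, 1)], []⟩, ⟨[(9, 2), (12, 2), (34, 2), (67, 2)], []⟩, ⟨[(9, 3), (12, 3), (34, 3), (67, 3)], []⟩]

def l25 : Line := .forb 0 654815940675 654817952850 [(1, 30), (1, 62), (1, 63), (1, 67)] [⟨[(62, 1), (30, 12), (67, 12), (63, 1)], []⟩, ⟨[(63, 1), (67, 12), (30, 12), (62, 1)], []⟩, ⟨[(30, 2), (62, 2), (63, 2), (67, 2)], []⟩, ⟨[(30, 3), (62, 3), (63, 3), (67, 3)], []⟩]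

def l26 : Line := .forb 0 654814819410 654815932485 [(1, 41), (1, 43), (1, 45), (1, 47)] [⟨[(43, 8), (41, 4), (47, 0), (45, 0)], []⟩, ⟨[(45, 0), (47, 4), (41, 0), (43, 8)], []⟩, ⟨[(41, 2), (43, 2), (45, 2), (47, 2)], []⟩, ⟨[(41, 3), (43, 3), (45, 3), (47, 3)], []⟩]

def l27 : Line := .forb 0 654818034945 654817055745 [(1, 7), (1, 12), (1, 45), (1, 60)] [⟨[(12, 8), (7, 4), (60, 12), (45, 1)], []⟩, ⟨[(45, 0), (60, 1), (7, 0), (12, 12)], []⟩, ⟨[(7, 2), (12, 2), (45, 2), (60, 2)], []⟩, ⟨[(7, 3), (12, 3), (45, 3), (60, 3)], []⟩]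

def l28 : Line := .forb 0 654814819410 654815932485 [(1, 7), (1, 14), (1, 39), (1, 50)] [⟨[(14, 12), (7, 1), (50, 8), (39, 4)], []⟩, ⟨[(39, 4), (50, 1), (7, 8), (14, 12)], []⟩, ⟨[(7, 2), (14, 2), (39, 2), (50, 2)], []⟩, ⟨[(7, 3), (14, 3), (39, 3), (50, 3)], []⟩]

def l29 : Line := .forb 0 654819275040 654819275040 [(1, 1), (1, 21), (1, 44), (1, 49)] [⟨[(21, 0), (1, 0), (49, 0), (44, 0)], []⟩, ⟨[(49, 4), (44, 4), (21, 8), (1, 8)], []⟩, ⟨[(1, 2), (21, 2), (44, 2), (49, 2)], []⟩, ⟨[(1, 3), (21, 3), (44, 3), (49, 3)], []⟩]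

def l30 : Line := .forb 0 654819152130 654818230305 [(1, 3), (1, 29), (1, 42), (1, 69)] [⟨[(29, 0), (3, 0), (69, 12), (42, 1)], []⟩, ⟨[(69, 8), (42, 12), (29, 1), (3, 4)], []⟩, ⟨[(3, 2), (29, 2), (42, 2), (69, 2)], []⟩, ⟨[(3, 3), (29, 3), (42, 3), (69, 3)], []⟩]

def l31 : Line := .forb 0 654815940675 654817952850 [(1, 19), (1, 23), (1, 34), (1, 61)] [⟨[(23, 8), (19, 4), (61, 4), (34, 8)], []⟩, ⟨[(34, 8), (61, 4), (19, 4), (23, 8)], []⟩, ⟨[(19, 2), (23, 2), (34, 2), (61, 2)], []⟩, ⟨[(19, 3), (23, 3), (34, 3), (61, 3)], []⟩]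

def l32 : Line := .forb 0 654817907220 654817907220 [(1, 18), (1, 35), (1, 40), (1, 61)] [⟨[(35, 8), (18, 4), (61, 1), (40, 12)], []⟩, ⟨[(61, 4), (40, 8), (35, 4), (18, 8)], []⟩, ⟨[(18, 2), (35, 2), (40, 2), (61, 2)], []⟩, ⟨[(18, 3), (35, 3), (40, 3), (61, 3)], []⟩]

def l33 : Line := .forb 0 654820184580 654820000305 [(1, 38), (1, 41), (1, 46), (1, 54)] [⟨[(41, 8), (38, 4), (54, 4), (46, 8)], []⟩, ⟨[(54, 1), (46, 1), (41, 12), (38, 12)], []⟩, ⟨[(38, 2), (41, 2), (46, 2), (54, 2)], []⟩, ⟨[(38, 3), (41, 3), (46, 3), (54, 3)], []⟩]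

def l34 : Line := .forb 0 654818034945 654817055745 [(1, 8), (1, 25), (1, 64), (1, 71)] [⟨[(25, 8), (8, 4), (71, 0), (64, 0)], []⟩, ⟨[(64, 12), (71, 1), (8, 1), (25, 12)], []⟩, ⟨[(8, 2), (25, 2), (64, 2), (71, 2)], []⟩, ⟨[(8, 3), (25, 3), (64, 3), (71, 3)], []⟩]

def l35 : Line := .forb 0 654817907220 654817907220 [(1, 0), (1, 51), (1, 52), (1, 53)] [⟨[(52, 0), (53, 1), (0, 0), (51, 12)], []⟩, ⟨[(53, 12), (52, 4), (51, 8), (0, 1)], []⟩, ⟨[(0, 2), (51, 2), (52, 2), (53, 2)], []⟩, ⟨[(0, 3), (51, 3), (52, 3), (53, 3)], []⟩]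

def l36 : Line := .forb 0 654819000885 654815072835 [(1, 14), (1, 21), (1, 25), (1, 50)] [⟨[(21, 12), (14, 1), (50, 12), (25, 1)], []⟩, ⟨[(25, 1), (50, 1), (14, 12), (21, 12)], []⟩, ⟨[(14, 2), (21, 2), (25, 2), (50, 2)], []⟩, ⟨[(14, 3), (21, 3), (25, 3), (50, 3)], []⟩]

def l37 : Line := .forb 0 654817907220 654817907220 [(1, 11), (1, 13), (1, 43), (1, 71)] [⟨[(43, 0), (71, 0), (11, 0), (13, 0)], []⟩, ⟨[(71, 4), (43, 8), (13, 4), (11, 8)], []⟩, ⟨[(11, 2), (13, 2), (43, 2), (71, 2)], []⟩, ⟨[(11, 3), (13, 3), (43, 3), (71, 3)], []⟩]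

def l38 : Line := .forb 0 654820184580 654820000305 [(1, 18), (1, 23), (1, 26), (1, 65)] [⟨[(65, 8), (26, 1), (23, 12), (18, 4)], []⟩, ⟨[(23, 8), (18, 4), (65, 12), (26, 1)], []⟩, ⟨[(18, 2), (23, 2), (26, 2), (65, 2)], []⟩, ⟨[(18, 3), (23, 3), (26, 3), (65, 3)], []⟩]

def l39 : Line := .forb 0 654820184580 654820000305 [(1, 14), (1, 29), (1, 49), (1, 58)] [⟨[(49, 12), (58, 12), (14, 1), (29, 1)], []⟩, ⟨[(58, 8), (49, 0), (29, 0), (14, 4)], []⟩, ⟨[(14, 2), (29, 2), (49, 2), (58, 2)], []⟩, ⟨[(14, 3), (29, 3), (49, 3), (58, 3)], []⟩]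

def l40 : Line := .forb 0 654815986245 654814822995 [(1, 19), (1, 29), (1, 45), (1, 65)] [⟨[(65, 12), (45, 1), (29, 12), (19, 1)], []⟩, ⟨[(45, 0), (65, 0), (19, 0), (29, 0)], []⟩, ⟨[(19, 2), (29, 2), (45, 2), (65, 2)], []⟩, ⟨[(19, 3), (29, 3), (45, 3), (65, 3)], []⟩]

def l41 : Line := .forb 0 654819070800 654816126000 [(1, 5), (1, 8), (1, 14), (1, 41)] [⟨[(8, 12), (5, 1), (41, 12), (14, 1)], []⟩, ⟨[(14, 4), (41, 4), (5, 8), (8, 8)], []⟩, ⟨[(5, 2), (8, 2), (14, 2), (41, 2)], []⟩, ⟨[(5, 3), (8, 3), (14, 3), (41, 3)], []⟩]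

def l42 : Line := .forb 0 654819152130 654818230305 [(1, 17), (1, 38), (1, 54), (1, 66)] [⟨[(66, 0), (54, 12), (38, 1), (17, 0)], []⟩, ⟨[(54, 1), (66, 8), (17, 12), (38, 4)], []⟩, ⟨[(17, 2), (38, 2), (54, 2), (66, 2)], []⟩, ⟨[(17, 3), (38, 3), (54, 3), (66, 3)], []⟩]

def l43 : Line := .forb 0 654815940675 654817952850 [(1, 54), (1, 55), (1, 57), (1, 58)] [⟨[(55, 0), (54, 0), (58, 0), (57, 0)], []⟩, ⟨[(58, 8), (57, 8), (55, 4), (54, 4)], []⟩, ⟨[(54, 2), (55, 2), (57, 2), (58, 2)], []⟩, ⟨[(54, 3), (55, 3), (57, 3), (58, 3)], []⟩]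

def l44 : Line := .forb 0 654816124980 654818939730 [(1, 10), (1, 13), (1, 42), (1, 44)] [⟨[(42, 12), (44, 4), (10, 1), (13, 8)], []⟩, ⟨[(13, 4), (10, 8), (44, 0), (42, 0)], []⟩, ⟨[(10, 2), (13, 2), (42, 2), (44, 2)], []⟩, ⟨[(10, 3), (13, 3), (42, 3), (44, 3)], []⟩]

def l45 : Line := .forb 0 654819275040 654819275040 [(1, 7), (1, 46), (1, 61), (1, 65)] [⟨[(46, 4), (7, 8), (65, 0), (61, 0)], []⟩, ⟨[(65, 1), (61, 12), (46, 1), (7, 12)], []⟩, ⟨[(7, 2), (46, 2), (61, 2), (65, 2)], []⟩, ⟨[(7, 3), (46, 3), (61, 3), (65, 3)], []⟩]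

def lines0 : List Line := [l0, l1, l2, l3, l4, l5, l6, l7, l8, l9, l10, l11, l12, l13, l14, l15, l16, l17, l18, l19, l20, l21, l22, l23, l24, l25, l26, l27, l28, l29, l30, l31, l32, l33, l34, l35, l36, l37, l38, l39, l40, l41, l42, l43, l44, l45]

def final0 : List Item := [⟨1, 0, 0, 0, [(21, 0), (38, 0), (47, 0), (64, 0)]⟩, ⟨4, 1, 0, 0, [(12, 0), (46, 0), (49, 0), (55, 0)]⟩, ⟨1, 2, 0, 0, [(5, 0), (39, 0), (55, 0), (56, 0)]⟩, ⟨2, 3, 0, 0, [(3, 0), (17, 0), (23, 0), (40, 0)]⟩, ⟨2, 4, 0, 0, [(10, 0), (15, 0), (25, 0), (55, 0)]⟩, ⟨2, 5, 0, 0, [(5, 0), (26, 0), (49, 0), (67, 0)]⟩, ⟨2, 6, 0, 0, [(9, 0), (10, 0), (35, 0), (69, 0)]⟩, ⟨3, 7, 0, 0, [(6, 0), (9, 0), (11, 0), (42, 0)]⟩, ⟨2, 8, 0, 0, [(7, 0), (22, 0), (29, 0), (66, 0)]⟩, ⟨4, 9, 0, 0, [(16, 0), (55, 0), (59, 0), (61, 0)]⟩, ⟨1, 10, 0, 0, [(18, 0), (29, 0), (42, 0), (64, 0)]⟩, ⟨3,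 11, 0, 0, [(2, 0), (55, 0), (60, 0), (67, 0)]⟩, ⟨4, 12, 0, 0, [(6, 0), (20, 0), (46, 0), (67, 0)]⟩, ⟨4, 13, 0, 0, [(5, 0), (9, 0), (45, 0), (57, 0)]⟩, ⟨3, 14, 0, 0, [(15, 0), (22, 0), (30, 0), (65, 0)]⟩, ⟨3, 15, 0, 0, [(0, 0), (8, 0), (61, 0), (63, 0)]⟩, ⟨2, 16, 0, 0, [(2, 0), (34, 0), (53, 0), (59, 0)]⟩, ⟨1, 17, 0, 0, [(16, 0), (20, 0), (23, 0), (63, 0)]⟩, ⟨2, 18, 0, 0, [(9, 0), (25, 0), (52, 0), (65, 0)]⟩, ⟨1, 19, 0, 0, [(6, 0), (8, 0), (44, 0), (58, 0)]⟩, ⟨4, 20, 0, 0, [(1, 0), (10, 0), (59, 0), (63, 0)]⟩, ⟨2, 21, 0, 0, [(6, 0), (39, 0), (47, 0), (51, 0)]⟩, ⟨4, 22, 0, 0, [(10, 0), (14, 0), (47, 0), (56, 0)]⟩, ⟨3, 23, 0, 0, [(7, 0), (18, 0), (41, 0), (62, 0)]⟩, ⟨4, 24, 0, 0, [(9, 0), (12, 0), (34, 0), (67, 0)]⟩, ⟨2, 25, 0, 0, [(30, 0), (62, 0), (63, 0), (67, 0)]⟩, ⟨3, 26, 0, 0, [(41, 0), (43, 0), (45, 0), (47, 0)]⟩, ⟨2, 27, 0, 0,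 [(7, 0), (12, 0), (45, 0), (60, 0)]⟩, ⟨2, 28, 0, 0, [(7, 0), (14, 0), (39, 0), (50, 0)]⟩, ⟨1, 29, 0, 0, [(1, 0), (21, 0), (44, 0), (49, 0)]⟩, ⟨3, 30, 0, 0, [(3, 0), (29, 0), (42, 0), (69, 0)]⟩, ⟨4, 31, 0, 0, [(19, 0), (23, 0), (34, 0), (61, 0)]⟩, ⟨3, 32, 0, 0, [(18, 0), (35, 0), (40, 0), (61, 0)]⟩, ⟨1, 33, 0, 0, [(38, 0), (41, 0), (46, 0), (54, 0)]⟩, ⟨3, 34, 0, 0, [(8, 0), (25, 0), (64, 0), (71, 0)]⟩, ⟨3, 35, 0, 0, [(0, 0), (51, 0), (52, 0), (53, 0)]⟩, ⟨3, 36, 0, 0, [(14, 0), (21, 0), (25, 0), (50, 0)]⟩, ⟨2, 37, 0, 0, [(11, 0), (13, 0), (43, 0), (71, 0)]⟩, ⟨3, 38, 0, 0, [(18, 0), (23, 0), (26, 0), (65, 0)]⟩, ⟨3, 39, 0, 0, [(14, 0), (29, 0), (49, 0), (58, 0)]⟩]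

def final1 : List Item := [⟨1, 40, 0, 0, [(19, 0), (29, 0), (45, 0), (65, 0)]⟩, ⟨3, 41, 0, 0, [(5, 0), (8, 0), (14, 0), (41, 0)]⟩, ⟨3, 42, 0, 0, [(17, 0), (38, 0), (54, 0), (66, 0)]⟩, ⟨1, 43, 0, 0, [(54, 0), (55, 0), (57, 0), (58, 0)]⟩, ⟨3, 44, 0, 0, [(10, 0), (13, 0), (42, 0), (44, 0)]⟩, ⟨1, 45, 0, 0, [(7, 0), (46, 0), (61, 0), (65, 0)]⟩]

/-- The certificate. -/
def cert : Cert := ⟨72, 72, 20, tab, rtab, lines0, final0 ++ final1⟩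

end CfsgLib.AltLift.DataC5
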