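import Cfsg.Agent.AltLift.Patterns
import Cfsg.Agent.AltLift.DataC5

/-! The certificate C5. -/

set_option autoImplicit false
set_option maxRecDepth 100000
set_option maxHeartbeats 0

namespace CfsgLib.AltLift

theorem noEigen_C5 {V : Type*} [AddCommGroup V] (ρ : AltAction 10 V) (hp : ∀ u : V, 5 • u = 0)
    (hforb : ∀ pat ∈ ([Pat.fiveV4V4] : List (Pattern 10)), NoEigen ρ pat) :
    NoEigen ρ (Pat.rC5.map (fun g => (g, 1)) ++ ([] : Pattern 10)) :=
  Cert.sound (p := 5) (by norm_num) DataC5.cert Pat.hC5 Pat.rC5 [Pat.fiveV4V4] ([] : Pattern 10) (by decide +kernel)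
    ρ hp hforb

end CfsgLib.AltLift
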