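import Cfsg.Agent.AltLift.Checker

/-! Certificate data (DataC6). -/

set_option autoImplicit false
set_option maxHeartbeats 4000000
set_option maxRecDepth 10000

namespace CfsgLib.AltLift.DataC6

def taba : Table := .node 18 (.node 9 (.node 4 (.node 2 (.node 1 (.leaf 654820258320 0 0) (.leaf 654818230800 1 0)) (.node 1 (.leaf 654819263265 0 1) (.leaf 654819152400 1 1))) (.node 2 (.node 1 (.leaf 654815073330 0 2) (.leaf 654820181025 1 2)) (.node 1 (.leaf 654815023905 0 3) (.node 1 (.leaf 654816124995 0 4) (.leaf 654814942530 1 4))))) (.node 4 (.node 2 (.node 1 (.leaf 654820249650 0 5) (.leaf 654818149665 1 5)) (.node 1 (.leaf 654815810610 0 6) (.leaf 654815081505 1 6))) (.node 2 (.node 1 (.leaf 654817177860 0 7) (.leaf 654816060675 0 8)) (.node 1 (.leaf 654815007570 1 8) (.node 1 (.leaf 654819991875 0 9) (.leaf 654818218050 1 9)))))) (.node 9 (.node 4 (.node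 2 (.node 1 (.leaf 654818940210 0 10) (.leaf 654816923715 0 11)) (.node 1 (.leaf 654815802690 1 11) (.leaf 654816133170 0 12))) (.node 2 (.node 1 (.leaf 654814954785 1 12) (.leaf 654817050885 1 13)) (.node 1 (.leaf 654816851220 0 14) (.node 1 (.leaf 654816125700 1 14) (.leaf 654815798355 0 15))))) (.node 4 (.node 2 (.node 1 (.leaf 654820061700 0 16) (.leaf 654817894740 1 16)) (.node 1 (.leaf 654819135570 1 17) (.leaf 654814815555 0 18))) (.node 2 (.node 1 (.leaf 654819988290 1 18) (.leaf 654816915540 1 19)) (.node 1 (.leaf 654816920835 0 20) (.node 1 (.leaf 654817165635 0 21) (.leaf 654816006210 1 21))))))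

def tabb : Table := .node 18 (.node 9 (.node 4 (.node 2 (.node 1 (.leaf 654816052530 0 22) (.leaf 654817120515 1 23)) (.node 1 (.leaf 654817969440 0 24) (.leaf 654815798580 1 26))) (.node 2 (.node 1 (.leaf 654820131600 0 27) (.leaf 654817968645 1 27)) (.node 1 (.leaf 654819013200 0 28) (.node 1 (.leaf 654818943285 1 28) (.leaf 654814815060 1 30))))) (.node 4 (.node 2 (.node 1 (.leaf 654820058115 0 31) (.leaf 654818034000 0 32)) (.node 1 (.leaf 654816924420 1 33) (.leaf 654818218500 0 34))) (.node 2 (.node 1 (.leaf 654817034580 1 34) (.leaf 654816063570 1 35)) (.node 1 (.leaf 654819067185 0 38) (.node 1 (.leaf 654816916800 0 39) (.leaf 654815798085 1 39)))))) (.node 9 (.node 4 (.node 2 (.node 1 (.leaf 654818038800 1 40) (.leaf 654819066645 0 41)) (.node 1 (.leaf 654814888785 0 42) (.leaf 654820065840 1 42))) (.node 2 (.node 1 (.leaf 654814818885 0 43) (.leaf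 654817961220 1 45)) (.node 1 (.leaf 654819131985 0 46) (.node 1 (.leaf 654816916485 1 47) (.leaf 654820115265 1 51))))) (.node 4 (.node 2 (.node 1 (.leaf 654818034945 0 52) (.leaf 654819079440 1 54)) (.node 1 (.leaf 654814942245 0 55) (.leaf 654817972800 1 57))) (.node 2 (.node 1 (.leaf 654819009285 1 59) (.leaf 654820246065 1 60)) (.node 1 (.leaf 654819087105 1 63) (.node 1 (.leaf 654815008035 1 65) (.leaf 654820127745 1 69))))))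

def tab : Table := .node 36 taba tabb

def rtab : Table := .node 2 (.node 1 (.leaf 654820258320 0 0) (.leaf 654820000545 0 0)) (.node 1 (.leaf 654820049970 0 1) (.node 1 (.leaf 654820118595 0 2) (.leaf 654820188420 0 3)))

def l0 : Line := .forb 0 654819013200 654816129600 [(1, 23), (1, 27), (1, 44), (1, 46)] [⟨[(46, 0), (44, 0), (27, 0), (23, 0)], []⟩, ⟨[(44, 2), (46, 3), (23, 3), (27, 2)], []⟩]

def l1 : Line := .forb 0 654815798580 654816842580 [(1, 0), (1, 29), (1, 37), (1, 54)] [⟨[(37, 1), (54, 3), (0, 4), (29, 2)], []⟩, ⟨[(29, 2), (0, 3), (54, 4), (37, 1)], []⟩]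

def l2 : Line := .forb 0 654814953765 654814953765 [(1, 1), (1, 28), (1, 48), (1, 63)] [⟨[(28, 4), (1, 1), (63, 0), (48, 0)], []⟩, ⟨[(63, 1), (48, 2), (28, 3), (1, 4)], []⟩]

def l3 : Line := .forb 0 654820115475 654820115475 [(1, 3), (1, 38), (1, 50), (1, 70)] [⟨[(70, 4), (50, 4), (38, 1), (3, 1)], []⟩, ⟨[(38, 4), (3, 1), (70, 1), (50, 4)], []⟩]

def l4 : Line := .forb 0 654818153040 654816072240 [(1, 17), (1, 38), (1, 54), (1, 66)] [⟨[(54, 1), (66, 3), (17, 4), (38, 2)], []⟩, ⟨[(66, 0), (54, 4), (38, 1), (17, 0)], []⟩]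

def l5 : Line := .forb 0 654816859155 654818018580 [(1, 0), (1, 14), (1, 66), (1, 67)] [⟨[(67, 1), (66, 4), (14, 1), (0, 4)], []⟩, ⟨[(14, 1), (0, 4), (67, 1), (66, 4)], []⟩]

def l6 : Line := .forb 0 654816859155 654818018580 [(1, 26), (1, 43), (1, 54), (1, 68)] [⟨[(54, 1), (68, 4), (26, 4), (43, 1)], []⟩, ⟨[(68, 4), (54, 1), (43, 4), (26, 1)], []⟩]

def l7 : Line := .forb 0 654818153040 654816072240 [(1, 28), (1, 41), (1, 46), (1, 48)] [⟨[(48, 0), (46, 0), (41, 0), (28, 0)], []⟩, ⟨[(41, 3), (28, 2), (48, 2), (46, 3)], []⟩]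

def l8 : Line := .forb 0 654815011125 654815007525 [(1, 4), (1, 8), (1, 58), (1, 70)] [⟨[(58, 4), (70, 3), (4, 1), (8, 2)], []⟩, ⟨[(8, 4), (4, 1), (70, 3), (58, 2)], []⟩]

def l9 : Line := .forb 0 654815798580 654816842580 [(1, 6), (1, 8), (1, 44), (1, 58)] [⟨[(58, 4), (44, 1), (8, 4), (6, 1)], []⟩, ⟨[(8, 3), (6, 2), (58, 0), (44, 0)], []⟩]

def l10 : Line := .forb 0 654814953765 654814953765 [(1, 17), (1, 41), (1, 46), (1, 66)] [⟨[(66, 3), (46, 4), (41, 1), (17, 2)], []⟩, ⟨[(46, 3), (66, 4), (17, 2), (41, 1)], []⟩]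

def l11 : Line := .forb 0 654819013200 654816129600 [(1, 2), (1, 29), (1, 42), (1, 67)] [⟨[(29, 3), (2, 2), (67, 0), (42, 0)], []⟩, ⟨[(42, 4), (67, 1), (2, 1), (29, 4)], []⟩]

def l12 : Line := .forb 0 654814953765 654814953765 [(1, 7), (1, 23), (1, 42), (1, 68)] [⟨[(42, 3), (68, 2), (7, 2), (23, 3)], []⟩, ⟨[(68, 1), (42, 4), (23, 1), (7, 4)], []⟩]

def l13 : Line := .forb 0 654815011125 654815007525 [(1, 21), (1, 61), (1, 66), (1, 68)] [⟨[(61, 4), (21, 1), (68, 3), (66, 2)], []⟩, ⟨[(68, 1), (66, 4), (61, 1), (21, 4)], []⟩]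

def l14 : Line := .forb 0 654817961280 654816924480 [(1, 3), (1, 4), (1, 47), (1, 71)] [⟨[(4, 2), (3, 3), (71, 1), (47, 4)], []⟩, ⟨[(47, 3), (71, 2), (3, 2), (4, 3)], []⟩]

def l15 : Line := .forb 0 654815937285 654814946385 [(1, 13), (1, 24), (1, 47), (1, 52)] [⟨[(47, 2), (52, 3), (13, 3), (24, 2)], []⟩, ⟨[(24, 4), (13, 1), (52, 0), (47, 0)], []⟩]

def l16 : Line := .forb 0 654818033745 654816007170 [(1, 3), (1, 26), (1, 30), (1, 31)] [⟨[(30, 1), (31, 2), (3, 4), (26, 3)], []⟩, ⟨[(31, 3), (30, 0), (26, 0), (3, 2)], []⟩]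

def l17 : Line := .forb 0 654818230290 654819151890 [(1, 7), (1, 24), (1, 43), (1, 44)] [⟨[(24, 3), (7, 2), (44, 1), (43, 4)], []⟩, ⟨[(43, 1), (44, 4), (7, 4), (24, 1)], []⟩]

def l18 : Line := .forb 0 654820115475 654820115475 [(1, 28), (1, 35), (1, 51), (1, 58)] [⟨[(35, 2), (28, 3), (58, 3), (51, 2)], []⟩, ⟨[(51, 1), (58, 2), (28, 4), (35, 3)], []⟩]

def l19 : Line := .forb 0 654816126000 654819070800 [(1, 7), (1, 11), (1, 39), (1, 53)] [⟨[(11, 4), (7, 1), (53, 3), (39, 2)], []⟩, ⟨[(39, 3), (53, 2), (7, 2), (11, 3)], []⟩]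

def l20 : Line := .forb 0 654820115475 654820115475 [(1, 9), (1, 16), (1, 57), (1, 62)] [⟨[(62, 4), (57, 4), (16, 1), (9, 1)], []⟩, ⟨[(57, 2), (62, 1), (9, 3), (16, 4)], []⟩]

def l21 : Line := .forb 0 654819013200 654816129600 [(1, 0), (1, 8), (1, 61), (1, 63)] [⟨[(8, 2), (0, 3), (63, 1), (61, 4)], []⟩, ⟨[(63, 4), (61, 1), (8, 4), (0, 1)], []⟩]

def l22 : Line := .forb 0 654818033745 654816007170 [(1, 14), (1, 15), (1, 16), (1, 51)] [⟨[(16, 0), (51, 4), (14, 0), (15, 1)], []⟩, ⟨[(15, 2), (14, 3), (51, 1), (16, 4)], []⟩]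

def l23 : Line := .forb 0 654814953765 654814953765 [(1, 8), (1, 12), (1, 56), (1, 58)] [⟨[(12, 4), (8, 1), (58, 1), (56, 4)], []⟩, ⟨[(56, 3), (58, 0), (8, 2), (12, 0)], []⟩]

def l24 : Line := .forb 0 654815937285 654814946385 [(1, 19), (1, 23), (1, 34), (1, 61)] [⟨[(23, 3), (19, 2), (61, 2), (34, 3)], []⟩, ⟨[(61, 0), (34, 0), (23, 0), (19, 0)], []⟩]

def l25 : Line := .forb 0 654816126000 654819070800 [(1, 18), (1, 19), (1, 28), (1, 70)] [⟨[(19, 1), (18, 4), (70, 1), (28, 4)], []⟩, ⟨[(70, 0), (28, 3), (19, 2), (18, 0)], []⟩]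

def l26 : Line := .forb 0 654819988035 654820049460 [(1, 33), (1, 35), (1, 42), (1, 46)] [⟨[(35, 1), (33, 4), (46, 0), (42, 0)], []⟩, ⟨[(46, 4), (42, 3), (35, 2), (33, 1)], []⟩]

def l27 : Line := .forb 0 654818033745 654816007170 [(1, 2), (1, 4), (1, 27), (1, 36)] [⟨[(4, 4), (2, 1), (36, 3), (27, 2)], []⟩, ⟨[(27, 1), (36, 0), (2, 4), (4, 0)], []⟩]

def l28 : Line := .forb 0 654819078225 654816130050 [(1, 13), (1, 23), (1, 34), (1, 52)] [⟨[(23, 3), (13, 2), (52, 0), (34, 0)], []⟩, ⟨[(34, 1), (52, 3), (13, 4), (23, 2)], []⟩]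

def l29 : Line := .forb 0 654819013200 654816129600 [(1, 14), (1, 21), (1, 25), (1, 50)] [⟨[(50, 0), (25, 2), (21, 3), (14, 0)], []⟩, ⟨[(21, 4), (14, 1), (50, 4), (25, 1)], []⟩]

def l30 : Line := .forb 0 654817961280 654816924480 [(1, 7), (1, 21), (1, 25), (1, 39)] [⟨[(21, 1), (7, 4), (39, 4), (25, 1)], []⟩, ⟨[(25, 2), (39, 0), (7, 3), (21, 0)], []⟩]

def l31 : Line := .forb 0 654819013200 654816129600 [(1, 12), (1, 40), (1, 48), (1, 52)] [⟨[(40, 1), (12, 4), (52, 1), (48, 4)], []⟩, ⟨[(52, 4), (48, 2), (40, 3), (12, 1)], []⟩]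

def l32 : Line := .forb 0 654815798580 654816842580 [(1, 11), (1, 21), (1, 25), (1, 53)] [⟨[(53, 0), (25, 4), (21, 1), (11, 0)], []⟩, ⟨[(25, 2), (53, 2), (11, 3), (21, 3)], []⟩]

def l33 : Line := .forb 0 654816126000 654819070800 [(1, 22), (1, 34), (1, 51), (1, 54)] [⟨[(54, 1), (51, 3), (34, 2), (22, 4)], []⟩, ⟨[(51, 0), (54, 4), (22, 0), (34, 1)], []⟩]

def l34 : Line := .forb 0 654815798580 654816842580 [(1, 18), (1, 52), (1, 57), (1, 63)] [⟨[(63, 2), (57, 0), (52, 0), (18, 3)], []⟩, ⟨[(57, 1), (63, 1), (18, 4), (52, 4)], []⟩]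

def l35 : Line := .forb 0 654820250370 654820253745 [(1, 6), (1, 25), (1, 37), (1, 63)] [⟨[(37, 0), (63, 3), (6, 0), (25, 2)], []⟩, ⟨[(25, 1), (6, 4), (63, 4), (37, 1)], []⟩]

def l36 : Line := .forb 0 654819988035 654820049460 [(1, 12), (1, 22), (1, 30), (1, 56)] [⟨[(30, 3), (56, 4), (12, 2), (22, 1)], []⟩, ⟨[(22, 3), (12, 2), (56, 4), (30, 1)], []⟩]

def l37 : Line := .forb 0 654815937285 654814946385 [(1, 1), (1, 2), (1, 16), (1, 22)] [⟨[(2, 4), (1, 1), (22, 3), (16, 2)], []⟩, ⟨[(16, 1), (22, 0), (1, 4), (2, 0)], []⟩]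

def l38 : Line := .forb 0 654819078225 654816130050 [(1, 15), (1, 36), (1, 40), (1, 63)] [⟨[(63, 4), (40, 4), (36, 1), (15, 1)], []⟩, ⟨[(36, 0), (15, 0), (63, 0), (40, 0)], []⟩]

def l39 : Line := .forb 0 654817961280 654816924480 [(1, 9), (1, 12), (1, 34), (1, 67)] [⟨[(34, 4), (67, 4), (9, 1), (12, 1)], []⟩, ⟨[(12, 2), (9, 3), (67, 2), (34, 3)], []⟩]

def l40 : Line := .forb 0 654820115475 654820115475 [(1, 8), (1, 36), (1, 43), (1, 48)] [⟨[(43, 3), (48, 2), (8, 2), (36, 3)], []⟩, ⟨[(36, 0), (8, 0), (48, 4), (43, 1)], []⟩]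

def l41 : Line := .forb 0 654815798580 654816842580 [(1, 27), (1, 28), (1, 33), (1, 67)] [⟨[(33, 0), (67, 2), (27, 0), (28, 3)], []⟩, ⟨[(67, 0), (33, 2), (28, 3), (27, 0)], []⟩]

def l42 : Line := .forb 0 654820250370 654820253745 [(1, 27), (1, 31), (1, 40), (1, 68)] [⟨[(40, 3), (68, 3), (27, 2), (31, 2)], []⟩, ⟨[(68, 4), (40, 2), (31, 3), (27, 1)], []⟩]

def l43 : Line := .forb 0 654819988035 654820049460 [(1, 0), (1, 16), (1, 62), (1, 71)] [⟨[(62, 3), (71, 2), (0, 2), (16, 3)], []⟩, ⟨[(71, 1), (62, 4), (16, 1), (0, 4)], []⟩]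

def lines0 : List Line := [l0, l1, l2, l3, l4, l5, l6, l7, l8, l9, l10, l11, l12, l13, l14, l15, l16, l17, l18, l19, l20, l21, l22, l23, l24, l25, l26, l27, l28, l29, l30, l31, l32, l33, l34, l35, l36, l37, l38, l39, l40, l41, l42, l43]

def final0 : List Item := [⟨4, 0, 0, 0, [(23, 0), (27, 0), (44, 0), (46, 0)]⟩, ⟨2, 1, 0, 0, [(0, 0), (29, 0), (37, 0), (54, 0)]⟩, ⟨2, 2, 0, 0, [(1, 0), (28, 0), (48, 0), (63, 0)]⟩, ⟨4, 3, 0, 0, [(3, 0), (38, 0), (50, 0), (70, 0)]⟩, ⟨1, 4, 0, 0, [(17, 0), (38, 0), (54, 0), (66, 0)]⟩, ⟨2, 5, 0, 0, [(0, 0), (14, 0), (66, 0), (67, 0)]⟩, ⟨3, 6, 0, 0, [(26, 0), (43, 0), (54, 0), (68, 0)]⟩, ⟨1, 7, 0, 0, [(28, 0), (41, 0), (46, 0), (48, 0)]⟩, ⟨2, 8, 0, 0, [(4, 0), (8, 0), (58, 0), (70, 0)]⟩, ⟨2, 9, 0, 0, [(6, 0), (8, 0), (44, 0), (58, 0)]⟩, ⟨4, 10, 0, 0, [(17, 0), (41, 0), (46, 0), (66, 0)]⟩, ⟨3, 11, 0, 0, [(2, 0), (29, 0), (42, 0),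 (67, 0)]⟩, ⟨1, 12, 0, 0, [(7, 0), (23, 0), (42, 0), (68, 0)]⟩, ⟨3, 13, 0, 0, [(21, 0), (61, 0), (66, 0), (68, 0)]⟩, ⟨4, 14, 0, 0, [(3, 0), (4, 0), (47, 0), (71, 0)]⟩, ⟨1, 15, 0, 0, [(13, 0), (24, 0), (47, 0), (52, 0)]⟩, ⟨2, 16, 0, 0, [(3, 0), (26, 0), (30, 0), (31, 0)]⟩, ⟨4, 17, 0, 0, [(7, 0), (24, 0), (43, 0), (44, 0)]⟩, ⟨4, 18, 0, 0, [(28, 0), (35, 0), (51, 0), (58, 0)]⟩, ⟨2, 19, 0, 0, [(7, 0), (11, 0), (39, 0), (53, 0)]⟩, ⟨4, 20, 0, 0, [(9, 0), (16, 0), (57, 0), (62, 0)]⟩, ⟨1, 21, 0, 0, [(0, 0), (8, 0), (61, 0), (63, 0)]⟩, ⟨2, 22, 0, 0, [(14, 0), (15, 0), (16, 0), (51, 0)]⟩, ⟨2, 23, 0, 0, [(8, 0), (12, 0), (56, 0), (58, 0)]⟩, ⟨1, 24, 0, 0, [(19, 0), (23, 0), (34, 0), (61, 0)]⟩, ⟨4, 25, 0, 0, [(18, 0), (19, 0), (28, 0), (70, 0)]⟩, ⟨1, 26, 0, 0, [(33, 0), (35, 0), (42, 0), (46, 0)]⟩, ⟨4, 27, 0, 0, [(2, 0), (4, 0), (27, 0), (36, 0)]⟩, ⟨4, 28, 0, 0, [(13, 0),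 (23, 0), (34, 0), (52, 0)]⟩, ⟨1, 29, 0, 0, [(14, 0), (21, 0), (25, 0), (50, 0)]⟩, ⟨3, 30, 0, 0, [(7, 0), (21, 0), (25, 0), (39, 0)]⟩, ⟨4, 31, 0, 0, [(12, 0), (40, 0), (48, 0), (52, 0)]⟩, ⟨3, 32, 0, 0, [(11, 0), (21, 0), (25, 0), (53, 0)]⟩, ⟨4, 33, 0, 0, [(22, 0), (34, 0), (51, 0), (54, 0)]⟩, ⟨1, 34, 0, 0, [(18, 0), (52, 0), (57, 0), (63, 0)]⟩, ⟨3, 35, 0, 0, [(6, 0), (25, 0), (37, 0), (63, 0)]⟩, ⟨3, 36, 0, 0, [(12, 0), (22, 0), (30, 0), (56, 0)]⟩, ⟨3, 37, 0, 0, [(1, 0), (2, 0), (16, 0), (22, 0)]⟩, ⟨3, 38, 0, 0, [(15, 0), (36, 0), (40, 0), (63, 0)]⟩, ⟨1, 39, 0, 0, [(9, 0), (12, 0), (34, 0), (67, 0)]⟩]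

def final1 : List Item := [⟨3, 40, 0, 0, [(8, 0), (36, 0), (43, 0), (48, 0)]⟩, ⟨4, 41, 0, 0, [(27, 0), (28, 0), (33, 0), (67, 0)]⟩, ⟨3, 42, 0, 0, [(27, 0), (31, 0), (40, 0), (68, 0)]⟩, ⟨1, 43, 0, 0, [(0, 0), (16, 0), (62, 0), (71, 0)]⟩]

/-- The certificate. -/
def cert : Cert := ⟨72, 72, 5, tab, rtab, lines0, final0 ++ final1⟩

end CfsgLib.AltLift.DataC6
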