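import Cfsg.Agent.AltLift.Checker

/-! Certificate data (DataS1). -/

set_option autoImplicit false
set_option maxHeartbeats 4000000
set_option maxRecDepth 10000

namespace CfsgLib.AltLift.DataS1

def tabaaa : Table := .node 19 (.node 9 (.node 4 (.node 2 (.node 1 (.leaf 36344967696 0 0) (.leaf 34752250656 0 0)) (.node 1 (.leaf 36344967201 1 0) (.leaf 34921141296 0 1))) (.node 2 (.node 1 (.leaf 35020686081 1 1) (.leaf 34752249906 0 2)) (.node 1 (.leaf 36344967426 1 2) (.node 1 (.leaf 35200132416 0 3) (.leaf 34401047601 1 3))))) (.node 5 (.node 2 (.node 1 (.leaf 35189576706 0 4) (.leaf 34483815186 1 4)) (.node 1 (.leaf 34921140291 0 5) (.node 1 (.leaf 35020685616 1 5) (.leaf 34752250371 0 6)))) (.node 2 (.node 1 (.leaf 35486004816 0 7) (.leaf 35167626561 1 7)) (.node 1 (.leaf 34411603266 0 8) (.node 1 (.leaf 34635928626 1 8) (.leaf 35468567811 0 9)))))) (.node 10 (.node 5 (.node 2 (.node 1 (.leaf 35206353936 1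 9) (.leaf 35200131156 0 11)) (.node 1 (.leaf 34401046851 1 11) (.node 1 (.leaf 35189576256 0 12) (.leaf 34483814961 1 12)))) (.node 2 (.node 1 (.leaf 34921140996 0 13) (.leaf 35020685331 1 13)) (.node 1 (.leaf 35772307296 0 14) (.node 1 (.leaf 35483973201 1 14) (.leaf 35436721746 0 15))))) (.node 5 (.node 2 (.node 1 (.leaf 35182306626 1 15) (.leaf 34429040211 0 16)) (.node 1 (.leaf 34681087296 1 16) (.node 1 (.leaf 34898142531 0 17) (.leaf 35754440196 0 18)))) (.node 2 (.node 1 (.leaf 35436061971 1 18) (.leaf 35485345056 0 19)) (.node 1 (.leaf 35172799521 1 19) (.node 1 (.leaf 35167625556 1 20) (.leaf 34411602516 0 21))))))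

def tabaab : Table := .node 19 (.node 9 (.node 4 (.node 2 (.node 1 (.leaf 34635928131 1 21) (.leaf 35468567376 0 22)) (.node 1 (.leaf 35206352961 1 22) (.leaf 34384270146 0 23))) (.node 2 (.node 1 (.leaf 35200132101 0 24) (.leaf 34401047316 1 24)) (.node 1 (.leaf 35189575716 0 25) (.node 1 (.leaf 34483814691 1 25) (.leaf 36058636656 0 26))))) (.node 5 (.node 2 (.node 1 (.leaf 35772180321 1 26) (.leaf 35769227106 0 27)) (.node 1 (.leaf 35484890706 1 27) (.node 1 (.leaf 35706247011 0 28) (.leaf 35453564496 1 28)))) (.node 2 (.node 1 (.leaf 35467130451 0 29) (.leaf 34446907236 0 30)) (.node 1 (.leaf 34695444051 1 30) (.node 1 (.leaf 34966959696 0 31) (.leaf 34947425601 1 31)))))) (.node 10 (.node 5 (.node 2 (.node 1 (.leaf 34379097411 1 32) (.leaf 36040742661 0 33)) (.node 1 (.leaf 35752408596 1 33) (.node 1 (.leaf 35705157156 0 34) (.leaf 35450742051 1 34)))) (.node 2 (.node 1 (.leaf 35486393601 1 35) (.leaf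 35435013426 0 36)) (.node 1 (.leaf 35182305876 1 37) (.node 1 (.leaf 34429039461 0 38) (.leaf 34681086036 1 38))))) (.node 5 (.node 2 (.node 1 (.leaf 34898142036 0 39) (.leaf 35754439776 0 40)) (.node 1 (.leaf 35436061521 1 40) (.node 1 (.leaf 35485343826 0 41) (.leaf 35172798786 1 41)))) (.node 2 (.node 1 (.leaf 34394825811 0 42) (.leaf 35486004486 0 43)) (.node 1 (.leaf 35167626261 1 43) (.node 1 (.leaf 34411602981 0 44) (.leaf 35468566581 0 45))))))

def tabaa : Table := .node 39 tabaaa tabaab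

def tababa : Table := .node 19 (.node 9 (.node 4 (.node 2 (.node 1 (.leaf 35206353156 1 45) (.leaf 35772237666 1 48)) (.node 1 (.leaf 36054507891 0 49) (.leaf 35770279776 1 49))) (.node 2 (.node 1 (.leaf 35771127651 0 50) (.leaf 35975799156 0 51)) (.node 1 (.leaf 35722897251 1 51) (.node 1 (.leaf 35739866976 0 52) (.leaf 35470210641 1 52))))) (.node 5 (.node 2 (.node 1 (.leaf 35752384356 0 53) (.leaf 34464801141 0 54)) (.node 1 (.leaf 34715215716 1 54) (.node 1 (.leaf 34980697956 0 55) (.leaf 35253262176 0 56)))) (.node 2 (.node 1 (.leaf 34430154321 1 56) (.leaf 36327072006 0 59)) (.node 1 (.leaf 36040615701 1 59) (.node 1 (.leaf 36037662501 0 60) (.leaf 35753326116 1 60)))))) (.node 10 (.node 5 (.node 2 (.node 1 (.leaf 35974682421 0 61) (.leaf 35721999876 1 61)) (.node 1 (.leaf 35735565876 0 62) (.node 1 (.leaf 35484296466 1 63) (.leaf 35704108611 0 64)))) (.node 2 (.node 1 (.leaf 35452839216 1 64) (.leaf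 35467129701 0 65)) (.node 1 (.leaf 34446906486 0 66) (.node 1 (.leaf 34695443301 1 66) (.leaf 34947424596 1 67))))) (.node 5 (.node 2 (.node 1 (.leaf 35167237221 0 68) (.leaf 34379096916 1 68)) (.node 1 (.leaf 36040742256 0 69) (.node 1 (.leaf 35752408161 1 69) (.leaf 35705156706 0 70)))) (.node 2 (.node 1 (.leaf 35450741586 1 70) (.leaf 35771215971 0 71)) (.node 1 (.leaf 35486392656 1 71) (.node 1 (.leaf 35435012691 0 72) (.leaf 34412262756 0 73))))))

def tababb : Table := .node 20 (.node 10 (.node 5 (.node 2 (.node 1 (.leaf 34630755411 1 73) (.leaf 35772306951 0 74)) (.node 1 (.leaf 35483972886 1 74) (.node 1 (.leaf 35436721446 0 75) (.leaf 35182306341 1 75)))) (.node 2 (.node 1 (.leaf 34429039926 0 76) (.leaf 34681086981 1 76)) (.node 1 (.leaf 35754438726 0 77) (.node 1 (.leaf 35436060981 1 77) (.leaf 35485344261 0 78))))) (.node 5 (.node 2 (.node 1 (.leaf 35172798996 1 78) (.leaf 36058562931 0 79)) (.node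 1 (.leaf 36055548531 1 80) (.node 1 (.leaf 36057391476 0 82) (.leaf 35769100131 1 82)))) (.node 2 (.node 1 (.leaf 36245352981 0 83) (.leaf 35992568436 1 83)) (.node 1 (.leaf 36009161076 0 84) (.node 1 (.leaf 35739731811 1 84) (.leaf 36026196336 0 85)))))) (.node 10 (.node 5 (.node 2 (.node 1 (.leaf 35706316641 1 85) (.leaf 35756447586 0 86)) (.node 1 (.leaf 36037665141 0 87) (.node 1 (.leaf 35753305956 1 87) (.leaf 34482696726 0 88)))) (.node 2 (.node 1 (.leaf 34733228661 1 88) (.leaf 35001479541 0 89)) (.node 1 (.leaf 34983708516 1 89) (.node 1 (.leaf 35265978741 0 90) (.leaf 34444879716 1 90))))) (.node 5 (.node 2 (.node 1 (.leaf 35539591536 0 91) (.leaf 35253135201 1 91)) (.node 1 (.leaf 34448021346 0 92) (.node 1 (.leaf 34698458706 1 92) (.leaf 36327064086 1 93)))) (.node 2 (.node 1 (.leaf 36326879526 0 94) (.leaf 36040673061 1 94)) (.node 1 (.leaf 36322943286 0 95) (.node 1 (.leaf 36038715141 1 95) (.leaf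 36039563061 0 96))))))

def tabab : Table := .node 39 tababa tababb

def taba : Table := .node 78 tabaa tabab

def tabbaa : Table := .node 19 (.node 9 (.node 4 (.node 2 (.node 1 (.leaf 36244234566 0 97) (.leaf 35991332661 1 97)) (.node 1 (.leaf 36008302341 0 98) (.leaf 35738646036 1 98))) (.node 2 (.node 1 (.leaf 36020819781 0 99) (.leaf 35973633876 0 101)) (.node 1 (.leaf 35718854211 1 101) (.node 1 (.leaf 35738711616 0 102) (.leaf 35467519281 1 102))))) (.node 5 (.node 2 (.node 1 (.leaf 34464802071 0 104) (.leaf 34715214966 1 104)) (.node 1 (.leaf 35181982821 1 107) (.node 1 (.leaf 36327073296 0 109) (.leaf 35753325666 1 110)))) (.node 2 (.node 1 (.leaf 35974681971 0 111) (.leaf 35721999456 1 111)) (.node 1 (.leaf 35735565411 0 112) (.node 1 (.leaf 36057518196 0 113) (.leaf 35484295761 1 114)))))) (.node 10 (.node 5 (.node 2 (.node 1 (.leaf 35704107876 0 115) (.leaf 35452837971 1 115)) (.node 1 (.leaf 34430129781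 0 116) (.node 1 (.leaf 34678666596 1 116) (.leaf 35484890406 1 119)))) (.node 2 (.node 1 (.leaf 35706246711 0 120) (.leaf 35453564166 1 120)) (.node 1 (.leaf 35467130166 0 121) (.node 1 (.leaf 34446906951 0 122) (.leaf 34695443766 1 122))))) (.node 5 (.node 2 (.node 1 (.leaf 34966959366 0 123) (.leaf 34947425301 1 123)) (.node 1 (.leaf 36040740951 0 124) (.node 1 (.leaf 35450741301 1 125) (.leaf 35771216646 0 126)))) (.node 2 (.node 1 (.leaf 35486392341 1 126) (.leaf 35435012901 0 127)) (.node 1 (.leaf 36057449076 1 130) (.node 1 (.leaf 36054380916 0 131) (.leaf 34635858726 0 132))))))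

def tabbab : Table := .node 20 (.node 10 (.node 5 (.node 2 (.node 1 (.leaf 36009349236 1 133) (.leaf 36295426581 0 134)) (.node 1 (.leaf 35975672436 1 134) (.node 1 (.leaf 36026057076 0 135) (.leaf 36312527376 0 136)))) (.node 2 (.node 1 (.leaf 35723085666 1 137) (.leaf 36042711411 0 138)) (.node 1 (.leaf 35756517216 1 138) (.node 1 (.leaf 36322947606 0 139) (.leaf 36038705781 1 139))))) (.node 5 (.node 2 (.node 1 (.leaf 36039569781 0 140) (.leaf 34751131686 1 141)) (.node 1 (.leaf 35019555606 0 142) (.node 1 (.leaf 35287745046 0 143) (.leaf 34464674421 1 143)))) (.node 2 (.node 1 (.leaf 35270033781 0 144) (.leaf 35551261206 0 145)) (.node 1 (.leaf 35267019381 1 145) (.node 1 (.leaf 34462773621 0 146) (.leaf 35825922576 0 147)))))) (.node 10 (.node 5 (.node 2 (.node 1 (.leaf 35253192546 1 148) (.leaf 34465915251 0 149)) (.node 1 (.leaf 34716460896 1 149) (.node 1 (.leaf 34984695651 0 150) (.leaf 34734096951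 0 152)))) (.node 2 (.node 1 (.leaf 36326945286 1 152) (.leaf 36326998326 0 153)) (.node 1 (.leaf 34729177671 0 154) (.node 1 (.leaf 36323983926 1 154) (.leaf 36325044486 0 155))))) (.node 5 (.node 2 (.node 1 (.leaf 36325826886 0 156) (.leaf 36037535541 1 156)) (.node 1 (.leaf 34634740311 0 157) (.node 1 (.leaf 36008167221 1 158) (.leaf 36294631686 0 159)))) (.node 2 (.node 1 (.leaf 35974752021 1 159) (.leaf 36024882981 0 160)) (.node 1 (.leaf 36306100566 0 161) (.node 1 (.leaf 36021741381 1 161) (.leaf 36025014096 0 164))))))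

def tabba : Table := .node 39 tabbaa tabbab

def tabbba : Table := .node 19 (.node 9 (.node 4 (.node 2 (.node 1 (.leaf 34482697761 0 166) (.leaf 34733229351 1 166)) (.node 1 (.leaf 35001480471 0 167) (.leaf 34734356256 0 169))) (.node 2 (.node 1 (.leaf 36039562611 0 170) (.leaf 35991332211 1 171)) (.node 1 (.leaf 36008301936 0 172) (.node 1 (.leaf 35738645601 1 172) (.leaf 36020819316 0 173))))) (.node 5 (.node 2 (.node 1 (.leaf 35703125091 1 173) (.leaf 35769119586 0 175)) (.node 1 (.leaf 35718853476 1 176) (.node 1 (.leaf 35467518291 1 177) (.leaf 34698438261 1 178)))) (.node 2 (.node 1 (.leaf 34963920501 0 179) (.leaf 35771127351 0 180)) (.node 1 (.leaf 35722896951 1 181) (.node 1 (.leaf 35739866631 0 182) (.leaf 34715215431 1 184)))))) (.node 10 (.node 5 (.node 2 (.node 1 (.leaf 35253261831 0 186) (.leaf 35735565126 0 189)) (.node 1 (.leaf 35484295461 1 191) (.node 1 (.leaf 35452838661 1 192) (.leaf 36055298676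 1 194)))) (.node 2 (.node 1 (.leaf 34898072631 0 195) (.leaf 36295491621 1 197)) (.node 1 (.leaf 35992514676 1 198) (.node 1 (.leaf 36312384021 0 199) (.leaf 36025930356 1 199))))) (.node 5 (.node 2 (.node 1 (.leaf 36009410931 0 201) (.leaf 36042769011 1 202)) (.node 1 (.leaf 36323995686 1 204) (.node 1 (.leaf 36325032726 0 205) (.leaf 36325835286 0 206)))) (.node 2 (.node 1 (.leaf 34920022071 0 207) (.leaf 35019567366 1 207)) (.node 1 (.leaf 34482688806 1 208) (.node 1 (.leaf 35456570151 0 209) (.leaf 35287810086 1 209))))))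

def tabbbb : Table := .node 20 (.node 10 (.node 5 (.node 2 (.node 1 (.leaf 34482570006 0 210) (.leaf 35556360726 0 211)) (.node 1 (.leaf 35552309286 1 212) (.node 1 (.leaf 35553346326 0 213) (.leaf 34480669206 0 214)))) (.node 2 (.node 1 (.leaf 34729112181 1 214) (.leaf 35539517811 0 216)) (.node 1 (.leaf 34447894371 1 219) (.node 1 (.leaf 35002597431 1 220) (.leaf 34998661191 1 223))))) (.node 5 (.node 2 (.node 1 (.leaf 36294492486 0 229) (.leaf 36311146806 0 232)) (.node 1 (.leaf 36024952581 1 232) (.node 1 (.leaf 36311343456 0 235) (.leaf 36024887121 1 235)))) (.node 2 (.node 1 (.leaf 35287746081 0 238) (.leaf 36325828116 0 240)) (.node 1 (.leaf 36008166771 1 241) (.node 1 (.leaf 36294632976 0 242) (.leaf 36021740916 1 244)))))) (.node 10 (.node 5 (.node 2 (.node 1 (.leaf 35972650356 0 245) (.leaf 36054373491 0 246)) (.node 1 (.leaf 36009162561 0 252) (.node 1 (.leaf 35739731511 1 252) (.leaf 34983708231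 1 254)))) (.node 2 (.node 1 (.leaf 35467518741 1 258) (.leaf 36295557381 1 261)) (.node 1 (.leaf 36025999476 1 264) (.node 1 (.leaf 34731278391 0 267) (.leaf 34383143991 0 272))))) (.node 5 (.node 2 (.node 1 (.leaf 35287875846 1 274) (.leaf 35556364326 1 276)) (.node 1 (.leaf 35553358086 1 277) (.node 1 (.leaf 35551253286 1 278) (.leaf 34465788276 0 282)))) (.node 2 (.node 1 (.leaf 34716387171 1 282) (.leaf 34465792311 1 283)) (.node 1 (.leaf 36025009941 1 287) (.node 1 (.leaf 36024944466 1 289) (.leaf 35975673666 1 297))))))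

def tabbb : Table := .node 39 tabbba tabbbb

def tabb : Table := .node 79 tabba tabbb

def tab : Table := .node 157 taba tabb

def rtab : Table := .node 32 (.node 16 (.node 8 (.node 4 (.node 2 (.node 1 (.leaf 36344967696 0 0) (.leaf 36343984641 0 0)) (.node 1 (.leaf 36344959026 1 0) (.leaf 35199678036 2 0))) (.node 2 (.node 1 (.leaf 36343975971 1 1) (.leaf 35198694981 2 1)) (.node 1 (.leaf 36343972146 0 2) (.leaf 35199669366 2 2)))) (.node 4 (.node 2 (.node 1 (.leaf 34631480916 1 3) (.leaf 36344955171 0 4)) (.node 1 (.leaf 35198686311 2 4) (.leaf 34630497861 1 5))) (.node 2 (.node 1 (.leaf 36343980816 1 6) (.leaf 35198682486 2 6)) (.node 1 (.leaf 34631472246 1 7) (.leaf 34379822661 0 8))))) (.node 8 (.node 4 (.node 2 (.node 1 (.leaf 35776770576 2 8) (.leaf 36344963841 1 9)) (.node 1 (.leaf 35199665511 2 9) (.leaf 34630489191 1 10))) (.node 2 (.node 1 (.leaf 34378839636 0 11) (.leaf 35775787521 2 11)) (.node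 1 (.leaf 35198691156 2 12) (.leaf 34630485366 1 13)))) (.node 4 (.node 2 (.node 1 (.leaf 34379810166 0 14) (.leaf 35776761906 2 14)) (.node 1 (.leaf 34948019781 1 15) (.leaf 35525112321 2 15))) (.node 2 (.node 1 (.leaf 35199674181 2 17) (.leaf 34631468391 1 18)) (.node 1 (.leaf 34378827111 0 19) (.leaf 35775778851 2 19)))))) (.node 16 (.node 8 (.node 4 (.node 2 (.node 1 (.leaf 34947036756 1 20) (.leaf 35524129296 2 20)) (.node 1 (.leaf 34630494036 1 22) (.leaf 34378830966 0 23))) (.node 2 (.node 1 (.leaf 35775775026 2 23) (.leaf 34948007286 1 24)) (.node 1 (.leaf 35525099826 2 24) (.leaf 36093309441 2 26)))) (.node 4 (.node 2 (.node 1 (.leaf 35525103651 1 27) (.leaf 34631477061 1 28)) (.node 1 (.leaf 34379813991 0 29) (.leaf 35776758051 2 29))) (.node 2 (.node 1 (.leaf 34947024231 1 30) (.leaf 35524116771 2 30)) (.node 1 (.leaf 36092326416 2 32) (.leaf 35524120626 1 33))))) (.node 8 (.node 4 (.node 2 (.node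 1 (.leaf 34378835781 0 34) (.leaf 35775783696 2 34)) (.node 1 (.leaf 34947028086 1 35) (.leaf 36093296946 2 37))) (.node 2 (.node 1 (.leaf 35525108496 1 38) (.leaf 36093300771 1 39)) (.node 1 (.leaf 34379818836 0 41) (.leaf 35776766721 2 41)))) (.node 4 (.node 2 (.node 1 (.leaf 34948011111 1 42) (.leaf 36092313891 2 44)) (.node 1 (.leaf 35524125441 1 45) (.leaf 36092317746 1 46))) (.node 2 (.node 1 (.leaf 34947032901 1 48) (.leaf 36093305616 1 51)) (.node 1 (.leaf 34948015956 1 54) (.leaf 36092322561 1 57))))))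

def l0 : Line := .forb 4 34380064071 34429031271 [(1, 268), (1, 271), (1, 294)] [⟨[(268, 39), (294, 28), (271, 32)], []⟩, ⟨[(294, 31), (271, 18), (268, 49)], []⟩]

def l1 : Line := .forb 4 36309196881 36290581506 [(1, 114), (1, 198), (1, 304)] [⟨[(198, 32), (114, 28), (304, 61)], []⟩, ⟨[(114, 54), (304, 29), (198, 8)], []⟩]

def l2 : Line := .forb 4 35720819556 35189171556 [(1, 99), (1, 245), (1, 247)] [⟨[(99, 1), (247, 0), (245, 0)], []⟩, ⟨[(247, 24), (245, 44), (99, 54)], []⟩]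

def l3 : Line := .forb 4 34918921776 35204110176 [(1, 36), (1, 298), (1, 310)] [⟨[(310, 48), (298, 12), (36, 44)], []⟩, ⟨[(298, 25), (36, 9), (310, 11)], []⟩]

def l4 : Line := .forb 4 34964132151 34430392101 [(1, 143), (1, 156), (1, 171)] [⟨[(171, 38), (156, 61), (143, 31)], []⟩, ⟨[(143, 34), (171, 37), (156, 42)], []⟩]

def l5 : Line := .forb 4 34749097476 36008121201 [(1, 171), (1, 206), (1, 238)] [⟨[(238, 31), (206, 39), (171, 38)], []⟩, ⟨[(171, 7), (238, 29), (206, 18)], []⟩]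

def l6 : Line := .forb 4 34701584181 34980893556 [(1, 273), (1, 280), (1, 285)] [⟨[(285, 5), (280, 1), (273, 5)], []⟩, ⟨[(280, 29), (273, 18), (285, 37)], []⟩]

def l7 : Line := .forb 4 35989438551 34478441826 [(1, 204), (1, 272), (1, 286)] [⟨[(286, 52), (272, 61), (204, 49)], []⟩, ⟨[(272, 13), (204, 42), (286, 56)], []⟩]

def l8 : Line := .forb 4 34434393621 35735880471 [(1, 100), (1, 262), (1, 283)] [⟨[(100, 61), (283, 21), (262, 27)], []⟩, ⟨[(283, 61), (262, 44), (100, 27)], []⟩]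

def l9 : Line := .forb 4 34668245076 35249997426 [(1, 204), (1, 236), (1, 308)] [⟨[(204, 12), (308, 4), (236, 6)], []⟩, ⟨[(236, 60), (204, 8), (308, 8)], []⟩]

def l10 : Line := .forb 4 35556385056 36026401056 [(1, 93), (1, 276), (1, 293)] [⟨[(276, 52), (93, 49), (293, 39)], []⟩, ⟨[(93, 37), (293, 15), (276, 23)], []⟩]

def l11 : Line := .forb 4 35483903826 34948472901 [(1, 25), (1, 50), (1, 249)] [⟨[(25, 39), (249, 39), (50, 39)], []⟩, ⟨[(50, 57), (25, 0), (249, 56)], []⟩]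

def l12 : Line := .forb 4 36021018996 34749834021 [(1, 18), (1, 177), (1, 264)] [⟨[(264, 5), (177, 39), (18, 5)], []⟩, ⟨[(18, 15), (264, 57), (177, 0)], []⟩]

def l13 : Line := .forb 4 35719160676 35457606501 [(1, 109), (1, 159), (1, 211)] [⟨[(211, 53), (159, 12), (109, 51)], []⟩, ⟨[(159, 44), (109, 14), (211, 48)], []⟩]

def l14 : Line := .forb 4 35251111431 34399810881 [(1, 98), (1, 124), (1, 299)] [⟨[(98, 61), (299, 52), (124, 49)], []⟩, ⟨[(124, 15), (98, 26), (299, 13)], []⟩]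

def l15 : Line := .forb 4 35233605456 34965189456 [(1, 153), (1, 213), (1, 237)] [⟨[(153, 61), (237, 38), (213, 31)], []⟩, ⟨[(237, 14), (213, 13), (153, 48)], []⟩]

def l16 : Line := .forb 4 35251314711 34416653586 [(1, 39), (1, 91), (1, 118)] [⟨[(91, 10), (39, 15), (118, 39)], []⟩, ⟨[(39, 41), (118, 48), (91, 35)], []⟩]

def l17 : Line := .forb 4 34747928646 35973580146 [(1, 31), (1, 43), (1, 217)] [⟨[(43, 31), (31, 38), (217, 39)], []⟩, ⟨[(31, 18), (217, 31), (43, 49)], []⟩]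

def l18 : Line := .forb 4 34954547286 35703252786 [(1, 191), (1, 220), (1, 259)] [⟨[(191, 61), (259, 21), (220, 27)], []⟩, ⟨[(259, 16), (220, 15), (191, 63)], []⟩]

def l19 : Line := .forb 4 36344766531 36344759106 [(1, 5), (1, 27), (1, 250)] [⟨[(27, 32), (5, 28), (250, 12)], []⟩, ⟨[(5, 20), (250, 18), (27, 29)], []⟩]

def l20 : Line := .forb 4 34967322966 35434944291 [(1, 191), (1, 223), (1, 304)] [⟨[(304, 54), (223, 39), (191, 56)], []⟩, ⟨[(191, 8), (304, 18), (223, 28)], []⟩]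

def l21 : Line := .forb 4 36311143971 36277977396 [(1, 154), (1, 212), (1, 272)] [⟨[(154, 1), (272, 6), (212, 4)], []⟩, ⟨[(212, 7), (154, 30), (272, 7)], []⟩]

def l22 : Line := .forb 4 35167617366 35434755366 [(1, 15), (1, 106), (1, 266)] [⟨[(266, 30), (106, 12), (15, 30)], []⟩, ⟨[(106, 7), (15, 60), (266, 18)], []⟩]

def l23 : Line := .forb 4 34700931111 34432495986 [(1, 15), (1, 187), (1, 239)] [⟨[(239, 18), (187, 12), (15, 20)], []⟩, ⟨[(187, 54), (15, 5), (239, 56)], []⟩]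

def l24 : Line := .forb 4 35169575271 34381067046 [(1, 3), (1, 148), (1, 149)] [⟨[(148, 13), (3, 11), (149, 61)], []⟩, ⟨[(149, 43), (148, 56), (3, 59)], []⟩]

def l25 : Line := .forb 4 36326998881 36262192131 [(1, 234), (1, 268), (1, 307)] [⟨[(268, 48), (234, 44), (307, 12)], []⟩, ⟨[(234, 13), (307, 26), (268, 15)], []⟩]

def l26 : Line := .forb 4 36241228641 36259964166 [(1, 155), (1, 213), (1, 275)] [⟨[(155, 1), (275, 19), (213, 24)], []⟩, ⟨[(275, 43), (213, 8), (155, 33)], []⟩]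

def l27 : Line := .forb 4 34682852976 34665227376 [(1, 14), (1, 23), (1, 182)] [⟨[(23, 28), (14, 32), (182, 1)], []⟩, ⟨[(14, 7), (182, 21), (23, 61)], []⟩]

def l28 : Line := .forb 4 34683773556 34683773556 [(1, 111), (1, 140), (1, 167)] [⟨[(140, 12), (111, 12), (167, 12)], []⟩, ⟨[(167, 29), (140, 50), (111, 44)], []⟩]

def l29 : Line := .forb 4 35536334931 35267216706 [(1, 157), (1, 269), (1, 292)] [⟨[(292, 34), (269, 1), (157, 37)], []⟩, ⟨[(269, 62), (157, 13), (292, 10)], []⟩]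

def l30 : Line := .forb 4 34919112756 35489060706 [(1, 88), (1, 94), (1, 232)] [⟨[(94, 46), (88, 46), (232, 12)], []⟩, ⟨[(232, 14), (94, 48), (88, 20)], []⟩]

def l31 : Line := .forb 4 34901022486 34900100886 [(1, 5), (1, 86), (1, 119)] [⟨[(119, 8), (86, 12), (5, 7)], []⟩, ⟨[(5, 11), (119, 23), (86, 54)], []⟩]

def l32 : Line := .forb 4 34381124151 34430325351 [(1, 158), (1, 210), (1, 285)] [⟨[(158, 61), (285, 28), (210, 32)], []⟩, ⟨[(285, 21), (210, 41), (158, 61)], []⟩]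

def l33 : Line := .forb 4 35484225906 34698911781 [(1, 95), (1, 145), (1, 231)] [⟨[(231, 33), (145, 61), (95, 33)], []⟩, ⟨[(95, 48), (231, 23), (145, 15)], []⟩]

def l34 : Line := .forb 4 35754766656 35239585056 [(1, 62), (1, 115), (1, 199)] [⟨[(115, 9), (62, 9), (199, 61)], []⟩, ⟨[(62, 13), (199, 2), (115, 45)], []⟩]

def l35 : Line := .forb 4 35553038691 35990734116 [(1, 125), (1, 165), (1, 302)] [⟨[(302, 15), (165, 1), (125, 10)], []⟩, ⟨[(125, 41), (302, 61), (165, 21)], []⟩]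

def l36 : Line := .forb 4 35804103456 35541688656 [(1, 1), (1, 86), (1, 178)] [⟨[(178, 28), (86, 12), (1, 32)], []⟩, ⟨[(86, 51), (1, 1), (178, 44)], []⟩]

def l37 : Line := .forb 4 36295737636 36326891811 [(1, 55), (1, 103), (1, 122)] [⟨[(55, 39), (122, 27), (103, 21)], []⟩, ⟨[(103, 3), (55, 48), (122, 48)], []⟩]

def l38 : Line := .forb 4 35776562706 35743219731 [(1, 169), (1, 230), (1, 276)] [⟨[(169, 12), (276, 51), (230, 53)], []⟩, ⟨[(230, 44), (169, 14), (276, 48)], []⟩]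

def l39 : Line := .forb 4 35434681911 34396902486 [(1, 55), (1, 66), (1, 183)] [⟨[(55, 12), (183, 51), (66, 53)], []⟩, ⟨[(66, 26), (55, 56), (183, 10)], []⟩]

def l40 : Line := .forb 4 36340761906 36341813331 [(1, 90), (1, 104), (1, 110)] [⟨[(90, 39), (110, 36), (104, 40)], []⟩, ⟨[(104, 42), (90, 13), (110, 13)], []⟩]

def l41 : Line := .forb 4 35205353556 35518445106 [(1, 19), (1, 84), (1, 301)] [⟨[(301, 57), (84, 12), (19, 57)], []⟩, ⟨[(84, 49), (19, 36), (301, 44)], []⟩]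

def l42 : Line := .forb 4 36327022611 36295738386 [(1, 225), (1, 234), (1, 278)] [⟨[(234, 44), (225, 48), (278, 12)], []⟩, ⟨[(278, 44), (234, 8), (225, 32)], []⟩]

def l43 : Line := .forb 4 34462962741 35534279991 [(1, 8), (1, 201), (1, 203)] [⟨[(8, 12), (203, 43), (201, 43)], []⟩, ⟨[(203, 4), (201, 8), (8, 40)], []⟩]

def l44 : Line := .forb 4 34481709846 35974882071 [(1, 141), (1, 154), (1, 308)] [⟨[(308, 36), (154, 39), (141, 40)], []⟩, ⟨[(154, 42), (141, 13), (308, 13)], []⟩]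

def l45 : Line := .forb 4 36293337381 36289470756 [(1, 100), (1, 284), (1, 303)] [⟨[(303, 28), (284, 12), (100, 32)], []⟩, ⟨[(100, 15), (303, 32), (284, 20)], []⟩]

def l46 : Line := .forb 4 34920157956 35520522081 [(1, 24), (1, 48), (1, 149)] [⟨[(48, 5), (24, 5), (149, 12)], []⟩, ⟨[(149, 31), (48, 41), (24, 49)], []⟩]

def l47 : Line := .forb 4 35271098481 34734306306 [(1, 62), (1, 192), (1, 196)] [⟨[(192, 2), (62, 2), (196, 61)], []⟩, ⟨[(62, 50), (196, 55), (192, 46)], []⟩]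

def l48 : Line := .forb 4 36276864561 36276868611 [(1, 222), (1, 271), (1, 278)] [⟨[(271, 59), (222, 59), (278, 1)], []⟩, ⟨[(222, 56), (278, 24), (271, 13)], []⟩]

def l49 : Line := .forb 4 35541688581 35803054881 [(1, 99), (1, 176), (1, 263)] [⟨[(176, 33), (99, 33), (263, 1)], []⟩, ⟨[(99, 56), (263, 16), (176, 63)], []⟩]

def l50 : Line := .forb 4 34381124466 34698764391 [(1, 227), (1, 280), (1, 305)] [⟨[(305, 26), (280, 61), (227, 22)], []⟩, ⟨[(280, 20), (227, 14), (305, 41)], []⟩]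

def l51 : Line := .forb 4 34947298326 35169396501 [(1, 87), (1, 160), (1, 184)] [⟨[(87, 39), (184, 36), (160, 40)], []⟩, ⟨[(184, 54), (160, 13), (87, 5)], []⟩]

def l52 : Line := .forb 4 35825656596 36061586196 [(1, 10), (1, 56), (1, 182)] [⟨[(10, 61), (182, 40), (56, 36)], []⟩, ⟨[(182, 33), (56, 56), (10, 63)], []⟩]

def l53 : Line := .forb 4 34662004071 34378888821 [(1, 30), (1, 105), (1, 183)] [⟨[(105, 36), (30, 40), (183, 61)], []⟩, ⟨[(183, 48), (105, 18), (30, 35)], []⟩]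

def l54 : Line := .forb 4 35452379991 34411586916 [(1, 30), (1, 103), (1, 185)] [⟨[(185, 4), (103, 12), (30, 6)], []⟩, ⟨[(30, 37), (185, 5), (103, 37)], []⟩]

def l55 : Line := .forb 4 35017262436 35989247811 [(1, 20), (1, 80), (1, 123)] [⟨[(20, 1), (123, 7), (80, 8)], []⟩, ⟨[(123, 3), (80, 44), (20, 50)], []⟩]

def l56 : Line := .forb 4 35435779701 34662204726 [(1, 13), (1, 27), (1, 178)] [⟨[(13, 1), (178, 53), (27, 51)], []⟩, ⟨[(178, 45), (27, 34), (13, 55)], []⟩]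

def l57 : Line := .forb 4 35756843271 34434540321 [(1, 58), (1, 68), (1, 147)] [⟨[(147, 24), (68, 12), (58, 19)], []⟩, ⟨[(58, 7), (147, 0), (68, 57)], []⟩]

def l58 : Line := .forb 4 35255304816 34718577216 [(1, 34), (1, 248), (1, 302)] [⟨[(248, 0), (34, 0), (302, 12)], []⟩, ⟨[(34, 13), (302, 2), (248, 45)], []⟩]

def l59 : Line := .forb 4 35753443446 34635736146 [(1, 33), (1, 144), (1, 172)] [⟨[(144, 61), (33, 61), (172, 1)], []⟩, ⟨[(172, 23), (144, 54), (33, 56)], []⟩]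

def l60 : Line := .forb 4 35467391331 35186476581 [(1, 22), (1, 51), (1, 251)] [⟨[(22, 61), (251, 31), (51, 38)], []⟩, ⟨[(51, 58), (22, 25), (251, 54)], []⟩]

def l61 : Line := .forb 4 35251119111 34416522561 [(1, 124), (1, 164), (1, 172)] [⟨[(164, 47), (124, 47), (172, 61)], []⟩, ⟨[(172, 32), (164, 8), (124, 8)], []⟩]

def l62 : Line := .forb 4 34417496646 35705152071 [(1, 65), (1, 76), (1, 128)] [⟨[(65, 61), (128, 13), (76, 11)], []⟩, ⟨[(76, 41), (65, 3), (128, 20)], []⟩]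

def l63 : Line := .forb 4 35519886096 35238913296 [(1, 16), (1, 121), (1, 265)] [⟨[(16, 61), (265, 10), (121, 15)], []⟩, ⟨[(265, 25), (121, 44), (16, 58)], []⟩]

def l64 : Line := .forb 4 35552166501 35987604051 [(1, 126), (1, 194), (1, 311)] [⟨[(194, 20), (126, 18), (311, 1)], []⟩, ⟨[(126, 54), (311, 11), (194, 62)], []⟩]

def l65 : Line := .forb 4 34444879686 34902983511 [(1, 96), (1, 146), (1, 254)] [⟨[(96, 61), (254, 27), (146, 21)], []⟩, ⟨[(146, 32), (96, 50), (254, 8)], []⟩]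

def l66 : Line := .forb 4 35468490576 34965239376 [(1, 209), (1, 226), (1, 229)] [⟨[(226, 31), (209, 38), (229, 61)], []⟩, ⟨[(229, 27), (226, 11), (209, 12)], []⟩]

def l67 : Line := .forb 4 36242199846 36241166646 [(1, 175), (1, 262), (1, 270)] [⟨[(262, 50), (175, 41), (270, 12)], []⟩, ⟨[(270, 63), (262, 37), (175, 9)], []⟩]

def l68 : Line := .forb 4 36275770881 36275770881 [(1, 63), (1, 198), (1, 220)] [⟨[(198, 44), (63, 48), (220, 61)], []⟩, ⟨[(220, 36), (198, 41), (63, 49)], []⟩]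

def l69 : Line := .forb 4 35485274151 34430476626 [(1, 205), (1, 237), (1, 313)] [⟨[(237, 38), (205, 31), (313, 61)], []⟩, ⟨[(205, 48), (313, 35), (237, 50)], []⟩]

def l70 : Line := .forb 4 35472369411 34952644161 [(1, 72), (1, 135), (1, 190)] [⟨[(135, 32), (72, 28), (190, 12)], []⟩, ⟨[(190, 31), (135, 13), (72, 53)], []⟩]

def l71 : Line := .forb 4 35473806096 35520980496 [(1, 89), (1, 96), (1, 111)] [⟨[(89, 12), (111, 6), (96, 4)], []⟩, ⟨[(96, 22), (89, 34), (111, 11)], []⟩]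

def l72 : Line := .forb 4 35267236866 35537449041 [(1, 45), (1, 82), (1, 261)] [⟨[(45, 1), (261, 24), (82, 19)], []⟩, ⟨[(82, 16), (45, 63), (261, 54)], []⟩]

def l73 : Line := .forb 4 34415735076 35237421351 [(1, 18), (1, 83), (1, 258)] [⟨[(83, 44), (18, 48), (258, 61)], []⟩, ⟨[(258, 37), (83, 8), (18, 24)], []⟩]

def l74 : Line := .forb 4 34399867191 34447037991 [(1, 97), (1, 143), (1, 240)] [⟨[(97, 12), (240, 51), (143, 53)], []⟩, ⟨[(240, 30), (143, 50), (97, 41)], []⟩]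

def l75 : Line := .forb 4 34379027271 34430068071 [(1, 93), (1, 260), (1, 306)] [⟨[(306, 40), (260, 1), (93, 36)], []⟩, ⟨[(93, 50), (306, 4), (260, 40)], []⟩]

def l76 : Line := .forb 4 35450615331 35203252581 [(1, 41), (1, 84), (1, 246)] [⟨[(246, 29), (84, 39), (41, 35)], []⟩, ⟨[(84, 63), (41, 16), (246, 10)], []⟩]

def l77 : Line := .forb 4 35170555506 34667262006 [(1, 11), (1, 48), (1, 138)] [⟨[(48, 11), (11, 13), (138, 1)], []⟩, ⟨[(11, 56), (138, 44), (48, 32)], []⟩]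

def l78 : Line := .forb 4 35759612436 35759612436 [(1, 229), (1, 269), (1, 290)] [⟨[(290, 26), (269, 12), (229, 22)], []⟩, ⟨[(269, 9), (229, 47), (290, 8)], []⟩]

def l79 : Line := .forb 4 36089046336 36089971536 [(1, 22), (1, 82), (1, 181)] [⟨[(82, 44), (22, 48), (181, 39)], []⟩, ⟨[(181, 52), (82, 41), (22, 40)], []⟩]

def l80 : Line := .forb 4 36025206546 35018596371 [(1, 32), (1, 117), (1, 136)] [⟨[(136, 11), (117, 1), (32, 13)], []⟩, ⟨[(32, 20), (136, 21), (117, 36)], []⟩]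

def l81 : Line := .forb 4 35977769541 35819434566 [(1, 26), (1, 39), (1, 255)] [⟨[(255, 40), (39, 61), (26, 36)], []⟩, ⟨[(39, 51), (26, 36), (255, 15)], []⟩]

def l82 : Line := .forb 4 36025356576 35554418976 [(1, 101), (1, 256), (1, 263)] [⟨[(263, 30), (256, 12), (101, 30)], []⟩, ⟨[(101, 8), (263, 57), (256, 17)], []⟩]

def l83 : Line := .forb 4 35490254961 34715689986 [(1, 159), (1, 188), (1, 312)] [⟨[(312, 0), (188, 12), (159, 0)], []⟩, ⟨[(188, 42), (159, 37), (312, 56)], []⟩]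

def l84 : Line := .forb 4 34695639846 35169640821 [(1, 78), (1, 131), (1, 301)] [⟨[(301, 16), (131, 39), (78, 16)], []⟩, ⟨[(78, 56), (301, 6), (131, 36)], []⟩]

def l85 : Line := .forb 4 35456692311 34445145186 [(1, 157), (1, 209), (1, 291)] [⟨[(157, 61), (291, 36), (209, 40)], []⟩, ⟨[(291, 14), (209, 48), (157, 44)], []⟩]

def l86 : Line := .forb 4 35287994886 35975885361 [(1, 151), (1, 230), (1, 306)] [⟨[(230, 40), (151, 36), (306, 39)], []⟩, ⟨[(151, 56), (306, 23), (230, 56)], []⟩]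

def l87 : Line := .forb 4 35539415331 35271409956 [(1, 43), (1, 67), (1, 80)] [⟨[(80, 50), (67, 61), (43, 41)], []⟩, ⟨[(67, 5), (43, 56), (80, 56)], []⟩]

def l88 : Line := .forb 4 36342923556 36343664931 [(1, 53), (1, 105), (1, 122)] [⟨[(122, 27), (105, 39), (53, 21)], []⟩, ⟨[(105, 34), (53, 5), (122, 34)], []⟩]

def l89 : Line := .forb 4 34463629911 34461667911 [(1, 208), (1, 225), (1, 294)] [⟨[(208, 39), (294, 28), (225, 32)], []⟩, ⟨[(225, 11), (208, 42), (294, 13)], []⟩]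

def l90 : Line := .forb 4 34987926576 35758675776 [(1, 88), (1, 95), (1, 289)] [⟨[(95, 53), (88, 51), (289, 1)], []⟩, ⟨[(88, 15), (289, 26), (95, 56)], []⟩]

def l91 : Line := .forb 4 35019702531 36042901281 [(1, 12), (1, 28), (1, 180)] [⟨[(180, 8), (28, 12), (12, 7)], []⟩, ⟨[(28, 25), (12, 58), (180, 56)], []⟩]

def l92 : Line := .forb 4 35735869251 34971125301 [(1, 71), (1, 194), (1, 297)] [⟨[(194, 30), (71, 30), (297, 61)], []⟩, ⟨[(297, 6), (194, 44), (71, 36)], []⟩]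

def l93 : Line := .forb 4 34698457686 35166507636 [(1, 12), (1, 50), (1, 120)] [⟨[(50, 44), (12, 48), (120, 39)], []⟩, ⟨[(120, 40), (50, 48), (12, 4)], []⟩]

def l94 : Line := .forb 4 35756508966 34904301891 [(1, 8), (1, 216), (1, 218)] [⟨[(8, 1), (218, 9), (216, 9)], []⟩, ⟨[(216, 31), (8, 49), (218, 15)], []⟩]

def l95 : Line := .forb 4 35251320321 35205182721 [(1, 42), (1, 85), (1, 118)] [⟨[(85, 35), (42, 29), (118, 61)], []⟩, ⟨[(118, 63), (85, 11), (42, 33)], []⟩]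

def l96 : Line := .forb 4 35002779411 35002779411 [(1, 16), (1, 65), (1, 281)] [⟨[(65, 36), (16, 40), (281, 39)], []⟩, ⟨[(16, 37), (281, 53), (65, 31)], []⟩]

def l97 : Line := .forb 4 34918642791 34381903716 [(1, 101), (1, 173), (1, 247)] [⟨[(247, 6), (173, 12), (101, 4)], []⟩, ⟨[(173, 29), (101, 44), (247, 34)], []⟩]

def l98 : Line := .forb 4 34983666036 34684819236 [(1, 87), (1, 104), (1, 243)] [⟨[(243, 52), (104, 61), (87, 49)], []⟩, ⟨[(87, 18), (243, 41), (104, 3)], []⟩]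

def l99 : Line := .forb 4 35525108016 35775779616 [(1, 2), (1, 179), (1, 200)] [⟨[(179, 28), (2, 32), (200, 1)], []⟩, ⟨[(200, 7), (179, 48), (2, 28)], []⟩]

def l100 : Line := .forb 4 36057530481 34752123906 [(1, 64), (1, 189), (1, 199)] [⟨[(189, 0), (64, 0), (199, 12)], []⟩, ⟨[(199, 61), (189, 41), (64, 21)], []⟩]

def l101 : Line := .forb 4 35251119111 34416522561 [(1, 33), (1, 69), (1, 98), (1, 132), (1, 144), (1, 299)] [⟨[(144, 38), (299, 40), (132, 29), (98, 35), (33, 31), (69, 36)], []⟩, ⟨[(299, 41), (69, 32), (144, 48), (132, 20), (98, 41), (33, 29)], []⟩]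

def l102 : Line := .forb 4 35719160676 35457606501 [(1, 126), (1, 132), (1, 149), (1, 183), (1, 187), (1, 222)] [⟨[(126, 46), (222, 50), (149, 12), (187, 53), (183, 51), (132, 41)], []⟩, ⟨[(132, 8), (149, 48), (187, 28), (222, 44), (126, 29), (183, 57)], []⟩]

def l103 : Line := .forb 4 35519886096 35238913296 [(1, 13), (1, 18), (1, 144), (1, 153), (1, 246), (1, 293)] [⟨[(13, 1), (18, 17), (293, 22), (246, 17), (153, 17), (144, 26)], []⟩, ⟨[(246, 14), (293, 20), (153, 45), (144, 60), (18, 48), (13, 32)], []⟩]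

def l104 : Line := .forb 4 36275770881 36275770881 [(1, 4), (1, 58), (1, 172), (1, 181), (1, 209), (1, 295)] [⟨[(295, 42), (172, 48), (58, 44), (181, 12), (209, 17), (4, 42)], []⟩, ⟨[(181, 32), (209, 22), (295, 33), (58, 35), (4, 23), (172, 18)], []⟩]

def l105 : Line := .forb 4 35989438551 34478441826 [(1, 141), (1, 152), (1, 154), (1, 212), (1, 236), (1, 308)] [⟨[(236, 51), (308, 16), (212, 49), (154, 52), (141, 53), (152, 16)], []⟩, ⟨[(141, 24), (152, 56), (308, 13), (236, 23), (212, 15), (154, 10)], []⟩]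

def l106 : Line := .forb 4 34901022486 34900100886 [(1, 7), (1, 64), (1, 72), (1, 142), (1, 151), (1, 167)] [⟨[(151, 3), (142, 25), (72, 46), (64, 25), (7, 3), (167, 1)], []⟩, ⟨[(64, 62), (7, 43), (142, 35), (167, 25), (72, 35), (151, 45)], []⟩]

def l107 : Line := .forb 4 35776562706 35743219731 [(1, 110), (1, 133), (1, 180), (1, 190), (1, 195), (1, 217)] [⟨[(217, 25), (190, 25), (180, 39), (133, 25), (195, 17), (110, 25)], []⟩, ⟨[(133, 62), (110, 1), (190, 30), (195, 8), (217, 48), (180, 3)], []⟩]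

def l108 : Line := .forb 4 34987926576 35758675776 [(1, 94), (1, 139), (1, 145), (1, 166), (1, 231), (1, 232)] [⟨[(231, 1), (166, 39), (232, 53), (139, 39), (94, 1), (145, 51)], []⟩, ⟨[(94, 37), (231, 60), (166, 11), (145, 42), (139, 14), (232, 26)], []⟩]

def l109 : Line := .forb 4 36025356576 35554418976 [(1, 11), (1, 14), (1, 244), (1, 281), (1, 285), (1, 302)] [⟨[(244, 58), (302, 54), (11, 58), (281, 17), (285, 61), (14, 56)], []⟩, ⟨[(14, 3), (11, 0), (281, 22), (302, 22), (244, 60), (285, 3)], []⟩]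

def l110 : Line := .forb 4 34381124151 34430325351 [(1, 125), (1, 148), (1, 182), (1, 221), (1, 256), (1, 281)] [⟨[(125, 12), (148, 17), (256, 34), (281, 38), (182, 37), (221, 31)], []⟩, ⟨[(281, 42), (256, 35), (221, 13), (182, 51), (125, 12), (148, 17)], []⟩]

def l111 : Line := .forb 4 35255304816 34718577216 [(1, 70), (1, 125), (1, 133), (1, 165), (1, 193), (1, 300)] [⟨[(300, 0), (165, 0), (193, 12), (125, 0), (133, 12), (70, 0)], []⟩, ⟨[(165, 18), (193, 2), (133, 19), (70, 18), (125, 45), (300, 13)], []⟩]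

def l112 : Line := .forb 4 34918642791 34381903716 [(1, 11), (1, 14), (1, 199), (1, 240), (1, 266), (1, 294)] [⟨[(240, 49), (266, 34), (199, 17), (11, 52), (14, 37), (294, 1)], []⟩, ⟨[(199, 11), (294, 7), (14, 48), (266, 28), (240, 38), (11, 56)], []⟩]

def l113 : Line := .forb 4 34379027271 34430068071 [(1, 151), (1, 169), (1, 230), (1, 276), (1, 288), (1, 293)] [⟨[(276, 27), (288, 33), (293, 39), (151, 21), (169, 33), (230, 39)], []⟩, ⟨[(288, 26), (230, 44), (169, 14), (276, 48), (151, 19), (293, 29)], []⟩]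

def l114 : Line := .forb 4 35989438551 34478441826 [(1, 65), (1, 79), (1, 178), (1, 245), (1, 264), (1, 280)] [⟨[(65, 46), (79, 12), (264, 41), (280, 42), (178, 50), (245, 42)], []⟩, ⟨[(280, 47), (178, 49), (65, 10), (264, 46), (245, 22), (79, 28)], []⟩]

def l115 : Line := .forb 4 34903376721 35518621446 [(1, 27), (1, 65), (1, 163), (1, 177), (1, 272), (1, 273)] [⟨[(177, 12), (65, 46), (273, 13), (27, 12), (272, 61), (163, 11)], []⟩, ⟨[(272, 30), (27, 47), (65, 38), (273, 21), (163, 42), (177, 18)], []⟩]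

def l116 : Line := .forb 4 36275770881 36275770881 [(1, 114), (1, 191), (1, 223), (1, 259), (1, 304), (1, 314)] [⟨[(223, 26), (259, 50), (114, 22), (191, 41), (314, 59), (304, 59)], []⟩, ⟨[(114, 29), (223, 45), (191, 55), (314, 60), (304, 50), (259, 29)], []⟩]

def l117 : Line := .forb 4 35450615331 35203252581 [(1, 52), (1, 70), (1, 104), (1, 265), (1, 289), (1, 293)] [⟨[(265, 40), (70, 17), (293, 35), (52, 36), (289, 39), (104, 29)], []⟩, ⟨[(70, 60), (104, 49), (289, 5), (293, 27), (52, 2), (265, 7)], []⟩]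

def l118 : Line := .forb 4 36025206546 35018596371 [(1, 1), (1, 35), (1, 113), (1, 140), (1, 227), (1, 236)] [⟨[(236, 30), (113, 59), (35, 59), (140, 61), (227, 17), (1, 30)], []⟩, ⟨[(35, 56), (1, 4), (140, 47), (236, 0), (113, 36), (227, 61)], []⟩]

def l119 : Line := .forb 4 35754766656 35239585056 [(1, 46), (1, 57), (1, 138), (1, 173), (1, 238), (1, 294)] [⟨[(238, 14), (138, 54), (57, 56), (173, 1), (46, 14), (294, 46)], []⟩, ⟨[(57, 46), (46, 22), (294, 52), (138, 45), (173, 37), (238, 35)], []⟩]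

def l120 : Line := .forb 4 35756508966 34904301891 [(1, 21), (1, 44), (1, 79), (1, 81), (1, 201), (1, 203)] [⟨[(44, 1), (21, 1), (81, 9), (79, 9), (203, 9), (201, 9)], []⟩, ⟨[(203, 25), (44, 24), (79, 34), (201, 41), (81, 41), (21, 58)], []⟩]

def l121 : Line := .forb 4 35452379991 34411586916 [(1, 24), (1, 33), (1, 128), (1, 213), (1, 224), (1, 304)] [⟨[(224, 62), (213, 20), (128, 17), (33, 18), (24, 62), (304, 39)], []⟩, ⟨[(33, 4), (24, 41), (213, 62), (304, 56), (128, 32), (224, 48)], []⟩]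

def l122 : Line := .forb 4 35553038691 35990734116 [(1, 23), (1, 29), (1, 148), (1, 158), (1, 244), (1, 263)] [⟨[(23, 39), (29, 46), (244, 13), (263, 49), (148, 11), (158, 52)], []⟩, ⟨[(263, 24), (244, 19), (158, 26), (148, 40), (23, 1), (29, 61)], []⟩]

def l123 : Line := .forb 4 35536334931 35267216706 [(1, 209), (1, 226), (1, 229), (1, 279), (1, 290), (1, 291)] [⟨[(279, 1), (291, 1), (290, 15), (209, 1), (229, 10), (226, 1)], []⟩, ⟨[(229, 4), (226, 22), (209, 27), (279, 10), (291, 56), (290, 19)], []⟩]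

def l124 : Line := .forb 4 36009228036 35019306561 [(1, 107), (1, 130), (1, 252), (1, 253), (1, 274), (1, 275)] [⟨[(107, 12), (130, 17), (275, 31), (274, 31), (253, 38), (252, 38)], []⟩, ⟨[(274, 36), (252, 43), (107, 39), (275, 12), (130, 46), (253, 28)], []⟩]

def l125 : Line := .forb 4 35534483751 34465067301 [(1, 20), (1, 31), (1, 43), (1, 67), (1, 80), (1, 202)] [⟨[(43, 6), (80, 41), (20, 4), (202, 14), (31, 50), (67, 14)], []⟩, ⟨[(202, 58), (31, 11), (43, 19), (80, 58), (67, 2), (20, 25)], []⟩]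

def l126 : Line := .forb 4 35485274151 34430476626 [(1, 112), (1, 114), (1, 135), (1, 137), (1, 179), (1, 206)] [⟨[(112, 12), (206, 39), (135, 17), (179, 44), (137, 48), (114, 39)], []⟩, ⟨[(114, 40), (135, 26), (137, 35), (112, 46), (206, 21), (179, 56)], []⟩]

def l127 : Line := .forb 4 35435779701 34662204726 [(1, 16), (1, 18), (1, 21), (1, 163), (1, 204), (1, 280)] [⟨[(16, 61), (18, 17), (280, 28), (204, 15), (163, 10), (21, 32)], []⟩, ⟨[(204, 30), (280, 30), (163, 50), (21, 6), (18, 42), (16, 42)], []⟩]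

def l128 : Line := .forb 4 35490254961 34715689986 [(1, 126), (1, 149), (1, 215), (1, 228), (1, 300), (1, 310)] [⟨[(300, 0), (310, 0), (215, 17), (228, 61), (126, 0), (149, 0)], []⟩, ⟨[(215, 41), (228, 27), (149, 11), (126, 59), (310, 17), (300, 26)], []⟩]

def l129 : Line := .forb 4 35251314711 34416653586 [(1, 17), (1, 26), (1, 42), (1, 85), (1, 253), (1, 255)] [⟨[(26, 22), (17, 26), (85, 50), (42, 41), (255, 21), (253, 27)], []⟩, ⟨[(85, 43), (26, 48), (253, 40), (17, 63), (42, 4), (255, 35)], []⟩]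

def l130 : Line := .forb 4 35251314711 34416653586 [(1, 50), (1, 77), (1, 97), (1, 99), (1, 106), (1, 141)] [⟨[(97, 54), (99, 12), (50, 56), (77, 12), (106, 1), (141, 46)], []⟩, ⟨[(99, 32), (106, 5), (141, 44), (50, 47), (97, 18), (77, 23)], []⟩]

def l131 : Line := .forb 4 35804103456 35541688656 [(1, 32), (1, 35), (1, 72), (1, 167), (1, 204), (1, 280)] [⟨[(204, 26), (280, 40), (72, 46), (167, 1), (32, 22), (35, 36)], []⟩, ⟨[(167, 14), (72, 32), (32, 62), (35, 23), (280, 45), (204, 60)], []⟩]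

def l132 : Line := .forb 4 34481709846 35974882071 [(1, 106), (1, 111), (1, 118), (1, 122), (1, 134), (1, 145)] [⟨[(134, 46), (118, 20), (111, 18), (122, 17), (106, 46), (145, 39)], []⟩, ⟨[(145, 47), (134, 46), (122, 55), (106, 22), (111, 22), (118, 34)], []⟩]

def l133 : Line := .forb 4 35539415331 35271409956 [(1, 54), (1, 59), (1, 66), (1, 81), (1, 270), (1, 271)] [⟨[(270, 31), (66, 12), (59, 12), (81, 1), (54, 38), (271, 17)], []⟩, ⟨[(81, 62), (271, 44), (270, 30), (59, 47), (66, 12), (54, 4)], []⟩]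

def l134 : Line := .forb 4 36089046336 36089971536 [(1, 28), (1, 68), (1, 161), (1, 164), (1, 209), (1, 220)] [⟨[(161, 34), (164, 63), (28, 37), (68, 63), (209, 46), (220, 1)], []⟩, ⟨[(220, 19), (161, 7), (68, 57), (209, 35), (28, 35), (164, 19)], []⟩]

def l135 : Line := .forb 4 35170555506 34667262006 [(1, 3), (1, 24), (1, 49), (1, 137), (1, 148), (1, 149)] [⟨[(137, 11), (148, 34), (149, 39), (3, 13), (24, 37), (49, 39)], []⟩, ⟨[(149, 17), (137, 61), (49, 26), (24, 31), (148, 13), (3, 33)], []⟩]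

def l136 : Line := .forb 4 34698457686 35166507636 [(1, 15), (1, 39), (1, 99), (1, 102), (1, 143), (1, 152)] [⟨[(99, 34), (102, 63), (15, 37), (39, 63), (143, 46), (152, 1)], []⟩, ⟨[(143, 35), (99, 56), (39, 51), (152, 19), (102, 61), (15, 17)], []⟩]

def l137 : Line := .forb 4 34662004071 34378888821 [(1, 24), (1, 33), (1, 129), (1, 211), (1, 222), (1, 296)] [⟨[(129, 47), (296, 34), (24, 47), (211, 1), (222, 46), (33, 37)], []⟩, ⟨[(222, 63), (211, 44), (296, 26), (24, 23), (33, 49), (129, 40)], []⟩]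

def l138 : Line := .forb 4 34682852976 34665227376 [(1, 10), (1, 46), (1, 52), (1, 56), (1, 74), (1, 186)] [⟨[(56, 60), (52, 32), (46, 28), (10, 60), (186, 39), (74, 39)], []⟩, ⟨[(52, 21), (46, 48), (10, 51), (74, 50), (56, 3), (186, 32)], []⟩]

def l139 : Line := .forb 4 34983666036 34684819236 [(1, 41), (1, 52), (1, 73), (1, 156), (1, 262), (1, 278)] [⟨[(41, 17), (52, 39), (278, 38), (262, 6), (156, 4), (73, 31)], []⟩, ⟨[(262, 34), (278, 33), (156, 2), (73, 48), (52, 21), (41, 18)], []⟩]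

def l140 : Line := .forb 4 35019702531 36042901281 [(1, 4), (1, 25), (1, 50), (1, 120), (1, 150), (1, 249)] [⟨[(249, 28), (120, 8), (150, 61), (25, 7), (50, 61), (4, 32)], []⟩, ⟨[(120, 55), (25, 24), (249, 15), (4, 45), (150, 15), (50, 54)], []⟩]

def l141 : Line := .forb 4 34904282691 35739731766 [(1, 119), (1, 121), (1, 144), (1, 151), (1, 258), (1, 282)] [⟨[(121, 44), (119, 48), (151, 60), (144, 60), (258, 17), (282, 39)], []⟩, ⟨[(258, 15), (144, 3), (121, 0), (282, 31), (151, 63), (119, 48)], []⟩]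

def l142 : Line := .forb 4 35534483751 34465067301 [(1, 5), (1, 64), (1, 146), (1, 155), (1, 190), (1, 230)] [⟨[(5, 46), (64, 12), (190, 14), (230, 16), (146, 14), (155, 16)], []⟩, ⟨[(155, 61), (146, 50), (5, 24), (64, 55), (230, 51), (190, 20)], []⟩]

def l143 : Line := .forb 4 36340761906 36341813331 [(1, 54), (1, 60), (1, 87), (1, 160), (1, 184), (1, 243)] [⟨[(87, 21), (184, 38), (54, 27), (243, 39), (60, 31), (160, 39)], []⟩, ⟨[(54, 10), (243, 22), (184, 42), (160, 22), (87, 22), (60, 13)], []⟩]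

def l144 : Line := .forb 4 34987926576 35758675776 [(1, 70), (1, 74), (1, 76), (1, 84), (1, 90), (1, 93)] [⟨[(70, 39), (90, 55), (93, 36), (84, 46), (74, 55), (76, 40)], []⟩, ⟨[(90, 17), (93, 18), (70, 29), (76, 26), (84, 40), (74, 53)], []⟩]

def l145 : Line := .forb 4 35167617366 35434755366 [(1, 37), (1, 57), (1, 75), (1, 129), (1, 187), (1, 239)] [⟨[(239, 3), (187, 4), (129, 35), (75, 29), (57, 6), (37, 3)], []⟩, ⟨[(37, 28), (57, 50), (239, 51), (187, 31), (129, 39), (75, 1)], []⟩]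

def l146 : Line := .forb 4 34719809571 35775512946 [(1, 16), (1, 18), (1, 78), (1, 98), (1, 142), (1, 151)] [⟨[(16, 61), (18, 17), (142, 28), (151, 15), (78, 32), (98, 10)], []⟩, ⟨[(98, 51), (78, 43), (16, 32), (18, 34), (151, 40), (142, 26)], []⟩]

def l147 : Line := .forb 4 35205353556 35518445106 [(1, 0), (1, 17), (1, 70), (1, 289), (1, 292), (1, 297)] [⟨[(297, 39), (292, 58), (70, 46), (289, 12), (17, 58), (0, 39)], []⟩, ⟨[(289, 35), (70, 13), (0, 50), (17, 22), (297, 21), (292, 56)], []⟩]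

def l148 : Line := .forb 4 35753443446 34635736146 [(1, 24), (1, 30), (1, 121), (1, 153), (1, 198), (1, 295)] [⟨[(121, 6), (153, 17), (24, 4), (30, 17), (198, 61), (295, 46)], []⟩, ⟨[(198, 20), (295, 50), (153, 10), (121, 9), (30, 20), (24, 50)], []⟩]

def l149 : Line := .forb 4 35271098481 34734306306 [(1, 64), (1, 112), (1, 115), (1, 174), (1, 189), (1, 199)] [⟨[(112, 9), (64, 9), (189, 17), (199, 33), (115, 17), (174, 33)], []⟩, ⟨[(189, 42), (174, 61), (115, 41), (112, 21), (64, 62), (199, 28)], []⟩]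

def l150 : Line := .forb 4 34700931111 34432495986 [(1, 12), (1, 102), (1, 109), (1, 132), (1, 251), (1, 260)] [⟨[(251, 49), (260, 52), (109, 39), (132, 46), (12, 52), (102, 49)], []⟩, ⟨[(109, 9), (132, 39), (102, 23), (12, 18), (260, 6), (251, 50)], []⟩]

def l151 : Line := .forb 4 34695639846 35169640821 [(1, 92), (1, 98), (1, 108), (1, 234), (1, 292), (1, 297)] [⟨[(297, 52), (292, 25), (108, 17), (234, 39), (98, 25), (92, 49)], []⟩, ⟨[(98, 47), (92, 5), (297, 53), (292, 55), (108, 35), (234, 19)], []⟩]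

def l152 : Line := .forb 4 35251111431 34399810881 [(1, 78), (1, 92), (1, 147), (1, 157), (1, 307), (1, 309)] [⟨[(78, 12), (92, 17), (309, 30), (307, 35), (157, 29), (147, 30)], []⟩, ⟨[(157, 9), (147, 56), (78, 59), (92, 11), (309, 40), (307, 60)], []⟩]

def l153 : Line := .forb 4 36342923556 36343664931 [(1, 42), (1, 96), (1, 129), (1, 145), (1, 154), (1, 296)] [⟨[(154, 43), (145, 59), (129, 46), (96, 59), (42, 43), (296, 61)], []⟩, ⟨[(296, 35), (129, 18), (42, 61), (154, 28), (145, 38), (96, 21)], []⟩]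

def l154 : Line := .forb 4 34954547286 35703252786 [(1, 174), (1, 181), (1, 200), (1, 209), (1, 218), (1, 231)] [⟨[(181, 39), (174, 39), (209, 46), (200, 46), (218, 1), (231, 46)], []⟩, ⟨[(231, 58), (209, 28), (218, 57), (181, 39), (174, 8), (200, 7)], []⟩]

def l155 : Line := .forb 4 35756508966 34904301891 [(1, 6), (1, 9), (1, 189), (1, 191), (1, 229), (1, 231)] [⟨[(6, 61), (9, 46), (231, 49), (229, 49), (191, 52), (189, 52)], []⟩, ⟨[(189, 24), (229, 32), (9, 20), (231, 18), (6, 13), (191, 53)], []⟩]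

def l156 : Line := .forb 4 35167617366 35434755366 [(1, 12), (1, 102), (1, 118), (1, 141), (1, 240), (1, 247)] [⟨[(247, 45), (240, 39), (118, 17), (141, 39), (102, 39), (12, 45)], []⟩, ⟨[(141, 55), (118, 40), (12, 53), (102, 46), (247, 55), (240, 41)], []⟩]

def l157 : Line := .forb 4 35251320321 35205182721 [(1, 53), (1, 71), (1, 96), (1, 106), (1, 141), (1, 166)] [⟨[(71, 23), (53, 23), (166, 36), (106, 17), (141, 1), (96, 40)], []⟩, ⟨[(141, 63), (166, 30), (106, 3), (53, 43), (96, 35), (71, 12)], []⟩]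

def l158 : Line := .forb 4 34918921776 35204110176 [(1, 72), (1, 113), (1, 127), (1, 135), (1, 190), (1, 197)] [⟨[(113, 15), (72, 10), (135, 20), (127, 18), (197, 20), (190, 18)], []⟩, ⟨[(135, 43), (197, 57), (127, 15), (72, 17), (190, 26), (113, 0)], []⟩]

def l159 : Line := .forb 4 35977769541 35819434566 [(1, 20), (1, 50), (1, 99), (1, 162), (1, 248), (1, 279)] [⟨[(279, 43), (50, 1), (99, 46), (248, 10), (162, 15), (20, 43)], []⟩, ⟨[(99, 3), (20, 43), (162, 57), (50, 41), (279, 23), (248, 63)], []⟩]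

def l160 : Line := .forb 4 35456692311 34445145186 [(1, 124), (1, 147), (1, 181), (1, 220), (1, 249), (1, 267)] [⟨[(124, 12), (147, 17), (267, 59), (249, 22), (220, 26), (181, 59)], []⟩, ⟨[(267, 14), (249, 14), (220, 44), (181, 57), (124, 60), (147, 60)], []⟩]

def l161 : Line := .forb 4 35525108016 35775779616 [(1, 0), (1, 6), (1, 107), (1, 116), (1, 168), (1, 215)] [⟨[(215, 39), (116, 28), (168, 1), (6, 32), (107, 1), (0, 39)], []⟩, ⟨[(0, 28), (215, 7), (107, 8), (168, 15), (116, 34), (6, 60)], []⟩]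

def l162 : Line := .forb 4 35284926561 35991549186 [(1, 177), (1, 188), (1, 203), (1, 215), (1, 261), (1, 303)] [⟨[(261, 7), (188, 17), (303, 42), (215, 39), (177, 8), (203, 42)], []⟩, ⟨[(203, 3), (303, 38), (177, 0), (261, 13), (188, 37), (215, 61)], []⟩]

def l163 : Line := .forb 4 34683773556 34683773556 [(1, 61), (1, 89), (1, 96), (1, 146), (1, 170), (1, 254)] [⟨[(96, 1), (254, 4), (61, 1), (170, 61), (146, 61), (89, 6)], []⟩, ⟨[(61, 28), (170, 50), (146, 32), (96, 50), (89, 44), (254, 8)], []⟩]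

def l164 : Line := .forb 4 35472369411 34952644161 [(1, 86), (1, 112), (1, 167), (1, 217), (1, 230), (1, 313)] [⟨[(112, 12), (86, 12), (313, 30), (217, 17), (230, 61), (167, 30)], []⟩, ⟨[(217, 24), (313, 59), (230, 15), (167, 4), (86, 1), (112, 34)], []⟩]

def l165 : Line := .forb 4 35483903826 34948472901 [(1, 31), (1, 34), (1, 39), (1, 99), (1, 267), (1, 291)] [⟨[(31, 46), (34, 1), (267, 28), (291, 46), (39, 32), (99, 46)], []⟩, ⟨[(99, 56), (39, 60), (31, 3), (34, 11), (291, 20), (267, 27)], []⟩]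

def l166 : Line := .forb 4 34747928646 35973580146 [(1, 25), (1, 34), (1, 54), (1, 59), (1, 190), (1, 230)] [⟨[(54, 38), (59, 59), (25, 31), (34, 59), (190, 17), (230, 39)], []⟩, ⟨[(34, 6), (25, 54), (190, 38), (230, 9), (59, 47), (54, 6)], []⟩]

def l167 : Line := .forb 4 35735869251 34971125301 [(1, 85), (1, 166), (1, 168), (1, 193), (1, 292), (1, 301)] [⟨[(168, 48), (193, 5), (85, 44), (166, 5), (292, 39), (301, 46)], []⟩, ⟨[(301, 53), (292, 25), (193, 60), (168, 63), (85, 7), (166, 62)], []⟩]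

def l168 : Line := .forb 4 35756843271 34434540321 [(1, 4), (1, 63), (1, 82), (1, 124), (1, 157), (1, 161)] [⟨[(124, 31), (157, 29), (82, 17), (4, 38), (63, 35), (161, 61)], []⟩, ⟨[(63, 2), (4, 8), (124, 3), (161, 62), (82, 48), (157, 10)], []⟩]

def l169 : Line := .forb 4 36089046336 36089971536 [(1, 9), (1, 45), (1, 51), (1, 219), (1, 251), (1, 261)] [⟨[(219, 44), (51, 60), (45, 60), (9, 48), (261, 37), (251, 34)], []⟩, ⟨[(51, 40), (45, 29), (9, 52), (251, 28), (219, 14), (261, 48)], []⟩]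

def l170 : Line := .forb 4 35450615331 35203252581 [(1, 19), (1, 78), (1, 131), (1, 252), (1, 282), (1, 301)] [⟨[(301, 55), (252, 60), (282, 27), (78, 60), (131, 21), (19, 55)], []⟩, ⟨[(252, 57), (78, 56), (301, 6), (19, 16), (282, 22), (131, 36)], []⟩]

def l171 : Line := .forb 4 34462962741 35534279991 [(1, 6), (1, 9), (1, 175), (1, 177), (1, 242), (1, 273)] [⟨[(6, 46), (9, 12), (177, 23), (175, 23), (273, 54), (242, 56)], []⟩, ⟨[(273, 51), (177, 33), (242, 35), (6, 29), (175, 17), (9, 23)], []⟩]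

def l172 : Line := .forb 4 34947298326 35169396501 [(1, 73), (1, 127), (1, 150), (1, 156), (1, 212), (1, 223)] [⟨[(73, 17), (212, 33), (223, 6), (156, 39), (127, 33), (150, 4)], []⟩, ⟨[(223, 1), (150, 46), (127, 22), (212, 13), (73, 61), (156, 54)], []⟩]

def l173 : Line := .forb 4 35287994886 35975885361 [(1, 119), (1, 142), (1, 170), (1, 190), (1, 196), (1, 217)] [⟨[(190, 28), (217, 26), (170, 17), (119, 32), (196, 39), (142, 22)], []⟩, ⟨[(142, 17), (119, 26), (217, 0), (170, 45), (190, 3), (196, 30)], []⟩]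

def l174 : Line := .forb 4 35759612436 35759612436 [(1, 176), (1, 189), (1, 202), (1, 216), (1, 250), (1, 268)] [⟨[(216, 61), (202, 5), (189, 5), (176, 61), (250, 46), (268, 12)], []⟩, ⟨[(202, 61), (268, 32), (176, 5), (250, 12), (189, 42), (216, 47)], []⟩]

def l175 : Line := .forb 4 36025206546 35018596371 [(1, 47), (1, 58), (1, 68), (1, 73), (1, 108), (1, 147)] [⟨[(68, 13), (108, 1), (47, 11), (147, 48), (58, 1), (73, 44)], []⟩, ⟨[(73, 51), (68, 20), (58, 35), (47, 21), (108, 35), (147, 44)], []⟩]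

def l176 : Line := .forb 4 34444879686 34902983511 [(1, 42), (1, 53), (1, 123), (1, 155), (1, 277), (1, 284)] [⟨[(42, 12), (53, 17), (284, 43), (277, 53), (155, 51), (123, 43)], []⟩, ⟨[(123, 18), (155, 40), (53, 4), (42, 28), (284, 3), (277, 25)], []⟩]

def l177 : Line := .forb 4 35473806096 35520980496 [(1, 42), (1, 53), (1, 75), (1, 94), (1, 134), (1, 308)] [⟨[(308, 37), (134, 54), (75, 46), (94, 12), (53, 56), (42, 34)], []⟩, ⟨[(94, 5), (75, 51), (42, 34), (53, 38), (308, 5), (134, 47)], []⟩]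

def l178 : Line := .forb 4 34415735076 35237421351 [(1, 40), (1, 77), (1, 102), (1, 130), (1, 177), (1, 264)] [⟨[(264, 22), (130, 50), (177, 51), (77, 41), (102, 53), (40, 26)], []⟩, ⟨[(40, 44), (264, 59), (102, 29), (177, 33), (130, 25), (77, 58)], []⟩]

def l179 : Line := .forb 4 34967322966 35434944291 [(1, 103), (1, 128), (1, 184), (1, 212), (1, 218), (1, 231)] [⟨[(218, 50), (231, 34), (184, 17), (212, 39), (103, 41), (128, 37)], []⟩, ⟨[(212, 14), (184, 14), (103, 60), (128, 60), (231, 3), (218, 25)], []⟩]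

def l180 : Line := .forb 4 34920157956 35520522081 [(1, 30), (1, 33), (1, 37), (1, 126), (1, 159), (1, 208)] [⟨[(37, 61), (208, 25), (30, 61), (126, 46), (159, 12), (33, 25)], []⟩, ⟨[(126, 38), (159, 9), (208, 1), (33, 47), (30, 6), (37, 24)], []⟩]

def l181 : Line := .forb 4 35233605456 34965189456 [(1, 114), (1, 121), (1, 137), (1, 144), (1, 185), (1, 224)] [⟨[(224, 30), (121, 12), (185, 44), (144, 17), (137, 48), (114, 30)], []⟩, ⟨[(121, 47), (137, 39), (144, 23), (114, 32), (224, 59), (185, 34)], []⟩]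

def l182 : Line := .forb 4 34379027271 34430068071 [(1, 74), (1, 88), (1, 170), (1, 196), (1, 239), (1, 251)] [⟨[(170, 60), (196, 60), (74, 60), (88, 60), (239, 61), (251, 17)], []⟩, ⟨[(88, 61), (74, 5), (239, 8), (251, 2), (196, 58), (170, 48)], []⟩]

def l183 : Line := .forb 4 35017262436 35989247811 [(1, 26), (1, 66), (1, 146), (1, 155), (1, 162), (1, 270)] [⟨[(26, 61), (155, 14), (270, 32), (66, 14), (162, 17), (146, 28)], []⟩, ⟨[(146, 3), (270, 29), (162, 36), (26, 22), (155, 25), (66, 46)], []⟩]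

def l184 : Line := .forb 4 35457008466 35518881891 [(1, 43), (1, 59), (1, 127), (1, 133), (1, 150), (1, 276)] [⟨[(43, 46), (59, 12), (276, 56), (150, 37), (133, 34), (127, 54)], []⟩, ⟨[(150, 53), (127, 5), (43, 37), (276, 36), (59, 31), (133, 26)], []⟩]

def l185 : Line := .forb 4 34749097476 36008121201 [(1, 115), (1, 138), (1, 179), (1, 197), (1, 205), (1, 314)] [⟨[(314, 4), (197, 2), (179, 17), (138, 2), (205, 39), (115, 6)], []⟩, ⟨[(179, 5), (205, 62), (138, 25), (314, 12), (115, 25), (197, 23)], []⟩]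

def l186 : Line := .forb 4 35720819556 35189171556 [(1, 39), (1, 50), (1, 240), (1, 264), (1, 266), (1, 286)] [⟨[(39, 39), (50, 46), (286, 24), (266, 0), (264, 0), (240, 19)], []⟩, ⟨[(266, 48), (240, 10), (39, 57), (286, 47), (50, 27), (264, 32)], []⟩]

def l187 : Line := .forb 4 34919112756 35489060706 [(1, 74), (1, 75), (1, 89), (1, 93), (1, 192), (1, 219)] [⟨[(75, 53), (74, 51), (93, 1), (89, 1), (192, 46), (219, 12)], []⟩, ⟨[(192, 16), (89, 60), (75, 63), (219, 14), (93, 62), (74, 4)], []⟩]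

def l188 : Line := .forb 4 35825656596 36061586196 [(1, 45), (1, 47), (1, 61), (1, 100), (1, 210), (1, 221)] [⟨[(210, 43), (47, 1), (221, 53), (100, 46), (45, 43), (61, 51)], []⟩, ⟨[(61, 9), (221, 38), (45, 15), (210, 23), (47, 28), (100, 63)], []⟩]

def l189 : Line := .forb 4 35484225906 34698911781 [(1, 76), (1, 90), (1, 122), (1, 154), (1, 191), (1, 218)] [⟨[(218, 24), (191, 19), (122, 1), (154, 17), (90, 24), (76, 19)], []⟩, ⟨[(90, 60), (76, 63), (191, 33), (218, 23), (154, 28), (122, 53)], []⟩]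

def l190 : Line := .forb 4 34415735076 35237421351 [(1, 13), (1, 16), (1, 69), (1, 282), (1, 287), (1, 288)] [⟨[(288, 63), (69, 48), (16, 44), (282, 1), (287, 46), (13, 63)], []⟩, ⟨[(287, 34), (282, 55), (288, 7), (13, 10), (16, 33), (69, 2)], []⟩]

def l191 : Line := .forb 4 35771528961 34971464961 [(1, 23), (1, 90), (1, 95), (1, 165), (1, 246), (1, 293)] [⟨[(246, 31), (90, 17), (95, 61), (293, 44), (23, 38), (165, 48)], []⟩, ⟨[(165, 18), (293, 30), (246, 62), (23, 53), (90, 28), (95, 42)], []⟩]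

def l192 : Line := .forb 4 35490254961 34715689986 [(1, 59), (1, 109), (1, 195), (1, 211), (1, 235), (1, 242)] [⟨[(109, 6), (59, 4), (211, 7), (195, 8), (242, 9), (235, 9)], []⟩, ⟨[(59, 56), (235, 60), (195, 26), (242, 42), (109, 14), (211, 11)], []⟩]

def l193 : Line := .forb 4 36241228641 36259964166 [(1, 123), (1, 146), (1, 185), (1, 224), (1, 253), (1, 257)] [⟨[(123, 39), (146, 46), (253, 38), (257, 45), (185, 31), (224, 45)], []⟩, ⟨[(253, 11), (257, 39), (224, 7), (185, 2), (146, 15), (123, 36)], []⟩]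

def l194 : Line := .forb 4 35267236866 35537449041 [(1, 56), (1, 61), (1, 68), (1, 161), (1, 241), (1, 303)] [⟨[(56, 61), (61, 17), (241, 31), (303, 20), (68, 38), (161, 18)], []⟩, ⟨[(161, 6), (68, 25), (56, 60), (61, 54), (303, 28), (241, 38)], []⟩]

def l195 : Line := .forb 4 34918921776 35204110176 [(1, 2), (1, 3), (1, 300), (1, 305), (1, 311), (1, 312)] [⟨[(312, 60), (300, 57), (3, 57), (305, 17), (311, 61), (2, 60)], []⟩, ⟨[(305, 16), (311, 2), (312, 37), (3, 56), (2, 15), (300, 59)], []⟩]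

def l196 : Line := .forb 4 35483903826 34948472901 [(1, 43), (1, 91), (1, 118), (1, 133), (1, 157), (1, 161), (1, 209), (1, 217), (1, 245), (1, 247), (1, 295), (1, 300)] [⟨[(43, 16), (295, 13), (161, 54), (300, 10), (247, 27), (118, 56), (245, 55), (217, 2), (209, 55), (157, 21), (91, 11), (133, 15)], []⟩, ⟨[(247, 7), (43, 33), (217, 62), (91, 54), (161, 41), (157, 51), (295, 14), (245, 9), (300, 8), (133, 51), (209, 38), (118, 40)], []⟩]

def l197 : Line := .forb 4 35450615331 35203252581 [(1, 10), (1, 16), (1, 87), (1, 121), (1, 139), (1, 151), (1, 166), (1, 186), (1, 193), (1, 243), (1, 248), (1, 288)] [⟨[(121, 55), (186, 19), (151, 41), (10, 55), (166, 27), (87, 50), (139, 21), (16, 24), (193, 16), (288, 26), (248, 9), (243, 22)], []⟩, ⟨[(193, 50), (288, 28), (166, 54), (151, 19), (10, 13), (121, 25), (186, 17), (248, 19), (243, 60), (139, 19), (87, 57), (16, 12)], []⟩]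

def l198 : Line := .forb 4 35771528961 34971464961 [(1, 14), (1, 60), (1, 78), (1, 125), (1, 145), (1, 151), (1, 182), (1, 184), (1, 231), (1, 282), (1, 288), (1, 302)] [⟨[(282, 29), (60, 2), (182, 49), (288, 41), (231, 33), (302, 52), (78, 52), (184, 9), (145, 33), (14, 35), (125, 50), (151, 49)], []⟩, ⟨[(125, 45), (288, 56), (60, 40), (14, 22), (78, 59), (231, 20), (302, 14), (151, 35), (282, 20), (184, 32), (145, 35), (182, 31)], []⟩]

def l199 : Line := .forb 4 35255304816 34718577216 [(1, 17), (1, 43), (1, 85), (1, 101), (1, 150), (1, 180), (1, 207), (1, 217), (1, 221), (1, 226), (1, 256), (1, 292)] [⟨[(150, 8), (226, 36), (180, 55), (101, 33), (17, 7), (85, 55), (221, 46), (292, 46), (207, 46), (43, 40), (256, 33), (217, 46)], []⟩, ⟨[(207, 40), (150, 33), (221, 50), (85, 46), (43, 56), (217, 63), (292, 21), (180, 62), (226, 44), (101, 45), (17, 15), (256, 5)], []⟩]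

def l200 : Line := .forb 4 35553038691 35990734116 [(1, 3), (1, 52), (1, 74), (1, 76), (1, 99), (1, 149), (1, 162), (1, 176), (1, 228), (1, 265), (1, 267), (1, 305)] [⟨[(162, 47), (74, 4), (52, 6), (76, 33), (305, 31), (267, 1), (3, 47), (228, 34), (176, 37), (265, 2), (149, 1), (99, 38)], []⟩, ⟨[(228, 55), (99, 29), (176, 37), (267, 63), (265, 61), (305, 16), (52, 15), (76, 14), (3, 50), (162, 59), (74, 27), (149, 44)], []⟩]

def l201 : Line := .forb 4 34434393621 35735880471 [(1, 19), (1, 54), (1, 56), (1, 60), (1, 68), (1, 97), (1, 117), (1, 182), (1, 206), (1, 222), (1, 271), (1, 282)] [⟨[(222, 43), (97, 39), (182, 27), (206, 4), (68, 2), (54, 39), (117, 2), (56, 21), (60, 6), (19, 43), (282, 7), (271, 8)], []⟩, ⟨[(117, 55), (271, 16), (19, 31), (222, 49), (206, 29), (56, 35), (97, 34), (282, 29), (182, 29), (60, 11), (54, 44), (68, 29)], []⟩]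

def l202 : Line := .forb 0 35000762631 34464814881 [(1, 84), (1, 112), (1, 131), (1, 154), (1, 161), (1, 192), (1, 199), (1, 211), (1, 224), (1, 235), (1, 236), (1, 244), (1, 282), (1, 286), (1, 312)] [⟨[(244, 23), (131, 4), (224, 17), (312, 18), (154, 30), (84, 2), (282, 23), (112, 62), (236, 6), (192, 5), (211, 26), (286, 48), (161, 13), (235, 30), (199, 17)], []⟩, ⟨[(224, 63), (199, 20), (161, 24), (282, 1), (236, 60), (112, 1), (192, 10), (235, 39), (286, 52), (312, 17), (131, 38), (154, 20), (244, 13), (84, 27), (211, 61)], []⟩]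

def l203 : Line := .forb 0 35004678996 35803637571 [(1, 49), (1, 79), (1, 111), (1, 120), (1, 138), (1, 149), (1, 170), (1, 180), (1, 201), (1, 216), (1, 246), (1, 249), (1, 252), (1, 254), (1, 301)] [⟨[(170, 61), (138, 46), (120, 21), (252, 6), (254, 31), (111, 52), (249, 31), (301, 15), (149, 33), (49, 16), (216, 12), (246, 51), (201, 38), (180, 4), (79, 26)], []⟩, ⟨[(138, 46), (216, 0), (249, 31), (301, 15), (149, 33), (49, 16), (180, 39), (246, 1), (79, 16), (201, 16), (170, 46), (252, 39), (111, 43), (120, 40), (254, 48)], []⟩]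

def l204 : Line := .forb 0 36255904326 36243059301 [(1, 16), (1, 26), (1, 32), (1, 38), (1, 59), (1, 64), (1, 68), (1, 73), (1, 76), (1, 85), (1, 91), (1, 115), (1, 159), (1, 192), (1, 235)] [⟨[(59, 41), (115, 7), (76, 61), (159, 14), (91, 21), (73, 61), (38, 51), (16, 2), (235, 42), (192, 7), (64, 50), (32, 2), (85, 21), (68, 9), (26, 46)], []⟩, ⟨[(38, 9), (192, 35), (26, 41), (76, 17), (235, 21), (68, 9), (85, 14), (91, 42), (16, 2), (64, 50), (115, 35), (73, 61), (59, 46), (32, 2), (159, 21)], []⟩]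

def l205 : Line := .forb 0 34952605761 35237488386 [(1, 39), (1, 85), (1, 90), (1, 112), (1, 144), (1, 160), (1, 164), (1, 192), (1, 199), (1, 241), (1, 243), (1, 253), (1, 285), (1, 299), (1, 305)] [⟨[(243, 26), (90, 51), (285, 40), (164, 24), (39, 50), (241, 32), (253, 12), (144, 13), (299, 45), (112, 51), (305, 43), (160, 6), (199, 2), (85, 63), (192, 60)], []⟩, ⟨[(160, 15), (243, 12), (299, 4), (192, 39), (85, 46), (164, 0), (39, 10), (199, 5), (112, 28), (285, 24), (144, 61), (90, 51), (305, 61), (253, 46), (241, 30)], []⟩]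

def l206 : Line := .forb 4 34920157956 35520522081 [(1, 57), (1, 103), (1, 144), (1, 172), (1, 185), (1, 188), (1, 194), (1, 225), (1, 266), (1, 294), (1, 311), (1, 312)] [⟨[(103, 53), (57, 51), (294, 13), (225, 63), (266, 29), (312, 17), (194, 9), (172, 63), (185, 35), (144, 11), (311, 2), (188, 17)], []⟩, ⟨[(225, 40), (311, 50), (188, 57), (312, 6), (194, 28), (103, 49), (172, 24), (57, 26), (294, 40), (266, 22), (144, 37), (185, 16)], []⟩]

def l207 : Line := .forb 0 34967221761 35203208961 [(1, 13), (1, 23), (1, 42), (1, 56), (1, 86), (1, 91), (1, 186), (1, 211), (1, 220), (1, 235), (1, 250), (1, 255), (1, 304), (1, 312), (1, 314)] [⟨[(235, 35), (13, 21), (186, 30), (250, 6), (211, 43), (56, 36), (86, 53), (314, 3), (255, 14), (220, 24), (312, 27), (23, 8), (91, 23), (304, 35), (42, 49)], []⟩, ⟨[(312, 7), (86, 32), (91, 34), (13, 60), (235, 49), (255, 2), (250, 4), (186, 36), (304, 12), (23, 15), (211,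 33), (42, 26), (314, 6), (56, 58), (220, 2)], []⟩]

def l208 : Line := .forb 0 34954691856 35771344656 [(1, 7), (1, 19), (1, 20), (1, 41), (1, 43), (1, 57), (1, 78), (1, 106), (1, 187), (1, 198), (1, 210), (1, 223), (1, 228), (1, 259), (1, 280)] [⟨[(280, 10), (187, 63), (228, 28), (57, 59), (210, 5), (7, 51), (106, 57), (43, 53), (20, 61), (19, 20), (259, 16), (41, 5), (198, 21), (78, 8), (223, 27)], []⟩, ⟨[(210, 22), (78, 2), (280, 22), (19, 9), (228, 7), (20, 39), (41, 17), (7, 39), (43, 39), (223, 39), (106, 60), (259, 39), (187, 54), (198, 0), (57, 60)], []⟩]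

def l209 : Line := .forb 0 35821666401 35994682626 [(1, 28), (1, 50), (1, 95), (1, 150), (1, 153), (1, 166), (1, 232), (1, 241), (1, 275), (1, 278), (1, 285), (1, 294), (1, 305), (1, 307), (1, 313)] [⟨[(275, 62), (153, 55), (150, 58), (313, 12), (278, 3), (28, 9), (50, 58), (166, 1), (307, 1), (305, 1), (95, 60), (285, 13), (232, 22), (241, 54), (294, 45)], []⟩, ⟨[(313, 49), (275, 22), (28, 63), (153, 17), (232, 33), (50, 43), (150, 58), (305, 29), (166, 19), (307, 17), (241, 34), (278, 10), (285, 53), (294, 54), (95, 21)], []⟩]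

def l210 : Line := .forb 0 35991335541 34745954916 [(1, 37), (1, 106), (1, 110), (1, 142), (1, 158), (1, 184), (1, 209), (1, 237), (1, 239), (1, 241), (1, 243), (1, 269), (1, 275), (1, 279), (1, 280)] [⟨[(184, 17), (243, 25), (279, 63), (158, 51), (106, 22), (269, 59), (142, 7), (280, 6), (110, 42), (239, 46), (209, 63), (237, 14), (241, 56), (275, 16), (37, 62)], []⟩, ⟨[(243, 25), (110, 2), (209, 63), (237, 0), (241, 17), (279, 2), (106, 57), (275, 8), (184, 10), (280, 57), (269, 17), (37, 43), (142, 7), (239, 24), (158, 59)], []⟩]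

def l211 : Line := .forb 0 34715492391 34416644466 [(1, 21), (1, 70), (1, 89), (1, 98), (1, 132), (1, 167), (1, 171), (1, 172), (1, 201), (1, 218), (1, 240), (1, 254), (1, 274), (1, 300), (1, 302)] [⟨[(171, 12), (21, 25), (302, 58), (167, 39), (254, 7), (300, 19), (132, 40), (89, 39), (274, 36), (240, 18), (172, 60), (70, 48), (98, 16), (201, 56), (218, 36)], []⟩, ⟨[(201, 32), (302, 20), (240, 13), (254, 39), (89, 7), (274, 52), (98, 60), (167, 39), (218, 61), (21, 26), (132, 31), (171, 22), (172, 55), (70, 1), (300, 10)], []⟩]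

def l212 : Line := .forb 0 35200069701 35232249426 [(1, 0), (1, 7), (1, 20), (1, 43), (1, 46), (1, 52), (1, 98), (1, 132), (1, 141), (1, 172), (1, 182), (1, 200), (1, 204), (1, 212), (1, 215)] [⟨[(7, 3), (141, 7), (204, 28), (212, 18), (0, 9), (200, 42), (46, 10), (52, 56), (98, 10), (182, 9), (215, 42), (20, 3), (132, 16), (172, 42), (43, 32)], []⟩, ⟨[(98, 10), (43, 0), (7, 0), (20, 0), (215, 9), (0, 15), (52, 0), (182, 10), (204, 46), (46, 22), (200, 15), (132, 0), (212, 46), (141, 0), (172, 56)], []⟩]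

def l213 : Line := .forb 0 35552187936 36007526736 [(1, 60), (1, 62), (1, 102), (1, 104), (1, 112), (1, 160), (1, 177), (1, 189), (1, 221), (1, 224), (1, 258), (1, 267), (1, 296), (1, 297), (1, 311)] [⟨[(267, 3), (177, 2), (60, 20), (221, 37), (258, 9), (224, 8), (160, 20), (102, 17), (311, 15), (297, 60), (104, 60), (296, 14), (189, 48), (62, 50), (112, 20)], []⟩, ⟨[(189, 30), (258, 2), (104, 32), (112, 48), (102, 9), (62, 44), (60, 35), (177, 17), (224, 4), (267, 2), (160, 30), (221, 1), (297, 45), (311, 2), (296, 58)], []⟩]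

def l214 : Line := .forb 0 36262118181 36322943331 [(1, 1), (1, 5), (1, 13), (1, 26), (1, 49), (1, 51), (1, 54), (1, 82), (1, 85), (1, 87), (1, 90), (1, 91), (1, 138), (1, 149), (1, 219)] [⟨[(149, 28), (49, 3), (138, 3), (90, 0), (219, 0), (91, 33), (13, 3), (85, 46), (54, 33), (1, 8), (5, 8), (87, 16), (82, 16), (51, 16), (26, 16)], []⟩, ⟨[(49, 28), (138, 7), (149, 7), (91, 33), (51, 33), (1, 8), (87, 16), (13, 32), (26, 33), (90, 0), (54, 16), (85, 0), (219, 0), (82, 33), (5, 8)], []⟩]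

def l215 : Line := .forb 0 35182179906 35202887781 [(1, 2), (1, 12), (1, 16), (1, 38), (1, 76), (1, 89), (1, 107), (1, 116), (1, 150), (1, 167), (1, 208), (1, 249), (1, 254), (1, 268), (1, 278)] [⟨[(249, 42), (208, 45), (89, 52), (254, 38), (167, 40), (2, 24), (12, 29), (150, 47), (268, 34), (116, 45), (38, 20), (278, 11), (107, 52), (76, 20), (16, 3)], []⟩, ⟨[(12, 59), (278, 9), (76, 2), (16, 9), (38, 17), (254, 2), (150, 21), (249, 47), (208, 34), (89, 9), (107, 60), (268, 23), (167, 17), (116, 5), (2, 63)], []⟩]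

def l216 : Line := .forb 0 35182179906 35202887781 [(1, 6), (1, 25), (1, 28), (1, 29), (1, 61), (1, 65), (1, 111), (1, 120), (1, 121), (1, 146), (1, 168), (1, 179), (1, 225), (1, 271), (1, 307)] [⟨[(120, 56), (271, 45), (225, 54), (146, 52), (179, 58), (111, 21), (168, 38), (307, 24), (61, 21), (6, 23), (25, 30), (28, 47), (121, 20), (65, 20), (29, 3)], []⟩, ⟨[(25, 57), (307, 9), (271, 54), (121, 2), (146, 63), (29, 9), (61, 0), (225, 15), (65, 17), (111, 63), (28, 21), (120, 33), (179, 22), (168, 32), (6, 46)], []⟩]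

def l217 : Line := .forb 0 34917986421 34695624546 [(1, 10), (1, 14), (1, 30), (1, 36), (1, 66), (1, 74), (1, 83), (1, 113), (1, 122), (1, 130), (1, 157), (1, 190), (1, 226), (1, 264), (1, 290)] [⟨[(226, 31), (290, 18), (14, 51), (264, 4), (74, 53), (157, 41), (30, 14), (130, 29), (10, 32), (122, 50), (36, 53), (83, 41), (113, 56), (66, 24), (190, 54)], []⟩, ⟨[(14, 11), (74, 2), (190, 2), (83, 47), (36, 28), (10, 5), (66, 14), (264, 23), (113, 17), (30, 50), (290, 47), (130, 29), (157, 46), (122, 24), (226, 25)], []⟩]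

def l218 : Line := .forb 0 35825852481 36061659906 [(1, 1), (1, 4), (1, 5), (1, 10), (1, 12), (1, 13), (1, 23), (1, 25), (1, 46), (1, 66), (1, 103), (1, 105), (1, 107), (1, 168), (1, 200)] [⟨[(200, 51), (103, 56), (168, 56), (4, 2), (66, 26), (107, 62), (12, 9), (105, 56), (25, 17), (1, 34), (13, 34), (5, 22), (10, 34), (46, 62), (23, 51)], []⟩, ⟨[(107, 62), (12, 9), (200, 51), (13, 2), (25, 17), (168, 56), (1, 9), (4, 2), (5, 17), (103, 33), (105, 16), (66, 46), (23, 34), (10, 62), (46, 51)], []⟩]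

def l219 : Line := .forb 0 36324123651 36312318801 [(1, 1), (1, 5), (1, 13), (1, 59), (1, 95), (1, 97), (1, 156), (1, 159), (1, 161), (1, 162), (1, 166), (1, 207), (1, 232), (1, 235), (1, 238)] [⟨[(156, 7), (97, 18), (238, 8), (162, 21), (5, 8), (159, 33), (59, 16), (161, 46), (95, 33), (166, 40), (1, 7), (232, 13), (13, 20), (207, 3), (235, 6)], []⟩, ⟨[(13, 9), (1, 17), (5, 2), (161, 0), (232, 0), (59, 0), (235, 1), (207, 15), (97, 0), (156, 1), (95, 59), (238, 23), (166, 59), (162, 0), (159, 59)], []⟩]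

def l220 : Line := .forb 0 34970038581 35249329956 [(1, 38), (1, 65), (1, 111), (1, 143), (1, 159), (1, 170), (1, 195), (1, 229), (1, 238), (1, 242), (1, 254), (1, 265), (1, 274), (1, 291), (1, 292)] [⟨[(242, 26), (159, 5), (238, 18), (38, 50), (229, 17), (143, 18), (291, 6), (111, 11), (65, 60), (292, 2), (274, 59), (195, 30), (265, 44), (254, 27), (170, 11)], []⟩, ⟨[(195, 57), (242, 5), (254, 43), (274, 29), (291, 60), (111, 16), (292, 56), (65, 10), (143, 17), (229, 9), (170, 9), (159, 4), (238, 14), (265, 34), (38, 5)], []⟩]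

def l221 : Line := .forb 0 34954691856 35771344656 [(1, 80), (1, 129), (1, 202), (1, 217), (1, 220), (1, 239), (1, 241), (1, 246), (1, 252), (1, 266), (1, 285), (1, 301), (1, 304), (1, 305), (1, 314)] [⟨[(241, 33), (80, 49), (305, 29), (285, 37), (301, 42), (202, 36), (220, 58), (266, 59), (239, 47), (217, 12), (314, 37), (129, 8), (252, 46), (304, 19), (246, 49)], []⟩, ⟨[(305, 30), (217, 61), (285, 24), (241, 46), (304, 52), (80, 51), (129, 12), (252, 45), (301, 29), (202, 12), (266, 29), (246, 28), (314, 38), (239, 13), (220, 59)], []⟩]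

def l222 : Line := .forb 0 35004678996 35803637571 [(1, 4), (1, 12), (1, 25), (1, 48), (1, 81), (1, 84), (1, 89), (1, 131), (1, 137), (1, 140), (1, 146), (1, 148), (1, 203), (1, 218), (1, 282)] [⟨[(282, 28), (131, 3), (84, 3), (140, 46), (148, 0), (218, 33), (4, 3), (203, 46), (146, 33), (12, 8), (25, 8), (89, 33), (48, 16), (137, 16), (81, 16)], []⟩, ⟨[(131, 3), (84, 3), (282, 28), (148, 0), (203, 46), (146, 33), (25, 8), (140, 46), (48, 16), (4, 32), (12, 20), (137, 16), (218, 33), (81, 16), (89, 33)], []⟩]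

def l223 : Line := .forb 0 34434527766 35706515991 [(1, 33), (1, 34), (1, 64), (1, 70), (1, 98), (1, 115), (1, 125), (1, 152), (1, 154), (1, 164), (1, 192), (1, 204), (1, 270), (1, 283), (1, 303)] [⟨[(64, 18), (303, 3), (125, 17), (283, 18), (115, 18), (34, 2), (270, 28), (164, 3), (98, 7), (192, 13), (70, 9), (33, 3), (204, 18), (152, 10), (154, 18)], []⟩, ⟨[(115, 29), (98, 48), (70, 9), (164, 23), (192, 30), (125, 17), (33, 30), (204, 1), (152, 6), (64, 37), (34, 2), (154, 2), (283, 46), (303, 46), (270, 0)], []⟩]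

def l224 : Line := .forb 0 35199014676 34966894101 [(1, 1), (1, 6), (1, 27), (1, 60), (1, 87), (1, 110), (1, 119), (1, 129), (1, 161), (1, 168), (1, 179), (1, 224), (1, 239), (1, 244), (1, 266)] [⟨[(179, 5), (239, 21), (6, 56), (161, 9), (224, 15), (244, 17), (168, 51), (87, 35), (119, 0), (266, 42), (129, 41), (1, 45), (110, 28), (27, 0), (60, 35)], []⟩, ⟨[(168, 28), (266, 51), (179, 9), (87, 9), (110, 0), (60, 9), (6, 37), (1, 36), (244, 2), (129, 24), (239, 44), (161, 19), (27, 28), (224, 15), (119, 35)], []⟩]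

def l225 : Line := .forb 0 34465850481 34734228231 [(1, 14), (1, 40), (1, 43), (1, 52), (1, 56), (1, 114), (1, 123), (1, 126), (1, 134), (1, 202), (1, 220), (1, 223), (1, 258), (1, 264), (1, 297)] [⟨[(202, 22), (223, 60), (134, 26), (123, 55), (43, 17), (14, 49), (126, 33), (264, 26), (40, 7), (297, 0), (52, 18), (56, 13), (114, 21), (220, 51), (258, 22)], []⟩, ⟨[(123, 17), (264, 3), (223, 22), (43, 55), (202, 22), (56, 52), (220, 48), (134, 26), (297, 0), (114, 7), (14, 18), (52, 10), (40, 21), (258, 13), (126, 22)], []⟩]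

def l226 : Line := .forb 0 34997475141 34997356341 [(1, 71), (1, 81), (1, 93), (1, 97), (1, 162), (1, 171), (1, 203), (1, 214), (1, 218), (1, 221), (1, 230), (1, 288), (1, 295), (1, 309), (1, 311)] [⟨[(214, 41), (288, 46), (221, 52), (81, 23), (309, 39), (218, 23), (230, 27), (203, 15), (93, 27), (311, 50), (295, 10), (162, 13), (71, 22), (97, 51), (171, 53)], []⟩, ⟨[(171, 8), (309, 30), (230, 16), (218, 11), (295, 1), (203, 23), (71, 6), (81, 24), (311, 44), (162, 19), (288, 21), (93, 39), (221, 30), (214, 1), (97, 61)], []⟩]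

def l227 : Line := .forb 0 34682851446 34631672946 [(1, 4), (1, 10), (1, 14), (1, 21), (1, 35), (1, 50), (1, 71), (1, 74), (1, 126), (1, 142), (1, 180), (1, 201), (1, 218), (1, 237), (1, 275)] [⟨[(218, 19), (237, 50), (275, 5), (10, 38), (4, 22), (201, 21), (180, 0), (142, 21), (50, 0), (35, 55), (21, 11), (14, 25), (74, 38), (71, 25), (126, 20)], []⟩, ⟨[(142, 56), (74, 15), (10, 5), (201, 8), (180, 0), (275, 3), (50, 0), (14, 9), (4, 22), (126, 16), (237, 16), (218, 53), (21, 62), (35, 16), (71, 3)], []⟩]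

def l228 : Line := .forb 0 34461722451 34998584151 [(1, 26), (1, 85), (1, 91), (1, 93), (1, 191), (1, 198), (1, 210), (1, 225), (1, 230), (1, 271), (1, 273), (1, 288), (1, 305), (1, 307), (1, 314)] [⟨[(230, 17), (288, 12), (93, 63), (273, 11), (91, 2), (26, 11), (271, 14), (191, 43), (305, 33), (314, 19), (225, 5), (210, 56), (307, 33), (198, 10), (85, 11)], []⟩, ⟨[(307, 63), (271, 63), (225, 63), (230, 46), (26, 59), (85, 11), (305, 14), (314, 10), (288, 27), (198, 56), (210, 31), (93, 27), (273, 5), (191, 9), (91, 34)], []⟩]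

def l229 : Line := .forb 0 35517834006 35440239381 [(1, 3), (1, 9), (1, 19), (1, 20), (1, 48), (1, 49), (1, 67), (1, 82), (1, 131), (1, 141), (1, 217), (1, 236), (1, 246), (1, 251), (1, 272)] [⟨[(251, 20), (141, 50), (48, 3), (131, 13), (9, 10), (82, 6), (19, 2), (236, 21), (3, 10), (67, 56), (246, 16), (217, 0), (49, 2), (272, 49), (20, 26)], []⟩, ⟨[(20, 59), (82, 11), (49, 11), (246, 23), (67, 14), (217, 43), (131, 24), (251, 2), (48, 1), (272, 9), (19, 54), (141, 9), (3, 10), (9, 5), (236, 0)], []⟩]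

def l230 : Line := .forb 0 34662004071 34378888821 [(1, 2), (1, 30), (1, 47), (1, 66), (1, 93), (1, 101), (1, 107), (1, 116), (1, 122), (1, 136), (1, 147), (1, 176), (1, 230), (1, 245), (1, 288)] [⟨[(66, 34), (47, 15), (288, 16), (147, 54), (245, 29), (107, 2), (30, 61), (122, 9), (136, 15), (230, 21), (93, 1), (116, 53), (176, 19), (2, 22), (101, 50)], []⟩, ⟨[(107, 8), (66, 2), (93, 39), (122, 9), (101, 56), (47, 8), (116, 53), (2, 62), (30, 17), (288, 16), (230, 27), (136, 8), (245, 29), (147, 34), (176, 14)], []⟩]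

def l231 : Line := .forb 0 35759850006 35709542931 [(1, 30), (1, 53), (1, 55), (1, 97), (1, 156), (1, 157), (1, 158), (1, 227), (1, 229), (1, 238), (1, 273), (1, 276), (1, 279), (1, 288), (1, 306)] [⟨[(156, 63), (97, 17), (238, 9), (273, 53), (158, 46), (276, 39), (157, 60), (279, 8), (306, 5), (227, 25), (229, 6), (30, 62), (288, 59), (55, 7), (53, 62)], []⟩, ⟨[(238, 45), (156, 63), (97, 58), (227, 33), (273, 53), (229, 32), (30, 58), (55, 17), (279, 8), (158, 2), (53, 4), (288, 51), (157, 59), (306, 51), (276, 17)], []⟩]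

def l232 : Line := .forb 0 35249415186 35490263061 [(1, 11), (1, 40), (1, 54), (1, 61), (1, 104), (1, 111), (1, 137), (1, 146), (1, 149), (1, 184), (1, 209), (1, 258), (1, 264), (1, 290), (1, 292)] [⟨[(258, 51), (209, 54), (61, 51), (137, 1), (146, 6), (149, 57), (264, 16), (11, 62), (40, 15), (111, 61), (184, 49), (290, 60), (292, 19), (104, 36), (54, 26)], []⟩, ⟨[(104, 28), (264, 32), (111, 61), (11, 10), (61, 51), (137, 12), (54, 46), (149, 0), (184, 4), (146, 6), (290, 2), (40, 39), (258, 5), (292, 48), (209, 30)], []⟩]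

def l233 : Line := .forb 0 36262118181 36322943331 [(1, 3), (1, 9), (1, 11), (1, 17), (1, 22), (1, 24), (1, 27), (1, 39), (1, 42), (1, 45), (1, 60), (1, 86), (1, 92), (1, 104), (1, 160)] [⟨[(22, 17), (39, 61), (45, 2), (160, 41), (17, 51), (9, 9), (11, 7), (104, 18), (60, 24), (42, 9), (27, 27), (24, 7), (3, 50), (86, 6), (92, 27)], []⟩, ⟨[(45, 2), (86, 41), (9, 9), (42, 51), (92, 29), (22, 17), (3, 50), (17, 9), (39, 61), (27, 29), (160, 46), (11, 14), (24, 14), (60, 25), (104, 47)], []⟩]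

def l234 : Line := .forb 0 35552187936 36007526736 [(1, 83), (1, 110), (1, 130), (1, 134), (1, 174), (1, 184), (1, 194), (1, 196), (1, 199), (1, 243), (1, 244), (1, 264), (1, 277), (1, 295), (1, 309)] [⟨[(243, 2), (277, 28), (110, 2), (174, 61), (83, 49), (295, 21), (196, 49), (130, 61), (264, 49), (244, 53), (134, 49), (184, 39), (194, 35), (309, 49), (199, 33)], []⟩, ⟨[(110, 25), (196, 31), (184, 17), (309, 0), (264, 33), (199, 58), (134, 33), (83, 61), (130, 33), (174, 53), (277, 56), (243, 38), (295, 24), (244, 16), (194, 33)], []⟩]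

def l235 : Line := .forb 0 34668499716 35520521841 [(1, 49), (1, 138), (1, 149), (1, 152), (1, 169), (1, 175), (1, 229), (1, 272), (1, 283), (1, 284), (1, 291), (1, 292), (1, 293), (1, 306), (1, 308)] [⟨[(229, 37), (291, 4), (292, 24), (284, 23), (308, 2), (149, 4), (169, 44), (175, 57), (49, 35), (138, 15), (306, 2), (293, 60), (272, 47), (152, 52), (283, 37)], []⟩, ⟨[(149, 46), (49, 0), (138, 46), (291, 6), (152, 4), (283, 62), (293, 60), (292, 30), (284, 12), (175, 32), (169, 0), (306, 30), (308, 59), (272, 0), (229, 18)], []⟩]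

def l236 : Line := .forb 0 36258054996 36306953571 [(1, 31), (1, 48), (1, 58), (1, 67), (1, 94), (1, 102), (1, 108), (1, 117), (1, 123), (1, 137), (1, 148), (1, 177), (1, 231), (1, 258), (1, 289)] [⟨[(58, 53), (177, 35), (137, 14), (117, 17), (67, 35), (231, 42), (148, 14), (48, 54), (108, 51), (258, 50), (102, 35), (94, 54), (123, 50), (289, 14), (31, 19)], []⟩, ⟨[(258, 39), (148, 0), (108, 0), (177, 39), (31, 7), (289, 8), (117, 39), (58, 39), (102, 39), (48, 16), (137, 16), (231, 15), (67, 7), (94, 15), (123, 10)], []⟩]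

def l237 : Line := .forb 0 35772265986 35206352961 [(1, 24), (1, 42), (1, 44), (1, 73), (1, 91), (1, 117), (1, 138), (1, 147), (1, 148), (1, 203), (1, 216), (1, 255), (1, 276), (1, 288), (1, 306)] [⟨[(73, 2), (138, 8), (91, 41), (288, 8), (24, 32), (306, 34), (147, 16), (276, 0), (117, 48), (42, 3), (255, 17), (148, 0), (203, 25), (44, 8), (216, 36)], []⟩, ⟨[(117, 59), (148, 34), (203, 11), (91, 29), (138, 39), (255, 18), (73, 19), (42, 8), (147, 38), (216, 39), (44, 44), (24, 60), (288, 53), (306, 61), (276, 2)], []⟩]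

def l238 : Line := .forb 0 35200069701 35232249426 [(1, 6), (1, 23), (1, 31), (1, 56), (1, 67), (1, 123), (1, 144), (1, 152), (1, 164), (1, 168), (1, 179), (1, 186), (1, 272), (1, 299), (1, 308)] [⟨[(31, 28), (6, 2), (272, 7), (168, 40), (152, 62), (308, 18), (56, 0), (144, 14), (23, 7), (67, 46), (123, 1), (179, 47), (164, 18), (186, 0), (299, 13)], []⟩, ⟨[(164, 7), (179, 56), (123, 0), (6, 15), (31, 0), (67, 0), (186, 17), (308, 61), (56, 39), (144, 49), (299, 45), (168, 27), (152, 61), (23, 37), (272, 0)], []⟩]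

def l239 : Line := .forb 0 35974887186 35018584086 [(1, 7), (1, 31), (1, 33), (1, 80), (1, 98), (1, 143), (1, 145), (1, 158), (1, 164), (1, 232), (1, 238), (1, 241), (1, 274), (1, 280), (1, 289)] [⟨[(274, 36), (143, 34), (232, 41), (238, 59), (289, 28), (280, 6), (7, 50), (164, 37), (145, 5), (80, 4), (241, 61), (33, 44), (158, 42), (98, 3), (31, 3)], []⟩, ⟨[(31, 46), (80, 11), (238, 26), (7, 10), (143, 15), (241, 51), (232, 46), (33, 44), (274, 25), (289, 17), (158, 53), (98, 60), (280, 13), (164, 10), (145, 63)], []⟩]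

def l240 : Line := .forb 0 35239515681 35739037956 [(1, 176), (1, 220), (1, 230), (1, 247), (1, 256), (1, 260), (1, 270), (1, 283), (1, 293), (1, 296), (1, 297), (1, 303), (1, 304), (1, 311), (1, 314)] [⟨[(293, 20), (256, 53), (283, 48), (260, 51), (230, 11), (303, 61), (297, 2), (296, 17), (270, 35), (220, 55), (304, 40), (311, 33), (176, 40), (314, 47), (247, 17)], []⟩, ⟨[(297, 55), (176, 43), (293, 17), (311, 43), (296, 53), (230, 42), (283, 46), (303, 46), (260, 24), (314, 45), (220, 2), (270, 0), (247, 31), (304, 12), (256, 52)], []⟩]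

def l241 : Line := .forb 0 35992519431 34482627681 [(1, 27), (1, 70), (1, 75), (1, 86), (1, 92), (1, 175), (1, 187), (1, 191), (1, 198), (1, 266), (1, 283), (1, 284), (1, 300), (1, 302), (1, 314)] [⟨[(314, 54), (187, 1), (175, 1), (191, 55), (198, 22), (86, 61), (284, 54), (300, 46), (302, 9), (283, 53), (92, 18), (27, 5), (75, 16), (266, 2), (70, 3)], []⟩, ⟨[(198, 54), (27, 12), (266, 11), (314, 34), (191, 63), (284, 41), (75, 16), (302, 15), (70, 18), (187, 22), (175, 26), (283, 6), (86, 17), (92, 37), (300, 13)], []⟩]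

def l242 : Line := .forb 0 35556565296 36043166496 [(1, 93), (1, 116), (1, 151), (1, 152), (1, 154), (1, 169), (1, 179), (1, 204), (1, 215), (1, 221), (1, 222), (1, 224), (1, 225), (1, 267), (1, 268)] [⟨[(267, 6), (152, 5), (224, 4), (93, 17), (169, 12), (221, 9), (154, 3), (151, 4), (204, 53), (268, 4), (215, 46), (222, 4), (116, 18), (225, 17), (179, 28)], []⟩, ⟨[(224, 12), (179, 46), (221, 0), (169, 2), (151, 12), (267, 4), (215, 54), (93, 12), (116, 37), (154, 12), (268, 12), (204, 0), (222, 12), (152, 12), (225, 0)], []⟩]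

def l243 : Line := .forb 0 34662004071 34378888821 [(1, 0), (1, 53), (1, 58), (1, 99), (1, 103), (1, 108), (1, 117), (1, 169), (1, 173), (1, 183), (1, 200), (1, 215), (1, 256), (1, 293), (1, 306)] [⟨[(103, 11), (58, 27), (306, 56), (200, 10), (117, 33), (293, 42), (169, 41), (173, 41), (0, 22), (108, 27), (53, 26), (183, 11), (215, 10), (256, 48), (99, 18)], []⟩, ⟨[(200, 16), (103, 2), (169, 54), (58, 27), (183, 9), (306, 56), (293, 14), (99, 60), (117, 33), (53, 17), (215, 16), (0, 0), (108, 27), (173, 41), (256, 29)], []⟩]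

def l244 : Line := .forb 0 36258972246 36240118371 [(1, 9), (1, 22), (1, 29), (1, 31), (1, 45), (1, 65), (1, 67), (1, 121), (1, 123), (1, 134), (1, 143), (1, 194), (1, 206), (1, 214), (1, 309)] [⟨[(143, 3), (206, 7), (309, 10), (121, 51), (214, 7), (134, 10), (65, 53), (194, 22), (29, 61), (45, 3), (123, 41), (22, 3), (31, 60), (67, 48), (9, 32)], []⟩, ⟨[(214, 7), (143, 3), (121, 9), (22, 46), (206, 7), (29, 17), (45, 46), (65, 2), (9, 46), (194, 46), (31, 28), (309, 16), (67, 41), (123, 41), (134, 33)], []⟩]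

def l245 : Line := .forb 0 36323082546 36312387621 [(1, 14), (1, 52), (1, 56), (1, 59), (1, 155), (1, 159), (1, 209), (1, 212), (1, 235), (1, 237), (1, 286), (1, 287), (1, 290), (1, 292), (1, 308)] [⟨[(237, 57), (155, 17), (287, 63), (308, 8), (292, 51), (212, 32), (235, 3), (56, 44), (286, 22), (209, 13), (14, 28), (290, 11), (159, 5), (59, 40), (52, 32)], []⟩, ⟨[(52, 0), (56, 46), (14, 46), (155, 0), (290, 26), (287, 0), (159, 10), (308, 0), (237, 53), (292, 39), (212, 46), (209, 15), (59, 22), (235, 9), (286, 46)], []⟩]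

def l246 : Line := .forb 0 34967221761 35203208961 [(1, 1), (1, 10), (1, 14), (1, 27), (1, 39), (1, 63), (1, 74), (1, 85), (1, 114), (1, 119), (1, 159), (1, 191), (1, 195), (1, 242), (1, 253)] [⟨[(159, 19), (1, 21), (119, 12), (195, 13), (74, 23), (85, 49), (27, 4), (14, 38), (253, 36), (242, 55), (114, 38), (39, 19), (191, 32), (63, 40), (10, 8)], []⟩, ⟨[(242, 42), (27, 32), (1, 28), (159, 55), (85, 20), (191, 2), (119, 1), (253, 2), (63, 9), (195, 10), (10, 8), (114, 17), (74, 8), (14, 38), (39, 28)], []⟩]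

def l247 : Line := .forb 0 34429298451 34951529751 [(1, 1), (1, 9), (1, 27), (1, 55), (1, 82), (1, 105), (1, 119), (1, 133), (1, 156), (1, 185), (1, 193), (1, 206), (1, 240), (1, 251), (1, 302)] [⟨[(55, 28), (1, 17), (105, 53), (193, 8), (27, 46), (133, 8), (185, 51), (206, 24), (9, 10), (302, 11), (156, 24), (82, 0), (251, 9), (119, 46), (240, 50)], []⟩, ⟨[(105, 28), (82, 5), (185, 53), (302, 34), (251, 9), (193, 14), (55, 51), (27, 56), (240, 2), (133, 29), (1, 43), (156, 0), (206, 2), (9, 10), (119, 30)], []⟩]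

def l248 : Line := .forb 0 36323082546 36312387621 [(1, 10), (1, 23), (1, 46), (1, 109), (1, 141), (1, 153), (1, 157), (1, 229), (1, 236), (1, 242), (1, 272), (1, 275), (1, 279), (1, 312), (1, 313)] [⟨[(275, 6), (313, 5), (153, 3), (272, 29), (23, 6), (229, 46), (242, 23), (109, 38), (10, 4), (141, 44), (46, 1), (279, 6), (312, 3), (236, 11), (157, 22)], []⟩, ⟨[(46, 0), (10, 0), (23, 0), (153, 4), (272, 0), (157, 48), (109, 19), (312, 0), (141, 2), (313, 9), (236, 2), (229, 10), (242, 42), (275, 15), (279, 15)], []⟩]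

def l249 : Line := .forb 0 34461722451 34998584151 [(1, 114), (1, 118), (1, 151), (1, 158), (1, 208), (1, 220), (1, 223), (1, 241), (1, 253), (1, 255), (1, 260), (1, 268), (1, 276), (1, 278), (1, 280)] [⟨[(255, 17), (260, 42), (158, 18), (268, 30), (220, 13), (253, 13), (118, 3), (278, 20), (276, 59), (151, 59), (241, 31), (114, 43), (280, 7), (223, 7), (208, 14)], []⟩, ⟨[(118, 63), (278, 59), (260, 34), (280, 63), (223, 50), (255, 10), (253, 3), (158, 0), (208, 59), (268, 59), (276, 62), (220, 23), (151, 16), (114, 9), (241, 63)], []⟩]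

def l250 : Line := .forb 0 35199014676 34966894101 [(1, 0), (1, 5), (1, 54), (1, 57), (1, 92), (1, 104), (1, 106), (1, 162), (1, 178), (1, 184), (1, 187), (1, 200), (1, 215), (1, 221), (1, 295)] [⟨[(106, 41), (215, 59), (221, 8), (54, 38), (0, 42), (162, 61), (184, 40), (178, 53), (200, 15), (295, 59), (104, 52), (187, 48), (57, 28), (5, 40), (92, 46)], []⟩, ⟨[(187, 60), (200, 2), (184, 9), (5, 35), (215, 24), (54, 17), (92, 52), (295, 4), (0, 15), (104, 2), (178, 52), (57, 41), (106, 41), (162, 42), (221, 20)], []⟩]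

def l251 : Line := .forb 0 35517834006 35440239381 [(1, 11), (1, 41), (1, 43), (1, 45), (1, 51), (1, 123), (1, 137), (1, 149), (1, 181), (1, 202), (1, 212), (1, 282), (1, 286), (1, 301), (1, 308)] [⟨[(181, 20), (137, 3), (282, 13), (212, 44), (286, 31), (41, 9), (45, 10), (51, 51), (308, 52), (301, 32), (123, 56), (11, 56), (202, 2), (149, 14), (43, 26)], []⟩, ⟨[(43, 57), (149, 34), (301, 49), (51, 11), (181, 2), (282, 24), (123, 35), (202, 45), (45, 5), (41, 54), (308, 9), (137, 39), (212, 63), (11, 31), (286, 59)], []⟩]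

def l252 : Line := .forb 0 35772265986 35206352961 [(1, 11), (1, 21), (1, 32), (1, 39), (1, 47), (1, 58), (1, 85), (1, 93), (1, 137), (1, 149), (1, 151), (1, 169), (1, 201), (1, 218), (1, 253)] [⟨[(32, 61), (85, 8), (93, 8), (149, 54), (151, 0), (169, 32), (11, 3), (21, 26), (58, 26), (47, 0), (218, 2), (201, 39), (253, 17), (39, 62), (137, 0)], []⟩, ⟨[(58, 12), (218, 34), (85, 54), (137, 20), (39, 62), (253, 62), (149, 39), (169, 9), (47, 51), (32, 7), (93, 9), (151, 0), (21, 18), (201, 39), (11, 28)], []⟩]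

def l253 : Line := .forb 0 36242081121 36257879046 [(1, 29), (1, 57), (1, 65), (1, 100), (1, 106), (1, 113), (1, 121), (1, 135), (1, 157), (1, 175), (1, 187), (1, 229), (1, 257), (1, 279), (1, 310)] [⟨[(113, 20), (65, 53), (310, 54), (106, 2), (29, 61), (279, 28), (135, 15), (229, 21), (257, 52), (187, 9), (121, 51), (175, 19), (57, 17), (100, 36), (157, 54)], []⟩, ⟨[(310, 54), (187, 9), (135, 15), (175, 2), (57, 17), (229, 58), (113, 20), (157, 62), (65, 58), (257, 9), (106, 2), (121, 35), (100, 17), (29, 25), (279, 15)], []⟩]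

def l254 : Line := .forb 0 35825852481 36061659906 [(1, 74), (1, 116), (1, 119), (1, 120), (1, 122), (1, 178), (1, 179), (1, 180), (1, 182), (1, 183), (1, 185), (1, 186), (1, 215), (1, 249), (1, 250)] [⟨[(180, 33), (74, 21), (215, 48), (185, 16), (119, 33), (179, 38), (182, 1), (183, 16), (120, 46), (250, 25), (178, 59), (249, 25), (186, 44), (122, 59), (116, 51)], []⟩, ⟨[(250, 25), (186, 27), (116, 1), (180, 33), (183, 33), (215, 29), (74, 1), (249, 47), (178, 2), (185, 16), (122, 46), (119, 33), (182, 50), (120, 2), (179, 38)], []⟩]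

def l255 : Line := .forb 0 35703255606 35172651606 [(1, 19), (1, 63), (1, 96), (1, 99), (1, 131), (1, 140), (1, 170), (1, 173), (1, 188), (1, 195), (1, 211), (1, 246), (1, 256), (1, 259), (1, 304)] [⟨[(63, 55), (170, 41), (99, 6), (195, 33), (259, 59), (173, 1), (256, 4), (188, 34), (131, 24), (246, 47), (19, 57), (304, 52), (211, 42), (140, 39), (96, 33)], []⟩, ⟨[(246, 15), (96, 48), (256, 1), (304, 38), (19, 13), (99, 12), (173, 1), (259, 59), (195, 26), (211, 56), (188, 58), (131, 17), (63, 37), (170, 51), (140, 47)], []⟩]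

def l256 : Line := .forb 0 34401047601 35772306951 [(1, 47), (1, 57), (1, 79), (1, 106), (1, 136), (1, 147), (1, 153), (1, 165), (1, 187), (1, 201), (1, 216), (1, 248), (1, 275), (1, 300), (1, 313)] [⟨[(106, 26), (248, 61), (47, 9), (165, 51), (57, 15), (187, 15), (201, 39), (275, 25), (300, 53), (136, 9), (147, 9), (153, 24), (79, 3), (313, 29), (216, 33)], []⟩, ⟨[(57, 5), (165, 39), (201, 0), (300, 39), (187, 5), (106, 26), (275, 15), (47, 32), (248, 39), (216, 46), (79, 46), (136, 32), (313, 18), (147, 60), (153, 1)], []⟩]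

def l257 : Line := .forb 0 34701583731 34714551156 [(1, 291), (1, 295), (1, 296), (1, 302), (1, 303), (1, 308), (1, 314)] [⟨[(305, 31), (113, 23), (267, 42), (3, 38), (151, 14), (26, 39), (154, 15)], [⟨1, 2, 0, 0, [(99, 0), (245, 0), (247, 0)]⟩, ⟨1, 4, 0, 0, [(143, 0), (156, 0), (171, 0)]⟩, ⟨1, 5, 0, 0, [(171, 0), (206, 0), (238, 0)]⟩, ⟨1, 9, 0, 0, [(204, 0), (236, 0), (308, 0)]⟩, ⟨1, 10, 0, 0, [(93, 0), (276, 0), (293, 0)]⟩, ⟨1, 11, 0, 0, [(25, 0), (50, 0), (249, 0)]⟩, ⟨1, 12, 0, 0, [(18, 0), (177, 0), (264, 0)]⟩, ⟨1, 13, 0, 0, [(109, 0), (159, 0), (211, 0)]⟩, ⟨1, 14, 0, 0, [(98, 0), (124, 0), (299, 0)]⟩, ⟨1, 15, 0, 0, [(153, 0), (213, 0), (237, 0)]⟩, ⟨1, 16, 0, 0, [(39, 0), (91, 0), (118, 0)]⟩, ⟨1, 17, 0, 0, [(31, 0), (43, 0), (217, 0)]⟩, ⟨1, 18, 0, 0, [(191, 0), (220, 0), (259, 0)]⟩, ⟨1, 19, 0, 0, [(5, 0), (27, 0), (250, 0)]⟩, ⟨1, 21, 0, 0, [(154, 0), (212, 0), (272, 0)]⟩, ⟨1, 22, 0, 0, [(15, 0), (106,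 0), (266, 0)]⟩, ⟨1, 24, 0, 0, [(3, 0), (148, 0), (149, 0)]⟩, ⟨1, 25, 0, 0, [(234, 0), (268, 0), (307, 0)]⟩, ⟨1, 26, 0, 0, [(155, 0), (213, 0), (275, 0)]⟩, ⟨1, 27, 0, 0, [(14, 0), (23, 0), (182, 0)]⟩, ⟨1, 29, 0, 0, [(157, 0), (269, 0), (292, 0)]⟩, ⟨1, 30, 0, 0, [(88, 0), (94, 0), (232, 0)]⟩, ⟨1, 31, 0, 0, [(5, 0), (86, 0), (119, 0)]⟩, ⟨1, 33, 0, 0, [(95, 0), (145, 0), (231, 0)]⟩, ⟨1, 34, 0, 0, [(62, 0), (115, 0), (199, 0)]⟩, ⟨1, 36, 0, 0, [(1, 0), (86, 0), (178, 0)]⟩, ⟨1, 38, 0, 0, [(169, 0), (230, 0), (276, 0)]⟩, ⟨1, 40, 0, 0, [(90, 0), (104, 0), (110, 0)]⟩, ⟨1, 41, 0, 0, [(19, 0), (84, 0), (301, 0)]⟩, ⟨1, 42, 0, 0, [(225, 0), (234, 0), (278, 0)]⟩, ⟨1, 43, 0, 0, [(8, 0), (201, 0), (203, 0)]⟩, ⟨1, 44, 0, 0, [(141, 0), (154, 0), (308, 0)]⟩, ⟨1, 45, 0, 0, [(100, 0), (284, 0), (303, 0)]⟩, ⟨1, 46, 0, 0, [(24, 0), (48, 0), (149, 0)]⟩, ⟨1, 49, 0, 0, [(99, 0), (176, 0), (263, 0)]⟩, ⟨1, 55, 0, 0, [(20, 0), (80, 0),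 (123, 0)]⟩, ⟨1, 56, 0, 0, [(13, 0), (27, 0), (178, 0)]⟩, ⟨1, 57, 0, 0, [(58, 0), (68, 0), (147, 0)]⟩, ⟨1, 58, 0, 0, [(34, 0), (248, 0), (302, 0)]⟩, ⟨1, 60, 0, 0, [(22, 0), (51, 0), (251, 0)]⟩, ⟨1, 62, 0, 0, [(65, 0), (76, 0), (128, 0)]⟩, ⟨1, 67, 0, 0, [(175, 0), (262, 0), (270, 0)]⟩, ⟨1, 68, 0, 0, [(63, 0), (198, 0), (220, 0)]⟩, ⟨1, 69, 0, 0, [(205, 0), (237, 0), (313, 0)]⟩, ⟨1, 71, 0, 0, [(89, 0), (96, 0), (111, 0)]⟩, ⟨1, 72, 0, 0, [(45, 0), (82, 0), (261, 0)]⟩, ⟨1, 74, 0, 0, [(97, 0), (143, 0), (240, 0)]⟩, ⟨1, 78, 0, 0, [(229, 0), (269, 0), (290, 0)]⟩, ⟨1, 79, 0, 0, [(22, 0), (82, 0), (181, 0)]⟩, ⟨1, 81, 0, 0, [(26, 0), (39, 0), (255, 0)]⟩, ⟨1, 83, 0, 0, [(159, 0), (188, 0), (312, 0)]⟩, ⟨1, 84, 0, 0, [(78, 0), (131, 0), (301, 0)]⟩, ⟨1, 85, 0, 0, [(157, 0), (209, 0), (291, 0)]⟩, ⟨1, 87, 0, 0, [(43, 0), (67, 0), (80, 0)]⟩, ⟨1, 91, 0, 0, [(12, 0), (28, 0), (180, 0)]⟩, ⟨1, 92, 0, 0, [(71, 0), (194, 0), (297,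 0)]⟩, ⟨1, 94, 0, 0, [(8, 0), (216, 0), (218, 0)]⟩, ⟨1, 95, 0, 0, [(42, 0), (85, 0), (118, 0)]⟩, ⟨1, 101, 0, 0, [(33, 0), (69, 0), (98, 0), (132, 0), (144, 0), (299, 0)]⟩, ⟨1, 102, 0, 0, [(126, 0), (132, 0), (149, 0), (183, 0), (187, 0), (222, 0)]⟩, ⟨1, 103, 0, 0, [(13, 0), (18, 0), (144, 0), (153, 0), (246, 0), (293, 0)]⟩, ⟨1, 105, 0, 0, [(141, 0), (152, 0), (154, 0), (212, 0), (236, 0), (308, 0)]⟩, ⟨1, 106, 0, 0, [(7, 0), (64, 0), (72, 0), (142, 0), (151, 0), (167, 0)]⟩, ⟨1, 107, 0, 0, [(110, 0), (133, 0), (180, 0), (190, 0), (195, 0), (217, 0)]⟩, ⟨1, 109, 0, 0, [(11, 0), (14, 0), (244, 0), (281, 0), (285, 0), (302, 0)]⟩, ⟨1, 110, 0, 0, [(125, 0), (148, 0), (182, 0), (221, 0), (256, 0), (281, 0)]⟩, ⟨1, 115, 0, 0, [(27, 0), (65, 0), (163, 0), (177, 0), (272, 0), (273, 0)]⟩, ⟨1, 116, 0, 0, [(114, 0), (191, 0), (223, 0), (259, 0), (304, 0), (314, 0)]⟩, ⟨1, 117, 0, 0, [(52, 0), (70, 0), (104, 0), (265, 0), (289,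 0), (293, 0)]⟩, ⟨1, 118, 0, 0, [(1, 0), (35, 0), (113, 0), (140, 0), (227, 0), (236, 0)]⟩, ⟨1, 119, 0, 0, [(46, 0), (57, 0), (138, 0), (173, 0), (238, 0), (294, 0)]⟩, ⟨1, 122, 0, 0, [(23, 0), (29, 0), (148, 0), (158, 0), (244, 0), (263, 0)]⟩, ⟨1, 123, 0, 0, [(209, 0), (226, 0), (229, 0), (279, 0), (290, 0), (291, 0)]⟩, ⟨1, 124, 0, 0, [(107, 0), (130, 0), (252, 0), (253, 0), (274, 0), (275, 0)]⟩, ⟨1, 125, 0, 0, [(20, 0), (31, 0), (43, 0), (67, 0), (80, 0), (202, 0)]⟩, ⟨1, 127, 0, 0, [(16, 0), (18, 0), (21, 0), (163, 0), (204, 0), (280, 0)]⟩, ⟨1, 128, 0, 0, [(126, 0), (149, 0), (215, 0), (228, 0), (300, 0), (310, 0)]⟩, ⟨1, 129, 0, 0, [(17, 0), (26, 0), (42, 0), (85, 0), (253, 0), (255, 0)]⟩, ⟨1, 130, 0, 0, [(50, 0), (77, 0), (97, 0), (99, 0), (106, 0), (141, 0)]⟩, ⟨1, 132, 0, 0, [(106, 0), (111, 0), (118, 0), (122, 0), (134, 0), (145, 0)]⟩, ⟨1, 133, 0, 0, [(54, 0), (59, 0), (66, 0), (81, 0), (270, 0), (271, 0)]⟩,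 ⟨1, 134, 0, 0, [(28, 0), (68, 0), (161, 0), (164, 0), (209, 0), (220, 0)]⟩, ⟨1, 136, 0, 0, [(15, 0), (39, 0), (99, 0), (102, 0), (143, 0), (152, 0)]⟩, ⟨1, 137, 0, 0, [(24, 0), (33, 0), (129, 0), (211, 0), (222, 0), (296, 0)]⟩, ⟨1, 139, 0, 0, [(41, 0), (52, 0), (73, 0), (156, 0), (262, 0), (278, 0)]⟩, ⟨1, 140, 0, 0, [(4, 0), (25, 0), (50, 0), (120, 0), (150, 0), (249, 0)]⟩, ⟨1, 141, 0, 0, [(119, 0), (121, 0), (144, 0), (151, 0), (258, 0), (282, 0)]⟩, ⟨1, 142, 0, 0, [(5, 0), (64, 0), (146, 0), (155, 0), (190, 0), (230, 0)]⟩, ⟨1, 144, 0, 0, [(70, 0), (74, 0), (76, 0), (84, 0), (90, 0), (93, 0)]⟩, ⟨1, 145, 0, 0, [(37, 0), (57, 0), (75, 0), (129, 0), (187, 0), (239, 0)]⟩, ⟨1, 146, 0, 0, [(16, 0), (18, 0), (78, 0), (98, 0), (142, 0), (151, 0)]⟩, ⟨1, 147, 0, 0, [(0, 0), (17, 0), (70, 0), (289, 0), (292, 0), (297, 0)]⟩, ⟨1, 148, 0, 0, [(24, 0), (30, 0), (121, 0), (153, 0), (198, 0), (295, 0)]⟩, ⟨1, 149, 0, 0, [(64,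 0), (112, 0), (115, 0), (174, 0), (189, 0), (199, 0)]⟩, ⟨1, 154, 0, 0, [(174, 0), (181, 0), (200, 0), (209, 0), (218, 0), (231, 0)]⟩, ⟨1, 155, 0, 0, [(6, 0), (9, 0), (189, 0), (191, 0), (229, 0), (231, 0)]⟩, ⟨1, 157, 0, 0, [(53, 0), (71, 0), (96, 0), (106, 0), (141, 0), (166, 0)]⟩, ⟨1, 158, 0, 0, [(72, 0), (113, 0), (127, 0), (135, 0), (190, 0), (197, 0)]⟩, ⟨1, 161, 0, 0, [(0, 0), (6, 0), (107, 0), (116, 0), (168, 0), (215, 0)]⟩, ⟨1, 163, 0, 0, [(61, 0), (89, 0), (96, 0), (146, 0), (170, 0), (254, 0)]⟩, ⟨1, 165, 0, 0, [(31, 0), (34, 0), (39, 0), (99, 0), (267, 0), (291, 0)]⟩, ⟨1, 167, 0, 0, [(85, 0), (166, 0), (168, 0), (193, 0), (292, 0), (301, 0)]⟩, ⟨1, 168, 0, 0, [(4, 0), (63, 0), (82, 0), (124, 0), (157, 0), (161, 0)]⟩, ⟨1, 169, 0, 0, [(9, 0), (45, 0), (51, 0), (219, 0), (251, 0), (261, 0)]⟩, ⟨1, 171, 0, 0, [(6, 0), (9, 0), (175, 0), (177, 0), (242, 0), (273, 0)]⟩, ⟨1, 172, 0, 0, [(73, 0), (127, 0), (150,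 0), (156, 0), (212, 0), (223, 0)]⟩, ⟨1, 173, 0, 0, [(119, 0), (142, 0), (170, 0), (190, 0), (196, 0), (217, 0)]⟩, ⟨1, 174, 0, 0, [(176, 0), (189, 0), (202, 0), (216, 0), (250, 0), (268, 0)]⟩, ⟨1, 175, 0, 0, [(47, 0), (58, 0), (68, 0), (73, 0), (108, 0), (147, 0)]⟩, ⟨1, 178, 0, 0, [(40, 0), (77, 0), (102, 0), (130, 0), (177, 0), (264, 0)]⟩, ⟨1, 179, 0, 0, [(103, 0), (128, 0), (184, 0), (212, 0), (218, 0), (231, 0)]⟩, ⟨1, 180, 0, 0, [(30, 0), (33, 0), (37, 0), (126, 0), (159, 0), (208, 0)]⟩, ⟨1, 181, 0, 0, [(114, 0), (121, 0), (137, 0), (144, 0), (185, 0), (224, 0)]⟩, ⟨1, 182, 0, 0, [(74, 0), (88, 0), (170, 0), (196, 0), (239, 0), (251, 0)]⟩, ⟨1, 183, 0, 0, [(26, 0), (66, 0), (146, 0), (155, 0), (162, 0), (270, 0)]⟩, ⟨1, 185, 0, 0, [(115, 0), (138, 0), (179, 0), (197, 0), (205, 0), (314, 0)]⟩, ⟨1, 186, 0, 0, [(39, 0), (50, 0), (240, 0), (264, 0), (266, 0), (286, 0)]⟩, ⟨1, 187, 0, 0, [(74, 0), (75, 0), (89, 0),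 (93, 0), (192, 0), (219, 0)]⟩, ⟨1, 189, 0, 0, [(76, 0), (90, 0), (122, 0), (154, 0), (191, 0), (218, 0)]⟩, ⟨1, 190, 0, 0, [(13, 0), (16, 0), (69, 0), (282, 0), (287, 0), (288, 0)]⟩, ⟨1, 191, 0, 0, [(23, 0), (90, 0), (95, 0), (165, 0), (246, 0), (293, 0)]⟩, ⟨1, 193, 0, 0, [(123, 0), (146, 0), (185, 0), (224, 0), (253, 0), (257, 0)]⟩, ⟨1, 194, 0, 0, [(56, 0), (61, 0), (68, 0), (161, 0), (241, 0), (303, 0)]⟩, ⟨1, 195, 0, 0, [(2, 0), (3, 0), (300, 0), (305, 0), (311, 0), (312, 0)]⟩, ⟨1, 198, 0, 0, [(14, 0), (60, 0), (78, 0), (125, 0), (145, 0), (151, 0), (182, 0), (184, 0), (231, 0), (282, 0), (288, 0), (302, 0)]⟩, ⟨1, 199, 0, 0, [(17, 0), (43, 0), (85, 0), (101, 0), (150, 0), (180, 0), (207, 0), (217, 0), (221, 0), (226, 0), (256, 0), (292, 0)]⟩, ⟨1, 201, 0, 0, [(19, 0), (54, 0), (56, 0), (60, 0), (68, 0), (97, 0), (117, 0), (182, 0), (206, 0), (222, 0), (271, 0), (282, 0)]⟩, ⟨1, 203, 0, 0, [(49, 0), (79, 0),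 (111, 0), (120, 0), (138, 0), (149, 0), (170, 0), (180, 0), (201, 0), (216, 0), (246, 0), (249, 0), (252, 0), (254, 0), (301, 0)]⟩, ⟨1, 204, 0, 0, [(16, 0), (26, 0), (32, 0), (38, 0), (59, 0), (64, 0), (68, 0), (73, 0), (76, 0), (85, 0), (91, 0), (115, 0), (159, 0), (192, 0), (235, 0)]⟩, ⟨1, 207, 0, 0, [(13, 0), (23, 0), (42, 0), (56, 0), (86, 0), (91, 0), (186, 0), (211, 0), (220, 0), (235, 0), (250, 0), (255, 0), (304, 0), (312, 0), (314, 0)]⟩, ⟨1, 208, 0, 0, [(7, 0), (19, 0), (20, 0), (41, 0), (43, 0), (57, 0), (78, 0), (106, 0), (187, 0), (198, 0), (210, 0), (223, 0), (228, 0), (259, 0), (280, 0)]⟩, ⟨1, 209, 0, 0, [(28, 0), (50, 0), (95, 0), (150, 0), (153, 0), (166, 0), (232, 0), (241, 0), (275, 0), (278, 0), (285, 0), (294, 0), (305, 0), (307, 0), (313, 0)]⟩, ⟨1, 211, 0, 0, [(21, 0), (70, 0), (89, 0), (98, 0), (132, 0), (167, 0), (171, 0), (172, 0), (201, 0), (218, 0), (240, 0), (254, 0), (274, 0), (300,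 0), (302, 0)]⟩, ⟨1, 212, 0, 0, [(0, 0), (7, 0), (20, 0), (43, 0), (46, 0), (52, 0), (98, 0), (132, 0), (141, 0), (172, 0), (182, 0), (200, 0), (204, 0), (212, 0), (215, 0)]⟩, ⟨1, 213, 0, 0, [(60, 0), (62, 0), (102, 0), (104, 0), (112, 0), (160, 0), (177, 0), (189, 0), (221, 0), (224, 0), (258, 0), (267, 0), (296, 0), (297, 0), (311, 0)]⟩, ⟨1, 216, 0, 0, [(6, 0), (25, 0), (28, 0), (29, 0), (61, 0), (65, 0), (111, 0), (120, 0), (121, 0), (146, 0), (168, 0), (179, 0), (225, 0), (271, 0), (307, 0)]⟩, ⟨1, 218, 0, 0, [(1, 0), (4, 0), (5, 0), (10, 0), (12, 0), (13, 0), (23, 0), (25, 0), (46, 0), (66, 0), (103, 0), (105, 0), (107, 0), (168, 0), (200, 0)]⟩, ⟨1, 219, 0, 0, [(1, 0), (5, 0), (13, 0), (59, 0), (95, 0), (97, 0), (156, 0), (159, 0), (161, 0), (162, 0), (166, 0), (207, 0), (232, 0), (235, 0), (238, 0)]⟩, ⟨1, 220, 0, 0, [(38, 0), (65, 0), (111, 0), (143, 0), (159, 0), (170, 0), (195, 0), (229, 0), (238, 0),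 (242, 0), (254, 0), (265, 0), (274, 0), (291, 0), (292, 0)]⟩, ⟨1, 226, 0, 0, [(71, 0), (81, 0), (93, 0), (97, 0), (162, 0), (171, 0), (203, 0), (214, 0), (218, 0), (221, 0), (230, 0), (288, 0), (295, 0), (309, 0), (311, 0)]⟩, ⟨1, 227, 0, 0, [(4, 0), (10, 0), (14, 0), (21, 0), (35, 0), (50, 0), (71, 0), (74, 0), (126, 0), (142, 0), (180, 0), (201, 0), (218, 0), (237, 0), (275, 0)]⟩, ⟨1, 228, 0, 0, [(26, 0), (85, 0), (91, 0), (93, 0), (191, 0), (198, 0), (210, 0), (225, 0), (230, 0), (271, 0), (273, 0), (288, 0), (305, 0), (307, 0), (314, 0)]⟩, ⟨1, 230, 0, 0, [(2, 0), (30, 0), (47, 0), (66, 0), (93, 0), (101, 0), (107, 0), (116, 0), (122, 0), (136, 0), (147, 0), (176, 0), (230, 0), (245, 0), (288, 0)]⟩, ⟨1, 231, 0, 0, [(30, 0), (53, 0), (55, 0), (97, 0), (156, 0), (157, 0), (158, 0), (227, 0), (229, 0), (238, 0), (273, 0), (276, 0), (279, 0), (288, 0), (306, 0)]⟩, ⟨1, 232, 0, 0, [(11, 0), (40, 0), (54, 0), (61,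 0), (104, 0), (111, 0), (137, 0), (146, 0), (149, 0), (184, 0), (209, 0), (258, 0), (264, 0), (290, 0), (292, 0)]⟩, ⟨1, 233, 0, 0, [(3, 0), (9, 0), (11, 0), (17, 0), (22, 0), (24, 0), (27, 0), (39, 0), (42, 0), (45, 0), (60, 0), (86, 0), (92, 0), (104, 0), (160, 0)]⟩, ⟨1, 235, 0, 0, [(49, 0), (138, 0), (149, 0), (152, 0), (169, 0), (175, 0), (229, 0), (272, 0), (283, 0), (284, 0), (291, 0), (292, 0), (293, 0), (306, 0), (308, 0)]⟩, ⟨1, 236, 0, 0, [(31, 0), (48, 0), (58, 0), (67, 0), (94, 0), (102, 0), (108, 0), (117, 0), (123, 0), (137, 0), (148, 0), (177, 0), (231, 0), (258, 0), (289, 0)]⟩, ⟨1, 239, 0, 0, [(7, 0), (31, 0), (33, 0), (80, 0), (98, 0), (143, 0), (145, 0), (158, 0), (164, 0), (232, 0), (238, 0), (241, 0), (274, 0), (280, 0), (289, 0)]⟩, ⟨1, 240, 0, 0, [(176, 0), (220, 0), (230, 0), (247, 0), (256, 0), (260, 0), (270, 0), (283, 0), (293, 0), (296, 0), (297, 0), (303, 0), (304, 0), (311, 0), (314,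 0)]⟩, ⟨1, 242, 0, 0, [(93, 0), (116, 0), (151, 0), (152, 0), (154, 0), (169, 0), (179, 0), (204, 0), (215, 0), (221, 0), (222, 0), (224, 0), (225, 0), (267, 0), (268, 0)]⟩, ⟨1, 244, 0, 0, [(9, 0), (22, 0), (29, 0), (31, 0), (45, 0), (65, 0), (67, 0), (121, 0), (123, 0), (134, 0), (143, 0), (194, 0), (206, 0), (214, 0), (309, 0)]⟩, ⟨1, 245, 0, 0, [(14, 0), (52, 0), (56, 0), (59, 0), (155, 0), (159, 0), (209, 0), (212, 0), (235, 0), (237, 0), (286, 0), (287, 0), (290, 0), (292, 0), (308, 0)]⟩, ⟨1, 246, 0, 0, [(1, 0), (10, 0), (14, 0), (27, 0), (39, 0), (63, 0), (74, 0), (85, 0), (114, 0), (119, 0), (159, 0), (191, 0), (195, 0), (242, 0), (253, 0)]⟩, ⟨1, 247, 0, 0, [(1, 0), (9, 0), (27, 0), (55, 0), (82, 0), (105, 0), (119, 0), (133, 0), (156, 0), (185, 0), (193, 0), (206, 0), (240, 0), (251, 0), (302, 0)]⟩, ⟨1, 248, 0, 0, [(10, 0), (23, 0), (46, 0), (109, 0), (141, 0), (153, 0), (157, 0), (229, 0), (236, 0),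 (242, 0), (272, 0), (275, 0), (279, 0), (312, 0), (313, 0)]⟩, ⟨1, 249, 0, 0, [(114, 0), (118, 0), (151, 0), (158, 0), (208, 0), (220, 0), (223, 0), (241, 0), (253, 0), (255, 0), (260, 0), (268, 0), (276, 0), (278, 0), (280, 0)]⟩, ⟨1, 250, 0, 0, [(0, 0), (5, 0), (54, 0), (57, 0), (92, 0), (104, 0), (106, 0), (162, 0), (178, 0), (184, 0), (187, 0), (200, 0), (215, 0), (221, 0), (295, 0)]⟩, ⟨1, 252, 0, 0, [(11, 0), (21, 0), (32, 0), (39, 0), (47, 0), (58, 0), (85, 0), (93, 0), (137, 0), (149, 0), (151, 0), (169, 0), (201, 0), (218, 0), (253, 0)]⟩, ⟨1, 253, 0, 0, [(29, 0), (57, 0), (65, 0), (100, 0), (106, 0), (113, 0), (121, 0), (135, 0), (157, 0), (175, 0), (187, 0), (229, 0), (257, 0), (279, 0), (310, 0)]⟩, ⟨1, 254, 0, 0, [(74, 0), (116, 0), (119, 0), (120, 0), (122, 0), (178, 0), (179, 0), (180, 0), (182, 0), (183, 0), (185, 0), (186, 0), (215, 0), (249, 0), (250, 0)]⟩, ⟨1, 255, 0, 0, [(19, 0), (63, 0), (96,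 0), (99, 0), (131, 0), (140, 0), (170, 0), (173, 0), (188, 0), (195, 0), (211, 0), (246, 0), (256, 0), (259, 0), (304, 0)]⟩, ⟨1, 256, 0, 0, [(47, 0), (57, 0), (79, 0), (106, 0), (136, 0), (147, 0), (153, 0), (165, 0), (187, 0), (201, 0), (216, 0), (248, 0), (275, 0), (300, 0), (313, 0)]⟩]⟩, ⟨[(229, 48), (81, 14), (224, 42), (9, 38), (204, 23), (49, 39), (225, 15)], [⟨1, 6, 0, 0, [(273, 0), (280, 0), (285, 0)]⟩, ⟨1, 7, 0, 0, [(204, 0), (272, 0), (286, 0)]⟩, ⟨1, 9, 0, 0, [(204, 0), (236, 0), (308, 0)]⟩, ⟨1, 12, 0, 0, [(18, 0), (177, 0), (264, 0)]⟩, ⟨1, 15, 0, 0, [(153, 0), (213, 0), (237, 0)]⟩, ⟨1, 19, 0, 0, [(5, 0), (27, 0), (250, 0)]⟩, ⟨1, 22, 0, 0, [(15, 0), (106, 0), (266, 0)]⟩, ⟨1, 23, 0, 0, [(15, 0), (187, 0), (239, 0)]⟩, ⟨1, 25, 0, 0, [(234, 0), (268, 0), (307, 0)]⟩, ⟨1, 26, 0, 0, [(155, 0), (213, 0), (275, 0)]⟩, ⟨1, 27, 0, 0, [(14, 0), (23, 0), (182, 0)]⟩, ⟨1, 29, 0, 0, [(157, 0), (269, 0), (292, 0)]⟩,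 ⟨1, 30, 0, 0, [(88, 0), (94, 0), (232, 0)]⟩, ⟨1, 32, 0, 0, [(158, 0), (210, 0), (285, 0)]⟩, ⟨1, 35, 0, 0, [(125, 0), (165, 0), (302, 0)]⟩, ⟨1, 36, 0, 0, [(1, 0), (86, 0), (178, 0)]⟩, ⟨1, 39, 0, 0, [(55, 0), (66, 0), (183, 0)]⟩, ⟨1, 40, 0, 0, [(90, 0), (104, 0), (110, 0)]⟩, ⟨1, 41, 0, 0, [(19, 0), (84, 0), (301, 0)]⟩, ⟨1, 42, 0, 0, [(225, 0), (234, 0), (278, 0)]⟩, ⟨1, 43, 0, 0, [(8, 0), (201, 0), (203, 0)]⟩, ⟨1, 44, 0, 0, [(141, 0), (154, 0), (308, 0)]⟩, ⟨1, 47, 0, 0, [(62, 0), (192, 0), (196, 0)]⟩, ⟨1, 48, 0, 0, [(222, 0), (271, 0), (278, 0)]⟩, ⟨1, 49, 0, 0, [(99, 0), (176, 0), (263, 0)]⟩, ⟨1, 51, 0, 0, [(87, 0), (160, 0), (184, 0)]⟩, ⟨1, 52, 0, 0, [(10, 0), (56, 0), (182, 0)]⟩, ⟨1, 53, 0, 0, [(30, 0), (105, 0), (183, 0)]⟩, ⟨1, 54, 0, 0, [(30, 0), (103, 0), (185, 0)]⟩, ⟨1, 56, 0, 0, [(13, 0), (27, 0), (178, 0)]⟩, ⟨1, 57, 0, 0, [(58, 0), (68, 0), (147, 0)]⟩, ⟨1, 58, 0, 0, [(34, 0), (248, 0), (302, 0)]⟩, ⟨1,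 59, 0, 0, [(33, 0), (144, 0), (172, 0)]⟩, ⟨1, 60, 0, 0, [(22, 0), (51, 0), (251, 0)]⟩, ⟨1, 63, 0, 0, [(16, 0), (121, 0), (265, 0)]⟩, ⟨1, 64, 0, 0, [(126, 0), (194, 0), (311, 0)]⟩, ⟨1, 65, 0, 0, [(96, 0), (146, 0), (254, 0)]⟩, ⟨1, 69, 0, 0, [(205, 0), (237, 0), (313, 0)]⟩, ⟨1, 70, 0, 0, [(72, 0), (135, 0), (190, 0)]⟩, ⟨1, 71, 0, 0, [(89, 0), (96, 0), (111, 0)]⟩, ⟨1, 73, 0, 0, [(18, 0), (83, 0), (258, 0)]⟩, ⟨1, 74, 0, 0, [(97, 0), (143, 0), (240, 0)]⟩, ⟨1, 75, 0, 0, [(93, 0), (260, 0), (306, 0)]⟩, ⟨1, 76, 0, 0, [(41, 0), (84, 0), (246, 0)]⟩, ⟨1, 80, 0, 0, [(32, 0), (117, 0), (136, 0)]⟩, ⟨1, 81, 0, 0, [(26, 0), (39, 0), (255, 0)]⟩, ⟨1, 82, 0, 0, [(101, 0), (256, 0), (263, 0)]⟩, ⟨1, 83, 0, 0, [(159, 0), (188, 0), (312, 0)]⟩, ⟨1, 84, 0, 0, [(78, 0), (131, 0), (301, 0)]⟩, ⟨1, 85, 0, 0, [(157, 0), (209, 0), (291, 0)]⟩, ⟨1, 86, 0, 0, [(151, 0), (230, 0), (306, 0)]⟩, ⟨1, 88, 0, 0, [(53, 0), (105, 0), (122, 0)]⟩, ⟨1,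 94, 0, 0, [(8, 0), (216, 0), (218, 0)]⟩, ⟨1, 95, 0, 0, [(42, 0), (85, 0), (118, 0)]⟩, ⟨1, 96, 0, 0, [(16, 0), (65, 0), (281, 0)]⟩, ⟨1, 97, 0, 0, [(101, 0), (173, 0), (247, 0)]⟩, ⟨1, 98, 0, 0, [(87, 0), (104, 0), (243, 0)]⟩, ⟨1, 99, 0, 0, [(2, 0), (179, 0), (200, 0)]⟩, ⟨1, 100, 0, 0, [(64, 0), (189, 0), (199, 0)]⟩, ⟨1, 101, 0, 0, [(33, 0), (69, 0), (98, 0), (132, 0), (144, 0), (299, 0)]⟩, ⟨1, 103, 0, 0, [(13, 0), (18, 0), (144, 0), (153, 0), (246, 0), (293, 0)]⟩, ⟨1, 105, 0, 0, [(141, 0), (152, 0), (154, 0), (212, 0), (236, 0), (308, 0)]⟩, ⟨1, 108, 0, 0, [(94, 0), (139, 0), (145, 0), (166, 0), (231, 0), (232, 0)]⟩, ⟨1, 110, 0, 0, [(125, 0), (148, 0), (182, 0), (221, 0), (256, 0), (281, 0)]⟩, ⟨1, 113, 0, 0, [(151, 0), (169, 0), (230, 0), (276, 0), (288, 0), (293, 0)]⟩, ⟨1, 114, 0, 0, [(65, 0), (79, 0), (178, 0), (245, 0), (264, 0), (280, 0)]⟩, ⟨1, 115, 0, 0, [(27, 0), (65, 0), (163, 0), (177, 0), (272, 0), (273,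 0)]⟩, ⟨1, 116, 0, 0, [(114, 0), (191, 0), (223, 0), (259, 0), (304, 0), (314, 0)]⟩, ⟨1, 117, 0, 0, [(52, 0), (70, 0), (104, 0), (265, 0), (289, 0), (293, 0)]⟩, ⟨1, 119, 0, 0, [(46, 0), (57, 0), (138, 0), (173, 0), (238, 0), (294, 0)]⟩, ⟨1, 120, 0, 0, [(21, 0), (44, 0), (79, 0), (81, 0), (201, 0), (203, 0)]⟩, ⟨1, 123, 0, 0, [(209, 0), (226, 0), (229, 0), (279, 0), (290, 0), (291, 0)]⟩, ⟨1, 124, 0, 0, [(107, 0), (130, 0), (252, 0), (253, 0), (274, 0), (275, 0)]⟩, ⟨1, 126, 0, 0, [(112, 0), (114, 0), (135, 0), (137, 0), (179, 0), (206, 0)]⟩, ⟨1, 127, 0, 0, [(16, 0), (18, 0), (21, 0), (163, 0), (204, 0), (280, 0)]⟩, ⟨1, 128, 0, 0, [(126, 0), (149, 0), (215, 0), (228, 0), (300, 0), (310, 0)]⟩, ⟨1, 129, 0, 0, [(17, 0), (26, 0), (42, 0), (85, 0), (253, 0), (255, 0)]⟩, ⟨1, 135, 0, 0, [(3, 0), (24, 0), (49, 0), (137, 0), (148, 0), (149, 0)]⟩, ⟨1, 137, 0, 0, [(24, 0), (33, 0), (129, 0), (211, 0), (222, 0), (296, 0)]⟩,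 ⟨1, 140, 0, 0, [(4, 0), (25, 0), (50, 0), (120, 0), (150, 0), (249, 0)]⟩, ⟨1, 143, 0, 0, [(54, 0), (60, 0), (87, 0), (160, 0), (184, 0), (243, 0)]⟩, ⟨1, 144, 0, 0, [(70, 0), (74, 0), (76, 0), (84, 0), (90, 0), (93, 0)]⟩, ⟨1, 145, 0, 0, [(37, 0), (57, 0), (75, 0), (129, 0), (187, 0), (239, 0)]⟩, ⟨1, 148, 0, 0, [(24, 0), (30, 0), (121, 0), (153, 0), (198, 0), (295, 0)]⟩, ⟨1, 149, 0, 0, [(64, 0), (112, 0), (115, 0), (174, 0), (189, 0), (199, 0)]⟩, ⟨1, 150, 0, 0, [(12, 0), (102, 0), (109, 0), (132, 0), (251, 0), (260, 0)]⟩, ⟨1, 152, 0, 0, [(78, 0), (92, 0), (147, 0), (157, 0), (307, 0), (309, 0)]⟩, ⟨1, 155, 0, 0, [(6, 0), (9, 0), (189, 0), (191, 0), (229, 0), (231, 0)]⟩, ⟨1, 157, 0, 0, [(53, 0), (71, 0), (96, 0), (106, 0), (141, 0), (166, 0)]⟩, ⟨1, 158, 0, 0, [(72, 0), (113, 0), (127, 0), (135, 0), (190, 0), (197, 0)]⟩, ⟨1, 160, 0, 0, [(124, 0), (147, 0), (181, 0), (220, 0), (249, 0), (267, 0)]⟩, ⟨1, 162, 0, 0,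 [(177, 0), (188, 0), (203, 0), (215, 0), (261, 0), (303, 0)]⟩, ⟨1, 166, 0, 0, [(25, 0), (34, 0), (54, 0), (59, 0), (190, 0), (230, 0)]⟩, ⟨1, 168, 0, 0, [(4, 0), (63, 0), (82, 0), (124, 0), (157, 0), (161, 0)]⟩, ⟨1, 169, 0, 0, [(9, 0), (45, 0), (51, 0), (219, 0), (251, 0), (261, 0)]⟩, ⟨1, 173, 0, 0, [(119, 0), (142, 0), (170, 0), (190, 0), (196, 0), (217, 0)]⟩, ⟨1, 175, 0, 0, [(47, 0), (58, 0), (68, 0), (73, 0), (108, 0), (147, 0)]⟩, ⟨1, 176, 0, 0, [(42, 0), (53, 0), (123, 0), (155, 0), (277, 0), (284, 0)]⟩, ⟨1, 181, 0, 0, [(114, 0), (121, 0), (137, 0), (144, 0), (185, 0), (224, 0)]⟩, ⟨1, 182, 0, 0, [(74, 0), (88, 0), (170, 0), (196, 0), (239, 0), (251, 0)]⟩, ⟨1, 183, 0, 0, [(26, 0), (66, 0), (146, 0), (155, 0), (162, 0), (270, 0)]⟩, ⟨1, 184, 0, 0, [(43, 0), (59, 0), (127, 0), (133, 0), (150, 0), (276, 0)]⟩, ⟨1, 185, 0, 0, [(115, 0), (138, 0), (179, 0), (197, 0), (205, 0), (314, 0)]⟩, ⟨1, 186, 0, 0, [(39, 0),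 (50, 0), (240, 0), (264, 0), (266, 0), (286, 0)]⟩, ⟨1, 188, 0, 0, [(45, 0), (47, 0), (61, 0), (100, 0), (210, 0), (221, 0)]⟩, ⟨1, 189, 0, 0, [(76, 0), (90, 0), (122, 0), (154, 0), (191, 0), (218, 0)]⟩, ⟨1, 190, 0, 0, [(13, 0), (16, 0), (69, 0), (282, 0), (287, 0), (288, 0)]⟩, ⟨1, 191, 0, 0, [(23, 0), (90, 0), (95, 0), (165, 0), (246, 0), (293, 0)]⟩, ⟨1, 193, 0, 0, [(123, 0), (146, 0), (185, 0), (224, 0), (253, 0), (257, 0)]⟩, ⟨1, 194, 0, 0, [(56, 0), (61, 0), (68, 0), (161, 0), (241, 0), (303, 0)]⟩, ⟨1, 195, 0, 0, [(2, 0), (3, 0), (300, 0), (305, 0), (311, 0), (312, 0)]⟩, ⟨1, 197, 0, 0, [(10, 0), (16, 0), (87, 0), (121, 0), (139, 0), (151, 0), (166, 0), (186, 0), (193, 0), (243, 0), (248, 0), (288, 0)]⟩, ⟨1, 199, 0, 0, [(17, 0), (43, 0), (85, 0), (101, 0), (150, 0), (180, 0), (207, 0), (217, 0), (221, 0), (226, 0), (256, 0), (292, 0)]⟩, ⟨1, 200, 0, 0, [(3, 0), (52, 0), (74, 0), (76, 0), (99, 0), (149, 0), (162,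 0), (176, 0), (228, 0), (265, 0), (267, 0), (305, 0)]⟩, ⟨1, 201, 0, 0, [(19, 0), (54, 0), (56, 0), (60, 0), (68, 0), (97, 0), (117, 0), (182, 0), (206, 0), (222, 0), (271, 0), (282, 0)]⟩, ⟨1, 205, 0, 0, [(39, 0), (85, 0), (90, 0), (112, 0), (144, 0), (160, 0), (164, 0), (192, 0), (199, 0), (241, 0), (243, 0), (253, 0), (285, 0), (299, 0), (305, 0)]⟩, ⟨1, 206, 0, 0, [(57, 0), (103, 0), (144, 0), (172, 0), (185, 0), (188, 0), (194, 0), (225, 0), (266, 0), (294, 0), (311, 0), (312, 0)]⟩, ⟨1, 210, 0, 0, [(37, 0), (106, 0), (110, 0), (142, 0), (158, 0), (184, 0), (209, 0), (237, 0), (239, 0), (241, 0), (243, 0), (269, 0), (275, 0), (279, 0), (280, 0)]⟩, ⟨1, 211, 0, 0, [(21, 0), (70, 0), (89, 0), (98, 0), (132, 0), (167, 0), (171, 0), (172, 0), (201, 0), (218, 0), (240, 0), (254, 0), (274, 0), (300, 0), (302, 0)]⟩, ⟨1, 212, 0, 0, [(0, 0), (7, 0), (20, 0), (43, 0), (46, 0), (52, 0), (98, 0), (132, 0), (141, 0), (172,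 0), (182, 0), (200, 0), (204, 0), (212, 0), (215, 0)]⟩, ⟨1, 213, 0, 0, [(60, 0), (62, 0), (102, 0), (104, 0), (112, 0), (160, 0), (177, 0), (189, 0), (221, 0), (224, 0), (258, 0), (267, 0), (296, 0), (297, 0), (311, 0)]⟩, ⟨1, 214, 0, 0, [(1, 0), (5, 0), (13, 0), (26, 0), (49, 0), (51, 0), (54, 0), (82, 0), (85, 0), (87, 0), (90, 0), (91, 0), (138, 0), (149, 0), (219, 0)]⟩, ⟨1, 215, 0, 0, [(2, 0), (12, 0), (16, 0), (38, 0), (76, 0), (89, 0), (107, 0), (116, 0), (150, 0), (167, 0), (208, 0), (249, 0), (254, 0), (268, 0), (278, 0)]⟩, ⟨1, 218, 0, 0, [(1, 0), (4, 0), (5, 0), (10, 0), (12, 0), (13, 0), (23, 0), (25, 0), (46, 0), (66, 0), (103, 0), (105, 0), (107, 0), (168, 0), (200, 0)]⟩, ⟨1, 219, 0, 0, [(1, 0), (5, 0), (13, 0), (59, 0), (95, 0), (97, 0), (156, 0), (159, 0), (161, 0), (162, 0), (166, 0), (207, 0), (232, 0), (235, 0), (238, 0)]⟩, ⟨1, 220, 0, 0, [(38, 0), (65, 0), (111, 0), (143, 0), (159, 0), (170,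 0), (195, 0), (229, 0), (238, 0), (242, 0), (254, 0), (265, 0), (274, 0), (291, 0), (292, 0)]⟩, ⟨1, 221, 0, 0, [(80, 0), (129, 0), (202, 0), (217, 0), (220, 0), (239, 0), (241, 0), (246, 0), (252, 0), (266, 0), (285, 0), (301, 0), (304, 0), (305, 0), (314, 0)]⟩, ⟨1, 222, 0, 0, [(4, 0), (12, 0), (25, 0), (48, 0), (81, 0), (84, 0), (89, 0), (131, 0), (137, 0), (140, 0), (146, 0), (148, 0), (203, 0), (218, 0), (282, 0)]⟩, ⟨1, 224, 0, 0, [(1, 0), (6, 0), (27, 0), (60, 0), (87, 0), (110, 0), (119, 0), (129, 0), (161, 0), (168, 0), (179, 0), (224, 0), (239, 0), (244, 0), (266, 0)]⟩, ⟨1, 226, 0, 0, [(71, 0), (81, 0), (93, 0), (97, 0), (162, 0), (171, 0), (203, 0), (214, 0), (218, 0), (221, 0), (230, 0), (288, 0), (295, 0), (309, 0), (311, 0)]⟩, ⟨1, 229, 0, 0, [(3, 0), (9, 0), (19, 0), (20, 0), (48, 0), (49, 0), (67, 0), (82, 0), (131, 0), (141, 0), (217, 0), (236, 0), (246, 0), (251, 0), (272, 0)]⟩, ⟨1, 230, 0, 0,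 [(2, 0), (30, 0), (47, 0), (66, 0), (93, 0), (101, 0), (107, 0), (116, 0), (122, 0), (136, 0), (147, 0), (176, 0), (230, 0), (245, 0), (288, 0)]⟩, ⟨1, 234, 0, 0, [(83, 0), (110, 0), (130, 0), (134, 0), (174, 0), (184, 0), (194, 0), (196, 0), (199, 0), (243, 0), (244, 0), (264, 0), (277, 0), (295, 0), (309, 0)]⟩, ⟨1, 237, 0, 0, [(24, 0), (42, 0), (44, 0), (73, 0), (91, 0), (117, 0), (138, 0), (147, 0), (148, 0), (203, 0), (216, 0), (255, 0), (276, 0), (288, 0), (306, 0)]⟩, ⟨1, 239, 0, 0, [(7, 0), (31, 0), (33, 0), (80, 0), (98, 0), (143, 0), (145, 0), (158, 0), (164, 0), (232, 0), (238, 0), (241, 0), (274, 0), (280, 0), (289, 0)]⟩, ⟨1, 240, 0, 0, [(176, 0), (220, 0), (230, 0), (247, 0), (256, 0), (260, 0), (270, 0), (283, 0), (293, 0), (296, 0), (297, 0), (303, 0), (304, 0), (311, 0), (314, 0)]⟩, ⟨1, 241, 0, 0, [(27, 0), (70, 0), (75, 0), (86, 0), (92, 0), (175, 0), (187, 0), (191, 0), (198, 0), (266, 0), (283,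 0), (284, 0), (300, 0), (302, 0), (314, 0)]⟩, ⟨1, 242, 0, 0, [(93, 0), (116, 0), (151, 0), (152, 0), (154, 0), (169, 0), (179, 0), (204, 0), (215, 0), (221, 0), (222, 0), (224, 0), (225, 0), (267, 0), (268, 0)]⟩, ⟨1, 243, 0, 0, [(0, 0), (53, 0), (58, 0), (99, 0), (103, 0), (108, 0), (117, 0), (169, 0), (173, 0), (183, 0), (200, 0), (215, 0), (256, 0), (293, 0), (306, 0)]⟩, ⟨1, 244, 0, 0, [(9, 0), (22, 0), (29, 0), (31, 0), (45, 0), (65, 0), (67, 0), (121, 0), (123, 0), (134, 0), (143, 0), (194, 0), (206, 0), (214, 0), (309, 0)]⟩, ⟨1, 245, 0, 0, [(14, 0), (52, 0), (56, 0), (59, 0), (155, 0), (159, 0), (209, 0), (212, 0), (235, 0), (237, 0), (286, 0), (287, 0), (290, 0), (292, 0), (308, 0)]⟩, ⟨1, 247, 0, 0, [(1, 0), (9, 0), (27, 0), (55, 0), (82, 0), (105, 0), (119, 0), (133, 0), (156, 0), (185, 0), (193, 0), (206, 0), (240, 0), (251, 0), (302, 0)]⟩, ⟨1, 248, 0, 0, [(10, 0), (23, 0), (46, 0), (109, 0), (141,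 0), (153, 0), (157, 0), (229, 0), (236, 0), (242, 0), (272, 0), (275, 0), (279, 0), (312, 0), (313, 0)]⟩, ⟨1, 249, 0, 0, [(114, 0), (118, 0), (151, 0), (158, 0), (208, 0), (220, 0), (223, 0), (241, 0), (253, 0), (255, 0), (260, 0), (268, 0), (276, 0), (278, 0), (280, 0)]⟩, ⟨1, 251, 0, 0, [(11, 0), (41, 0), (43, 0), (45, 0), (51, 0), (123, 0), (137, 0), (149, 0), (181, 0), (202, 0), (212, 0), (282, 0), (286, 0), (301, 0), (308, 0)]⟩, ⟨1, 252, 0, 0, [(11, 0), (21, 0), (32, 0), (39, 0), (47, 0), (58, 0), (85, 0), (93, 0), (137, 0), (149, 0), (151, 0), (169, 0), (201, 0), (218, 0), (253, 0)]⟩, ⟨1, 253, 0, 0, [(29, 0), (57, 0), (65, 0), (100, 0), (106, 0), (113, 0), (121, 0), (135, 0), (157, 0), (175, 0), (187, 0), (229, 0), (257, 0), (279, 0), (310, 0)]⟩, ⟨1, 254, 0, 0, [(74, 0), (116, 0), (119, 0), (120, 0), (122, 0), (178, 0), (179, 0), (180, 0), (182, 0), (183, 0), (185, 0), (186, 0), (215, 0), (249, 0), (250,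 0)]⟩, ⟨1, 255, 0, 0, [(19, 0), (63, 0), (96, 0), (99, 0), (131, 0), (140, 0), (170, 0), (173, 0), (188, 0), (195, 0), (211, 0), (246, 0), (256, 0), (259, 0), (304, 0)]⟩]⟩]

def lines0 : List Line := [l0, l1, l2, l3, l4, l5, l6, l7, l8, l9, l10, l11, l12, l13, l14, l15, l16, l17, l18, l19, l20, l21, l22, l23, l24, l25, l26, l27, l28, l29, l30, l31, l32, l33, l34, l35, l36, l37, l38, l39, l40, l41, l42, l43, l44, l45, l46, l47, l48, l49]

def lines1 : List Line := [l50, l51, l52, l53, l54, l55, l56, l57, l58, l59, l60, l61, l62, l63, l64, l65, l66, l67, l68, l69, l70, l71, l72, l73, l74, l75, l76, l77, l78, l79, l80, l81, l82, l83, l84, l85, l86, l87, l88, l89, l90, l91, l92, l93, l94, l95, l96, l97, l98, l99]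

def lines2 : List Line := [l100, l101, l102, l103, l104, l105, l106, l107, l108, l109, l110, l111, l112, l113, l114, l115, l116, l117, l118, l119, l120, l121, l122, l123, l124, l125, l126, l127, l128, l129, l130, l131, l132, l133, l134, l135, l136, l137, l138, l139, l140, l141, l142, l143, l144, l145, l146, l147, l148, l149]

def lines3 : List Line := [l150, l151, l152, l153, l154, l155, l156, l157, l158, l159, l160, l161, l162, l163, l164, l165, l166, l167, l168, l169, l170, l171, l172, l173, l174, l175, l176, l177, l178, l179, l180, l181, l182, l183, l184, l185, l186, l187, l188, l189, l190, l191, l192, l193, l194, l195, l196, l197, l198, l199]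

def lines4 : List Line := [l200, l201, l202, l203, l204, l205, l206, l207, l208, l209, l210, l211, l212, l213, l214, l215, l216, l217, l218, l219, l220, l221, l222, l223, l224, l225, l226, l227, l228, l229, l230, l231, l232, l233, l234, l235, l236, l237, l238, l239, l240, l241, l242, l243, l244, l245, l246, l247, l248, l249]

def lines5 : List Line := [l250, l251, l252, l253, l254, l255, l256, l257]

def final0 : List Item := [⟨1, 0, 0, 0, [(268, 0), (271, 0), (294, 0)]⟩, ⟨1, 1, 0, 0, [(114, 0), (198, 0), (304, 0)]⟩, ⟨1, 3, 0, 0, [(36, 0), (298, 0), (310, 0)]⟩, ⟨1, 5, 0, 0, [(171, 0), (206, 0), (238, 0)]⟩, ⟨1, 6, 0, 0, [(273, 0), (280, 0), (285, 0)]⟩, ⟨1, 8, 0, 0, [(100, 0), (262, 0), (283, 0)]⟩, ⟨1, 10, 0, 0, [(93, 0), (276, 0), (293, 0)]⟩, ⟨1, 11, 0, 0, [(25, 0), (50, 0), (249, 0)]⟩, ⟨1, 13, 0, 0, [(109, 0), (159, 0), (211, 0)]⟩, ⟨1, 14, 0, 0, [(98, 0), (124, 0), (299, 0)]⟩, ⟨1, 17, 0, 0, [(31, 0), (43,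 0), (217, 0)]⟩, ⟨1, 18, 0, 0, [(191, 0), (220, 0), (259, 0)]⟩, ⟨1, 19, 0, 0, [(5, 0), (27, 0), (250, 0)]⟩, ⟨1, 20, 0, 0, [(191, 0), (223, 0), (304, 0)]⟩, ⟨1, 21, 0, 0, [(154, 0), (212, 0), (272, 0)]⟩, ⟨1, 22, 0, 0, [(15, 0), (106, 0), (266, 0)]⟩, ⟨1, 23, 0, 0, [(15, 0), (187, 0), (239, 0)]⟩, ⟨1, 24, 0, 0, [(3, 0), (148, 0), (149, 0)]⟩, ⟨1, 25, 0, 0, [(234, 0), (268, 0), (307, 0)]⟩, ⟨1, 26, 0, 0, [(155, 0), (213, 0), (275, 0)]⟩, ⟨1, 28, 0, 0, [(111, 0), (140, 0), (167, 0)]⟩, ⟨1, 32, 0, 0, [(158, 0), (210, 0), (285, 0)]⟩, ⟨1, 33, 0, 0, [(95, 0), (145, 0), (231, 0)]⟩, ⟨1, 34, 0, 0, [(62, 0), (115, 0), (199, 0)]⟩, ⟨1, 35, 0, 0, [(125, 0), (165, 0), (302, 0)]⟩, ⟨1, 37, 0, 0, [(55, 0), (103, 0), (122, 0)]⟩, ⟨1, 39, 0, 0, [(55, 0), (66, 0), (183, 0)]⟩, ⟨1, 46, 0, 0, [(24, 0), (48, 0), (149, 0)]⟩, ⟨1, 47, 0, 0, [(62, 0), (192, 0), (196, 0)]⟩, ⟨1, 48, 0, 0, [(222, 0), (271, 0), (278, 0)]⟩, ⟨1, 49, 0, 0, [(99, 0), (176,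 0), (263, 0)]⟩, ⟨1, 50, 0, 0, [(227, 0), (280, 0), (305, 0)]⟩, ⟨1, 51, 0, 0, [(87, 0), (160, 0), (184, 0)]⟩, ⟨1, 53, 0, 0, [(30, 0), (105, 0), (183, 0)]⟩, ⟨1, 54, 0, 0, [(30, 0), (103, 0), (185, 0)]⟩, ⟨1, 55, 0, 0, [(20, 0), (80, 0), (123, 0)]⟩, ⟨1, 57, 0, 0, [(58, 0), (68, 0), (147, 0)]⟩, ⟨1, 61, 0, 0, [(124, 0), (164, 0), (172, 0)]⟩, ⟨1, 62, 0, 0, [(65, 0), (76, 0), (128, 0)]⟩, ⟨1, 65, 0, 0, [(96, 0), (146, 0), (254, 0)]⟩]

def final1 : List Item := [⟨1, 66, 0, 0, [(209, 0), (226, 0), (229, 0)]⟩, ⟨1, 68, 0, 0, [(63, 0), (198, 0), (220, 0)]⟩, ⟨1, 70, 0, 0, [(72, 0), (135, 0), (190, 0)]⟩, ⟨1, 71, 0, 0, [(89, 0), (96, 0), (111, 0)]⟩, ⟨1, 72, 0, 0, [(45, 0), (82, 0), (261, 0)]⟩, ⟨1, 74, 0, 0, [(97, 0), (143, 0), (240, 0)]⟩, ⟨1, 75, 0, 0, [(93, 0), (260, 0), (306, 0)]⟩, ⟨1, 77, 0, 0, [(11, 0), (48, 0), (138, 0)]⟩, ⟨1, 78, 0, 0, [(229, 0), (269, 0), (290, 0)]⟩, ⟨1, 79, 0, 0, [(22, 0), (82, 0), (181, 0)]⟩, ⟨1, 81,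 0, 0, [(26, 0), (39, 0), (255, 0)]⟩, ⟨1, 83, 0, 0, [(159, 0), (188, 0), (312, 0)]⟩, ⟨1, 84, 0, 0, [(78, 0), (131, 0), (301, 0)]⟩, ⟨1, 88, 0, 0, [(53, 0), (105, 0), (122, 0)]⟩, ⟨1, 89, 0, 0, [(208, 0), (225, 0), (294, 0)]⟩, ⟨1, 90, 0, 0, [(88, 0), (95, 0), (289, 0)]⟩, ⟨1, 91, 0, 0, [(12, 0), (28, 0), (180, 0)]⟩, ⟨1, 93, 0, 0, [(12, 0), (50, 0), (120, 0)]⟩, ⟨1, 95, 0, 0, [(42, 0), (85, 0), (118, 0)]⟩, ⟨1, 97, 0, 0, [(101, 0), (173, 0), (247, 0)]⟩, ⟨1, 99, 0, 0, [(2, 0), (179, 0), (200, 0)]⟩, ⟨1, 102, 0, 0, [(126, 0), (132, 0), (149, 0), (183, 0), (187, 0), (222, 0)]⟩, ⟨1, 103, 0, 0, [(13, 0), (18, 0), (144, 0), (153, 0), (246, 0), (293, 0)]⟩, ⟨1, 104, 0, 0, [(4, 0), (58, 0), (172, 0), (181, 0), (209, 0), (295, 0)]⟩, ⟨1, 105, 0, 0, [(141, 0), (152, 0), (154, 0), (212, 0), (236, 0), (308, 0)]⟩, ⟨1, 107, 0, 0, [(110, 0), (133, 0), (180, 0), (190, 0), (195, 0), (217, 0)]⟩, ⟨1, 108, 0, 0, [(94, 0), (139, 0), (145,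 0), (166, 0), (231, 0), (232, 0)]⟩, ⟨1, 111, 0, 0, [(70, 0), (125, 0), (133, 0), (165, 0), (193, 0), (300, 0)]⟩, ⟨1, 112, 0, 0, [(11, 0), (14, 0), (199, 0), (240, 0), (266, 0), (294, 0)]⟩, ⟨1, 113, 0, 0, [(151, 0), (169, 0), (230, 0), (276, 0), (288, 0), (293, 0)]⟩, ⟨1, 116, 0, 0, [(114, 0), (191, 0), (223, 0), (259, 0), (304, 0), (314, 0)]⟩, ⟨1, 118, 0, 0, [(1, 0), (35, 0), (113, 0), (140, 0), (227, 0), (236, 0)]⟩, ⟨1, 119, 0, 0, [(46, 0), (57, 0), (138, 0), (173, 0), (238, 0), (294, 0)]⟩, ⟨1, 121, 0, 0, [(24, 0), (33, 0), (128, 0), (213, 0), (224, 0), (304, 0)]⟩, ⟨1, 122, 0, 0, [(23, 0), (29, 0), (148, 0), (158, 0), (244, 0), (263, 0)]⟩, ⟨1, 123, 0, 0, [(209, 0), (226, 0), (229, 0), (279, 0), (290, 0), (291, 0)]⟩, ⟨1, 124, 0, 0, [(107, 0), (130, 0), (252, 0), (253, 0), (274, 0), (275, 0)]⟩, ⟨1, 126, 0, 0, [(112, 0), (114, 0), (135, 0), (137, 0), (179, 0), (206, 0)]⟩, ⟨1, 128, 0, 0, [(126, 0), (149, 0), (215,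 0), (228, 0), (300, 0), (310, 0)]⟩, ⟨1, 130, 0, 0, [(50, 0), (77, 0), (97, 0), (99, 0), (106, 0), (141, 0)]⟩]

def final2 : List Item := [⟨1, 131, 0, 0, [(32, 0), (35, 0), (72, 0), (167, 0), (204, 0), (280, 0)]⟩, ⟨1, 132, 0, 0, [(106, 0), (111, 0), (118, 0), (122, 0), (134, 0), (145, 0)]⟩, ⟨1, 134, 0, 0, [(28, 0), (68, 0), (161, 0), (164, 0), (209, 0), (220, 0)]⟩, ⟨1, 138, 0, 0, [(10, 0), (46, 0), (52, 0), (56, 0), (74, 0), (186, 0)]⟩, ⟨1, 139, 0, 0, [(41, 0), (52, 0), (73, 0), (156, 0), (262, 0), (278, 0)]⟩, ⟨1, 140, 0, 0, [(4, 0), (25, 0), (50, 0), (120, 0), (150, 0), (249, 0)]⟩, ⟨1, 141, 0, 0, [(119, 0), (121, 0), (144, 0), (151, 0), (258, 0), (282, 0)]⟩, ⟨1, 142, 0, 0, [(5, 0), (64, 0), (146, 0), (155, 0), (190, 0), (230, 0)]⟩, ⟨1, 143, 0, 0, [(54, 0), (60, 0), (87, 0), (160, 0), (184, 0), (243, 0)]⟩, ⟨1, 146, 0, 0, [(16, 0), (18, 0), (78, 0), (98, 0), (142, 0), (151, 0)]⟩, ⟨1, 151, 0, 0, [(92, 0), (98,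 0), (108, 0), (234, 0), (292, 0), (297, 0)]⟩, ⟨1, 152, 0, 0, [(78, 0), (92, 0), (147, 0), (157, 0), (307, 0), (309, 0)]⟩, ⟨1, 153, 0, 0, [(42, 0), (96, 0), (129, 0), (145, 0), (154, 0), (296, 0)]⟩, ⟨1, 154, 0, 0, [(174, 0), (181, 0), (200, 0), (209, 0), (218, 0), (231, 0)]⟩, ⟨1, 156, 0, 0, [(12, 0), (102, 0), (118, 0), (141, 0), (240, 0), (247, 0)]⟩, ⟨1, 159, 0, 0, [(20, 0), (50, 0), (99, 0), (162, 0), (248, 0), (279, 0)]⟩, ⟨1, 160, 0, 0, [(124, 0), (147, 0), (181, 0), (220, 0), (249, 0), (267, 0)]⟩, ⟨1, 161, 0, 0, [(0, 0), (6, 0), (107, 0), (116, 0), (168, 0), (215, 0)]⟩, ⟨1, 162, 0, 0, [(177, 0), (188, 0), (203, 0), (215, 0), (261, 0), (303, 0)]⟩, ⟨1, 164, 0, 0, [(86, 0), (112, 0), (167, 0), (217, 0), (230, 0), (313, 0)]⟩, ⟨1, 165, 0, 0, [(31, 0), (34, 0), (39, 0), (99, 0), (267, 0), (291, 0)]⟩, ⟨1, 168, 0, 0, [(4, 0), (63, 0), (82, 0), (124, 0), (157, 0), (161, 0)]⟩, ⟨1, 170, 0, 0, [(19, 0), (78, 0), (131,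 0), (252, 0), (282, 0), (301, 0)]⟩, ⟨1, 176, 0, 0, [(42, 0), (53, 0), (123, 0), (155, 0), (277, 0), (284, 0)]⟩, ⟨1, 177, 0, 0, [(42, 0), (53, 0), (75, 0), (94, 0), (134, 0), (308, 0)]⟩, ⟨1, 178, 0, 0, [(40, 0), (77, 0), (102, 0), (130, 0), (177, 0), (264, 0)]⟩, ⟨1, 180, 0, 0, [(30, 0), (33, 0), (37, 0), (126, 0), (159, 0), (208, 0)]⟩, ⟨1, 181, 0, 0, [(114, 0), (121, 0), (137, 0), (144, 0), (185, 0), (224, 0)]⟩, ⟨1, 182, 0, 0, [(74, 0), (88, 0), (170, 0), (196, 0), (239, 0), (251, 0)]⟩, ⟨1, 184, 0, 0, [(43, 0), (59, 0), (127, 0), (133, 0), (150, 0), (276, 0)]⟩, ⟨1, 187, 0, 0, [(74, 0), (75, 0), (89, 0), (93, 0), (192, 0), (219, 0)]⟩, ⟨1, 188, 0, 0, [(45, 0), (47, 0), (61, 0), (100, 0), (210, 0), (221, 0)]⟩, ⟨1, 189, 0, 0, [(76, 0), (90, 0), (122, 0), (154, 0), (191, 0), (218, 0)]⟩, ⟨1, 192, 0, 0, [(59, 0), (109, 0), (195, 0), (211, 0), (235, 0), (242, 0)]⟩, ⟨1, 195, 0, 0, [(2, 0), (3, 0), (300, 0), (305, 0),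 (311, 0), (312, 0)]⟩, ⟨1, 196, 0, 0, [(43, 0), (91, 0), (118, 0), (133, 0), (157, 0), (161, 0), (209, 0), (217, 0), (245, 0), (247, 0), (295, 0), (300, 0)]⟩, ⟨1, 197, 0, 0, [(10, 0), (16, 0), (87, 0), (121, 0), (139, 0), (151, 0), (166, 0), (186, 0), (193, 0), (243, 0), (248, 0), (288, 0)]⟩, ⟨1, 198, 0, 0, [(14, 0), (60, 0), (78, 0), (125, 0), (145, 0), (151, 0), (182, 0), (184, 0), (231, 0), (282, 0), (288, 0), (302, 0)]⟩, ⟨1, 199, 0, 0, [(17, 0), (43, 0), (85, 0), (101, 0), (150, 0), (180, 0), (207, 0), (217, 0), (221, 0), (226, 0), (256, 0), (292, 0)]⟩, ⟨1, 202, 0, 0, [(84, 0), (112, 0), (131, 0), (154, 0), (161, 0), (192, 0), (199, 0), (211, 0), (224, 0), (235, 0), (236, 0), (244, 0), (282, 0), (286, 0), (312, 0)]⟩]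

def final3 : List Item := [⟨1, 205, 0, 0, [(39, 0), (85, 0), (90, 0), (112, 0), (144, 0), (160, 0), (164, 0), (192, 0), (199, 0), (241, 0), (243, 0), (253, 0), (285, 0), (299, 0), (305, 0)]⟩, ⟨1, 206, 0, 0, [(57, 0), (103, 0), (144, 0), (172, 0), (185, 0), (188, 0), (194, 0), (225, 0), (266, 0), (294, 0), (311, 0), (312, 0)]⟩, ⟨1, 208, 0, 0, [(7, 0), (19, 0), (20, 0), (41, 0), (43, 0), (57, 0), (78, 0), (106, 0), (187, 0), (198, 0), (210, 0), (223, 0), (228, 0), (259, 0), (280, 0)]⟩, ⟨1, 209, 0, 0, [(28, 0), (50, 0), (95, 0), (150, 0), (153, 0), (166, 0), (232, 0), (241, 0), (275, 0), (278, 0), (285, 0), (294, 0), (305, 0), (307, 0), (313, 0)]⟩, ⟨1, 210, 0, 0, [(37, 0), (106, 0), (110, 0), (142, 0), (158, 0), (184, 0), (209, 0), (237, 0), (239, 0), (241, 0), (243, 0), (269, 0), (275, 0), (279, 0), (280, 0)]⟩, ⟨1, 211, 0, 0, [(21, 0), (70, 0), (89, 0), (98, 0), (132, 0), (167, 0), (171, 0), (172, 0), (201,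 0), (218, 0), (240, 0), (254, 0), (274, 0), (300, 0), (302, 0)]⟩, ⟨1, 216, 0, 0, [(6, 0), (25, 0), (28, 0), (29, 0), (61, 0), (65, 0), (111, 0), (120, 0), (121, 0), (146, 0), (168, 0), (179, 0), (225, 0), (271, 0), (307, 0)]⟩, ⟨1, 217, 0, 0, [(10, 0), (14, 0), (30, 0), (36, 0), (66, 0), (74, 0), (83, 0), (113, 0), (122, 0), (130, 0), (157, 0), (190, 0), (226, 0), (264, 0), (290, 0)]⟩, ⟨1, 219, 0, 0, [(1, 0), (5, 0), (13, 0), (59, 0), (95, 0), (97, 0), (156, 0), (159, 0), (161, 0), (162, 0), (166, 0), (207, 0), (232, 0), (235, 0), (238, 0)]⟩, ⟨1, 222, 0, 0, [(4, 0), (12, 0), (25, 0), (48, 0), (81, 0), (84, 0), (89, 0), (131, 0), (137, 0), (140, 0), (146, 0), (148, 0), (203, 0), (218, 0), (282, 0)]⟩, ⟨1, 223, 0, 0, [(33, 0), (34, 0), (64, 0), (70, 0), (98, 0), (115, 0), (125, 0), (152, 0), (154, 0), (164, 0), (192, 0), (204, 0), (270, 0), (283, 0), (303, 0)]⟩, ⟨1, 224, 0, 0, [(1, 0), (6, 0), (27, 0), (60, 0),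 (87, 0), (110, 0), (119, 0), (129, 0), (161, 0), (168, 0), (179, 0), (224, 0), (239, 0), (244, 0), (266, 0)]⟩, ⟨1, 225, 0, 0, [(14, 0), (40, 0), (43, 0), (52, 0), (56, 0), (114, 0), (123, 0), (126, 0), (134, 0), (202, 0), (220, 0), (223, 0), (258, 0), (264, 0), (297, 0)]⟩, ⟨1, 226, 0, 0, [(71, 0), (81, 0), (93, 0), (97, 0), (162, 0), (171, 0), (203, 0), (214, 0), (218, 0), (221, 0), (230, 0), (288, 0), (295, 0), (309, 0), (311, 0)]⟩, ⟨1, 228, 0, 0, [(26, 0), (85, 0), (91, 0), (93, 0), (191, 0), (198, 0), (210, 0), (225, 0), (230, 0), (271, 0), (273, 0), (288, 0), (305, 0), (307, 0), (314, 0)]⟩, ⟨1, 229, 0, 0, [(3, 0), (9, 0), (19, 0), (20, 0), (48, 0), (49, 0), (67, 0), (82, 0), (131, 0), (141, 0), (217, 0), (236, 0), (246, 0), (251, 0), (272, 0)]⟩, ⟨1, 233, 0, 0, [(3, 0), (9, 0), (11, 0), (17, 0), (22, 0), (24, 0), (27, 0), (39, 0), (42, 0), (45, 0), (60, 0), (86, 0), (92, 0), (104, 0), (160, 0)]⟩, ⟨1, 234,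 0, 0, [(83, 0), (110, 0), (130, 0), (134, 0), (174, 0), (184, 0), (194, 0), (196, 0), (199, 0), (243, 0), (244, 0), (264, 0), (277, 0), (295, 0), (309, 0)]⟩, ⟨1, 235, 0, 0, [(49, 0), (138, 0), (149, 0), (152, 0), (169, 0), (175, 0), (229, 0), (272, 0), (283, 0), (284, 0), (291, 0), (292, 0), (293, 0), (306, 0), (308, 0)]⟩, ⟨1, 237, 0, 0, [(24, 0), (42, 0), (44, 0), (73, 0), (91, 0), (117, 0), (138, 0), (147, 0), (148, 0), (203, 0), (216, 0), (255, 0), (276, 0), (288, 0), (306, 0)]⟩, ⟨1, 238, 0, 0, [(6, 0), (23, 0), (31, 0), (56, 0), (67, 0), (123, 0), (144, 0), (152, 0), (164, 0), (168, 0), (179, 0), (186, 0), (272, 0), (299, 0), (308, 0)]⟩, ⟨1, 239, 0, 0, [(7, 0), (31, 0), (33, 0), (80, 0), (98, 0), (143, 0), (145, 0), (158, 0), (164, 0), (232, 0), (238, 0), (241, 0), (274, 0), (280, 0), (289, 0)]⟩, ⟨1, 240, 0, 0, [(176, 0), (220, 0), (230, 0), (247, 0), (256, 0), (260, 0), (270, 0), (283, 0), (293, 0), (296,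 0), (297, 0), (303, 0), (304, 0), (311, 0), (314, 0)]⟩, ⟨1, 243, 0, 0, [(0, 0), (53, 0), (58, 0), (99, 0), (103, 0), (108, 0), (117, 0), (169, 0), (173, 0), (183, 0), (200, 0), (215, 0), (256, 0), (293, 0), (306, 0)]⟩, ⟨1, 245, 0, 0, [(14, 0), (52, 0), (56, 0), (59, 0), (155, 0), (159, 0), (209, 0), (212, 0), (235, 0), (237, 0), (286, 0), (287, 0), (290, 0), (292, 0), (308, 0)]⟩, ⟨1, 246, 0, 0, [(1, 0), (10, 0), (14, 0), (27, 0), (39, 0), (63, 0), (74, 0), (85, 0), (114, 0), (119, 0), (159, 0), (191, 0), (195, 0), (242, 0), (253, 0)]⟩, ⟨1, 250, 0, 0, [(0, 0), (5, 0), (54, 0), (57, 0), (92, 0), (104, 0), (106, 0), (162, 0), (178, 0), (184, 0), (187, 0), (200, 0), (215, 0), (221, 0), (295, 0)]⟩, ⟨1, 252, 0, 0, [(11, 0), (21, 0), (32, 0), (39, 0), (47, 0), (58, 0), (85, 0), (93, 0), (137, 0), (149, 0), (151, 0), (169, 0), (201, 0), (218, 0), (253, 0)]⟩, ⟨1, 254, 0, 0, [(74, 0), (116, 0), (119, 0), (120, 0), (122,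 0), (178, 0), (179, 0), (180, 0), (182, 0), (183, 0), (185, 0), (186, 0), (215, 0), (249, 0), (250, 0)]⟩, ⟨1, 255, 0, 0, [(19, 0), (63, 0), (96, 0), (99, 0), (131, 0), (140, 0), (170, 0), (173, 0), (188, 0), (195, 0), (211, 0), (246, 0), (256, 0), (259, 0), (304, 0)]⟩, ⟨1, 257, 0, 0, [(291, 0), (295, 0), (296, 0), (302, 0), (303, 0), (308, 0), (314, 0)]⟩, ⟨1, 257, 2, 0, [(214, 8), (278, 42), (304, 21), (199, 0), (297, 59), (295, 42), (303, 59)]⟩, ⟨1, 257, 3, 0, [(287, 10), (246, 58), (192, 49), (274, 33), (309, 22), (216, 8), (281, 56)]⟩, ⟨1, 257, 4, 0, [(292, 51), (71, 58), (45, 49), (299, 35), (310, 22), (303, 52), (91, 56)]⟩, ⟨1, 257, 5, 0, [(279, 8), (70, 58), (44, 49), (263, 0), (298, 8), (175, 34), (282, 56)]⟩, ⟨1, 257, 7, 0, [(307, 13), (296, 58), (245, 58), (292, 63), (310, 49), (281, 8), (185, 38)]⟩, ⟨1, 257, 14, 0, [(300, 1), (127, 1), (295, 58), (305, 6), (196, 16), (185, 17), (243, 21)]⟩, ⟨1, 257,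 15, 0, [(212, 13), (304, 12), (263, 28), (171, 63), (219, 49), (202, 34), (183, 36)]⟩]

/-- The certificate. -/
def cert : Cert := ⟨315, 315, 64, tab, rtab, lines0 ++ lines1 ++ lines2 ++ lines3 ++ lines4 ++ lines5, final0 ++ final1 ++ final2 ++ final3⟩

end CfsgLib.AltLift.DataS1
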