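import Cfsg.Agent.AltLift.Patterns
import Cfsg.Agent.AltLift.DataS1

/-! The certificate S1. -/

set_option autoImplicit false
set_option maxRecDepth 100000
set_option maxHeartbeats 0

namespace CfsgLib.AltLift

theorem noEigen_S1 {V : Type*} [AddCommGroup V] (ρ : AltAction 9 V) (hp : ∀ u : V, 2 • u = 0)
    (hforb : ∀ pat ∈ ([Pat.twoA5, Pat.twoA5b, Pat.twoL27, Pat.twoL27on8, Pat.twoLN] : List (Pattern 9)), NoEigen ρ pat) :
    NoEigen ρ (Pat.rS1.map (fun g => (g, 1)) ++ ([] : Pattern 9)) :=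
  Cert.sound (p := 2) (by norm_num) DataS1.cert Pat.hS1 Pat.rS1 [Pat.twoA5, Pat.twoA5b, Pat.twoL27, Pat.twoL27on8, Pat.twoLN] ([] : Pattern 9) (by decide +kernel)
    ρ hp hforb

end CfsgLib.AltLift
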