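import Mathlib.GroupTheory.SpecificGroups.Alternating
import Mathlib.Algebra.Module.NatInt
import Mathlib.Algebra.Group.End
import Mathlib.Tactic.Abel
import Mathlib.Tactic.Ring

/-!
A certificate checker for statements of the form "in a module for a permutation group over `ZMod p`, in which
no non-zero vector is an eigenvector of certain patterns of elements, no non-zero vector is an eigenvector of a given
pattern".
-/

set_option autoImplicit false

namespace CfsgLib.AltLift

/-! ### Codes of permutations -/

/-- The code (base 16) of a map on `{0, …, n-1}`. -/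
def ofFun : ℕ → (ℕ → ℕ) → ℕ
  | 0, _ => 0
  | n + 1, f => f 0 % 16 + 16 * ofFun n (fun i => f (i + 1))

/-- The value at `i` of the map with code `a`. -/
def dig (a i : ℕ) : ℕ := (a >>> (4 * i)) % 16

theorem dig_ofFun : ∀ (n : ℕ) (f : ℕ → ℕ) (i : ℕ), i < n → dig (ofFun n f) i = f i % 16
  | 0, _, _, h => absurd h (Nat.not_lt_zero _)
  | n + 1, f, 0, _ => by
      simp only [dig, ofFun, Nat.mul_zero, Nat.shiftRight_zero, Nat.add_mul_mod_self_left, Nat.mod_mod]
  | n + 1, f, i + 1, h => by
      have h' := dig_ofFun n (fun i => f (i + 1)) i (by omega)
      simp only [dig] at h' ⊢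
      rw [← h', show 4 * (i + 1) = 4 + 4 * i by ring, Nat.shiftRight_add]
      congr 2
      simp only [ofFun, Nat.shiftRight_eq_div_pow]
      norm_num
      omega

/-- Composition of codes. -/
def comp (n a b : ℕ) : ℕ := ofFun n fun i => dig a (dig b i)

theorem ofFun_congr : ∀ (n : ℕ) (f g : ℕ → ℕ), (∀ i, i < n → f i = g i) → ofFun n f = ofFun n g
  | 0, _, _, _ => rfl
  | n + 1, f, g, h => by
      simp only [ofFun]
      rw [h 0 (by omega), ofFun_congr n _ _ fun i hi => h (i + 1) (by omega)]

/-- The value function of a permutation on natural numbers. -/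
def natFun {n : ℕ} (g : Equiv.Perm (Fin n)) (i : ℕ) : ℕ :=
  if h : i < n then (g ⟨i, h⟩ : ℕ) else 0

/-- The code of a permutation. -/
def code {n : ℕ} (g : Equiv.Perm (Fin n)) : ℕ := ofFun n (natFun g)

theorem dig_code {n : ℕ} (hn : n ≤ 16) (g : Equiv.Perm (Fin n)) (i : Fin n) : dig (code g) i = g i := by
  rw [code, dig_ofFun n _ _ i.2, natFun, dif_pos i.2]
  exact Nat.mod_eq_of_lt (lt_of_lt_of_le (g i).2 hn)

theorem code_mul {n : ℕ} (hn : n ≤ 16) (g h : Equiv.Perm (Fin n)) :
    code (g * h) = comp n (code g) (code h) := by
  refine ofFun_congr n _ _ fun i hi => ?_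
  rw [natFun, dif_pos hi]
  have h1 := dig_code hn h ⟨i, hi⟩
  simp only at h1
  rw [h1, dig_code hn g (h ⟨i, hi⟩)]
  rfl

theorem code_injective {n : ℕ} (hn : n ≤ 16) : Function.Injective (code (n := n)) := by
  intro g h hgh
  ext i
  rw [← dig_code hn g i, ← dig_code hn h i, hgh]

/-! ### Tables -/

/-- A table of entries (code, generator, parent). -/
inductive Table
  | leaf (c g q : ℕ)
  | node (sz : ℕ) (l r : Table)

/-- Lookup in a table. -/
def Table.get : Table → ℕ → ℕ × ℕ × ℕ
  | .leaf c g q, _ => (c, g, q)
  | .node sz l r, i => bif i.blt sz then l.get i else r.get (i - sz)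

/-- The code stored at a position. -/
def Table.code (t : Table) (i : ℕ) : ℕ := (t.get i).1

/-- The validity of one entry: the first one is the identity and every later one is a generator times an earlier
one. -/
def Table.validAt (t : Table) (n : ℕ) (gens : List ℕ) : ℕ → Bool
  | 0 => (t.code 0).beq (ofFun n id)
  | k + 1 =>
    match t.get (k + 1) with
    | (c, g, q) => q.blt (k + 1) &&
      (match gens[g]? with
      | some s => c.beq (comp n s (t.code q))
      | none => false)

/-- The validity of the first `N` entries. -/
def Table.valid (t : Table) (n : ℕ) (gens : List ℕ) : ℕ → Bool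
  | 0 => true
  | N + 1 => t.valid n gens N && t.validAt n gens N

/-! ### Accumulators -/

/-- A finitely supported family of coefficients, indexed as a binary heap. -/
inductive Acc
  | zero
  | node (x : ℕ) (l r : Acc)

/-- Adds `x` at position `j`. -/
def Acc.add : ℕ → Acc → ℕ → ℕ → Acc
  | 0, a, _, _ => a
  | fuel + 1, a, j, x =>
    match a with
    | .zero =>
      match j with
      | 0 => .node x .zero .zero
      | k + 1 => bif (k % 2).beq 0 then .node 0 (Acc.add fuel .zero (k / 2) x) .zero
          else .node 0 .zero (Acc.add fuel .zero (k / 2) x)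
    | .node y l r =>
      match j with
      | 0 => .node (y + x) l r
      | k + 1 => bif (k % 2).beq 0 then .node y (Acc.add fuel l (k / 2) x) r
          else .node y l (Acc.add fuel r (k / 2) x)

/-- All coefficients are divisible by `p`. -/
def Acc.null (p : ℕ) : Acc → Bool
  | .zero => true
  | .node x l r => (x % p).beq 0 && l.null p && r.null p

/-- Weighted sum. -/
def Acc.eval {V : Type*} [AddCommGroup V] : Acc → (ℕ → V) → V
  | .zero, _ => 0
  | .node x l r, f => x • f 0 + l.eval (fun i => f (2 * i + 1)) + r.eval (fun i => f (2 * i + 2))

theorem Acc.eval_add {V : Type*} [AddCommGroup V] : ∀ (fuel : ℕ) (a : Acc) (j x : ℕ) (f : ℕ → V),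
    j < fuel → (Acc.add fuel a j x).eval f = a.eval f + x • f j
  | 0, _, _, _, _, h => absurd h (Nat.not_lt_zero _)
  | fuel + 1, .zero, 0, x, f, _ => by simp [Acc.add, Acc.eval]
  | fuel + 1, .node y l r, 0, x, f, _ => by
      simp only [Acc.add, Acc.eval, add_smul]; abel
  | fuel + 1, .zero, k + 1, x, f, h => by
      rcases Nat.mod_two_eq_zero_or_one k with h2 | h2
      · simp only [Acc.add, h2]
        simp only [Nat.beq, cond_true, Acc.eval, Acc.eval_add fuel .zero (k / 2) x _ (by omega)]
        simp only [zero_smul, zero_add, add_zero]
        congr 2; omega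
      · simp only [Acc.add, h2]
        simp only [Nat.beq, cond_false, Acc.eval, Acc.eval_add fuel .zero (k / 2) x _ (by omega)]
        simp only [zero_smul, zero_add, add_zero]
        congr 2; omega
  | fuel + 1, .node y l r, k + 1, x, f, h => by
      rcases Nat.mod_two_eq_zero_or_one k with h2 | h2
      · simp only [Acc.add, h2]
        simp only [Nat.beq, cond_true, Acc.eval, Acc.eval_add fuel l (k / 2) x _ (by omega)]
        rw [show 2 * (k / 2) + 1 = k + 1 by omega]; abel
      · simp only [Acc.add, h2]
        simp only [Nat.beq, cond_false, Acc.eval, Acc.eval_add fuel r (k / 2) x _ (by omega)]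
        rw [show 2 * (k / 2) + 2 = k + 1 by omega]; abel

theorem Acc.eval_null {V : Type*} [AddCommGroup V] (p : ℕ) (hp : ∀ v : V, p • v = 0) :
    ∀ (a : Acc) (f : ℕ → V), a.null p = true → a.eval f = 0
  | .zero, _, _ => rfl
  | .node x l r, f, h => by
      simp only [Acc.null, Bool.and_eq_true] at h
      obtain ⟨⟨h1, h2⟩, h3⟩ := h
      have hx : x % p = 0 := Nat.eq_of_beq_eq_true h1
      simp only [Acc.eval, Acc.eval_null p hp l _ h2, Acc.eval_null p hp r _ h3, add_zero]
      obtain ⟨c, rfl⟩ := Nat.dvd_of_mod_eq_zero hx
      rw [mul_smul, hp]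

/-! ### Certificates -/

/-- One item of a combination: coefficient, earlier line, the translating element as a table position and a stabiliser
position, and for each term of the earlier line the table and stabiliser positions of its translate. -/
structure Item where
  coef : ℕ
  line : ℕ
  hj : ℕ
  hr : ℕ
  wit : List (ℕ × ℕ)

/-- The justification for one generator of a pattern: positions of the translates of the terms, and a combination of
earlier lines. -/
structure Step where
  wit : List (ℕ × ℕ)
  combo : List Item

/-- A line: a combination of table elements which annihilates the vector.  It is justified either by a pattern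
conjugated by a permutation with given code and inverse code, or by one of the given eigenvector equations. -/
inductive Line
  | forb (k c ci : ℕ) (a : List (ℕ × ℕ)) (steps : List Step)
  | init (i : ℕ) (a : List (ℕ × ℕ)) (wit : ℕ × ℕ)

/-- The combination of a line. -/
def Line.terms : Line → List (ℕ × ℕ)
  | .forb _ _ _ a _ => a
  | .init _ a _ => a

/-- The numeric shape of a certificate. -/
structure Cert where
  size : ℕ
  fuel : ℕ
  rsize : ℕ
  tab : Table
  rtab : Table
  lines : List Line
  final : List Item

/-- Checks a witnessed translate and adds it. -/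
def addTranslate (n : ℕ) (C : Cert) (y : ℕ) (x : ℕ) (w : ℕ × ℕ) : Option Acc → Option Acc
  | none => none
  | some acc => bif w.1.blt C.size && w.2.blt C.rsize && y.beq (comp n (C.tab.code w.1) (C.rtab.code w.2))
      then some (acc.add C.fuel w.1 x) else none

/-- Adds the translate by `h` of a combination, times `x`. -/
def addShift (n : ℕ) (C : Cert) (h x : ℕ) : List (ℕ × ℕ) → List (ℕ × ℕ) → Option Acc → Option Acc
  | [], [], o => o
  | (c, j) :: a, w :: ws, o =>
      bif j.blt C.size then addShift n C h x a ws (addTranslate n C (comp n h (C.tab.code j)) (x * c) w o)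
      else none
  | _, _, _ => none

/-- Adds a plain combination, times `x`. -/
def addPlain (C : Cert) (x : ℕ) : List (ℕ × ℕ) → Option Acc → Option Acc
  | [], o => o
  | (c, j) :: a, o =>
      match o with
      | none => none
      | some acc => bif j.blt C.size then addPlain C x a (some (acc.add C.fuel j (x * c))) else none

/-- Adds a combination of translates of earlier lines. -/
def addItems (n : ℕ) (C : Cert) (prev : List Line) : List Item → Option Acc → Option Acc
  | [], o => o
  | it :: its, o =>
      match prev[it.line]? with
      | none => none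
      | some L => bif it.hj.blt C.size && it.hr.blt C.rsize then
          addItems n C prev its
            (addShift n C (comp n (C.tab.code it.hj) (C.rtab.code it.hr)) it.coef L.terms it.wit o)
          else none

/-- The final accumulator vanishes. -/
def isNull (p : ℕ) : Option Acc → Bool
  | none => false
  | some a => a.null p

/-- Checks the justification of one line by one pattern element. -/
def checkStep (p n : ℕ) (C : Cert) (prev : List Line) (a : List (ℕ × ℕ)) (c ci : ℕ) (sl : ℕ × ℕ) (st : Step) :
    Bool :=
  isNull p (addItems n C prev st.combo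
    (addPlain C (p - sl.2 % p) a (addShift n C (comp n c (comp n sl.1 ci)) 1 a st.wit (some .zero))))

/-- All digits of a code are below `n`. -/
def digitsLt (n c : ℕ) : ℕ → Bool
  | 0 => true
  | i + 1 => digitsLt n c i && (dig c i).blt n

/-- Pairwise check of the steps. -/
def checkSteps (p n : ℕ) (C : Cert) (prev : List Line) (a : List (ℕ × ℕ)) (c ci : ℕ) :
    List (ℕ × ℕ) → List Step → Bool
  | [], [] => true
  | sl :: sls, st :: sts => checkStep p n C prev a c ci sl st && checkSteps p n C prev a c ci sls sts
  | _, _ => false

/-- Checks a line. -/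
def checkLine (p n : ℕ) (C : Cert) (pats : List (List (ℕ × ℕ))) (extra : List (ℕ × ℕ)) (prev : List Line) :
    Line → Bool
  | .forb k c ci a steps =>
      match pats[k]? with
      | none => false
      | some pat => (comp n c ci).beq (ofFun n id) && (comp n ci c).beq (ofFun n id) && digitsLt n c n &&
          digitsLt n ci n && checkSteps p n C prev a c ci pat steps
  | .init i a wit =>
      match extra[i]? with
      | none => false
      | some sl => isNull p (addPlain C (p - 1) a
          (addTranslate n C sl.1 1 wit (some (Acc.add C.fuel .zero 0 (p - sl.2 % p)))))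

/-- Checks all lines from a given one on. -/
def checkLines (p n : ℕ) (C : Cert) (pats : List (List (ℕ × ℕ))) (extra : List (ℕ × ℕ)) :
    List Line → List Line → Bool
  | _, [] => true
  | prev, L :: Ls => checkLine p n C pats extra prev L && checkLines p n C pats extra (prev ++ [L]) Ls

/-- The whole check. -/
def Cert.check (C : Cert) (p n : ℕ) (hgens rgens : List ℕ) (pats : List (List (ℕ × ℕ))) (extra : List (ℕ × ℕ)) :
    Bool :=
  n.ble 16 && Nat.blt 0 C.size && Nat.blt 0 C.rsize && C.size.ble C.fuel &&
    C.tab.valid n hgens C.size && C.rtab.valid n rgens C.rsize &&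
    checkLines p n C pats extra [] C.lines &&
    isNull p (addItems n C C.lines C.final (some (Acc.add C.fuel .zero 0 (p - 1))))

end CfsgLib.AltLift
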