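import Cfsg.Agent.Solvable.Glauberman
import Mathlib.GroupTheory.Frattini
import Mathlib.GroupTheory.Nilpotent
import Mathlib.GroupTheory.SchurZassenhaus
import Mathlib.GroupTheory.Solvable
import Mathlib.GroupTheory.PGroup

/-!
Lifting elements of prime order with non-solvable centraliser through a Frattini extension.
-/

set_option autoImplicit false

open scoped Pointwise commutatorElement

namespace CfsgLib.AltLift

variable {G : Type*} [Group G]

/-- `G` has no non-central `p`-element with non-solvable centraliser. -/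
def SolvableCentralizers (p : ℕ) (G : Type*) [Group G] : Prop :=
  ∀ x : G, x ∉ Subgroup.center G → (∃ k : ℕ, orderOf x = p ^ k) →
    Group.IsSolvable (Subgroup.centralizer ({x} : Set G))

theorem SolvableCentralizers.subgroup {p : ℕ} (h : SolvableCentralizers p G) (H : Subgroup G) :
    SolvableCentralizers p ↥H := by
  intro x hx hp
  have hxG : (x : G) ∉ Subgroup.center G := by
    intro hc
    refine hx (Subgroup.mem_center_iff.2 fun y => Subtype.ext ?_)
    exact Subgroup.mem_center_iff.1 hc y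
  have := h x hxG (by obtain ⟨k, hk⟩ := hp; exact ⟨k, by rw [Subgroup.orderOf_coe]; exact hk⟩)
  let f : ↥(Subgroup.centralizer ({x} : Set ↥H)) →* ↥(Subgroup.centralizer ({(x : G)} : Set G)) :=
    { toFun := fun y => ⟨((y : ↥H) : G), Subgroup.mem_centralizer_singleton_iff.2
        (congrArg Subtype.val (Subgroup.mem_centralizer_singleton_iff.1 y.2))⟩
      map_one' := rfl
      map_mul' := fun _ _ => rfl }
  exact Group.isSolvable_of_isSolvable_injective (f := f)
    fun a b hab => Subtype.ext (Subtype.ext (congrArg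
      (fun z : ↥(Subgroup.centralizer ({(x : G)} : Set G)) => (z : G)) hab))

/-- A subgroup whose conjugates of `m` differ from `m` by central elements centralises `m` up to an abelian
quotient. -/
theorem not_solvable_centralizer {S : Subgroup G} {m : G} (hS : ¬ Group.IsSolvable ↥S)
    (hm : ∀ g ∈ S, g * m * g⁻¹ * m⁻¹ ∈ Subgroup.center G) :
    ¬ Group.IsSolvable (Subgroup.centralizer ({m} : Set G)) := by
  intro hC
  let f : ↥S →* ↥(Subgroup.center G) :=
    { toFun := fun g => ⟨(g : G) * m * (g : G)⁻¹ * m⁻¹, hm g g.2⟩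
      map_one' := Subtype.ext (by simp)
      map_mul' := fun a b => Subtype.ext (by
        have hb := Subgroup.mem_center_iff.1 (hm b b.2) (a : G)
        push_cast
        calc (a : G) * b * m * ((a : G) * b)⁻¹ * m⁻¹
            = (a : G) * ((b : G) * m * (b : G)⁻¹ * m⁻¹) * m * (a : G)⁻¹ * m⁻¹ := by group
          _ = ((b : G) * m * (b : G)⁻¹ * m⁻¹) * (a : G) * m * (a : G)⁻¹ * m⁻¹ := by rw [hb]
          _ = ((b : G) * m * (b : G)⁻¹ * m⁻¹) * ((a : G) * m * (a : G)⁻¹ * m⁻¹) := by group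
          _ = ((a : G) * m * (a : G)⁻¹ * m⁻¹) * ((b : G) * m * (b : G)⁻¹ * m⁻¹) :=
            (Subgroup.mem_center_iff.1 (hm b b.2) _).symm) }
  have hker : ∀ g : ↥f.ker, ((g : ↥S) : G) ∈ Subgroup.centralizer ({m} : Set G) := by
    intro g
    rw [Subgroup.mem_centralizer_singleton_iff]
    have h1 : ((g : ↥S) : G) * m * ((g : ↥S) : G)⁻¹ * m⁻¹ = 1 := congrArg Subtype.val (MonoidHom.mem_ker.1 g.2)
    rw [mul_inv_eq_one, mul_inv_eq_iff_eq_mul] at h1
    exact h1
  let i : ↥f.ker →* ↥(Subgroup.centralizer ({m} : Set G)) :=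
    { toFun := fun g => ⟨_, hker g⟩
      map_one' := rfl
      map_mul' := fun _ _ => rfl }
  have : Group.IsSolvable ↥f.ker :=
    Group.isSolvable_of_isSolvable_injective (f := i)
      fun a b hab => Subtype.ext (Subtype.ext (congrArg
        (fun z : ↥(Subgroup.centralizer ({m} : Set G)) => (z : G)) hab))
  have : Group.IsSolvable ↥(Subgroup.center G) :=
    isSolvable_of_comm fun a b => Subtype.ext ((Subgroup.mem_center_iff.1 b.2 a))
  exact hS (solvable_of_ker_le_range f.ker.subtype f (by rw [Subgroup.range_subtype]))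

theorem not_solvable_of_map {H : Type*} [Group H] (f : G →* H) {Y : Subgroup G} {S : Subgroup H}
    (hY : Y.map f = S) (hS : ¬ Group.IsSolvable ↥S) : ¬ Group.IsSolvable ↥Y := by
  intro h
  subst hY
  exact hS (solvable_of_surjective (f := f.subgroupMap Y) (f.subgroupMap_surjective Y))

variable [Finite G]

/-- The normal Sylow `p`-subgroup of a nilpotent normal subgroup. -/
theorem exists_pPart (p : ℕ) [Fact p.Prime] (N : Subgroup G) [N.Normal] (hN : Group.IsNilpotent ↥N) :
    ∃ P : Subgroup G, P ≤ N ∧ P.Normal ∧ IsPGroup p ↥P ∧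
      (∀ A : Subgroup G, A ≤ N → IsPGroup p ↥A → A ≤ P) ∧ ¬ p ∣ P.relIndex N := by
  obtain ⟨P0⟩ : Nonempty (Sylow p ↥N) := inferInstance
  have hn : (P0 : Subgroup ↥N).Normal := by
    have := (Group.isNilpotent_of_finite_tfae (G := ↥N)).out 0 3
    exact this.1 hN p inferInstance P0
  have hchar : (P0 : Subgroup ↥N).Characteristic := P0.characteristic_of_normal hn
  refine ⟨(P0 : Subgroup ↥N).map N.subtype, Subgroup.map_subtype_le _, inferInstance,
    P0.2.map _, fun A hA hpA => ?_, ?_⟩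
  · have h1 : IsPGroup p ↥(A.subgroupOf N) := hpA.comap_subtype
    obtain ⟨Q, hQ⟩ := h1.exists_le_sylow
    have := Sylow.unique_of_normal P0 hn
    have hQP : Q = P0 := Subsingleton.elim _ _
    intro a ha
    exact ⟨⟨a, hA ha⟩, hQP ▸ hQ ha, rfl⟩
  · rw [Subgroup.relIndex, Subgroup.subgroupOf, Subgroup.comap_map_eq_self_of_injective N.subtype_injective]
    exact P0.not_dvd_index

/-- A normal subgroup inside a nilpotent normal subgroup equals its commutator with it only if it is central. -/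
theorem le_of_eq_commutator_sup {M N Z : Subgroup G} [N.Normal] [M.Normal] (hN : Group.IsNilpotent ↥N)
    (hMN : M ≤ N) (hZ : Z ≤ Subgroup.center G) (h : M ≤ ⁅M, N⁆ ⊔ Z) : M ≤ Z := by
  obtain ⟨c, hc⟩ := Subgroup.nilpotent_iff_lowerCentralSeries.1 hN
  have key : ∀ k, M ≤ (((⊤ : Subgroup ↥N).lowerCentralSeries k).map N.subtype) ⊔ Z := by
    intro k
    induction k with
    | zero =>
        rw [Subgroup.lowerCentralSeries_zero, ← MonoidHom.range_eq_map, Subgroup.range_subtype]
        exact hMN.trans le_sup_left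
    | succ k ih =>
        refine h.trans (sup_le ?_ le_sup_right)
        refine le_trans ?_ (le_sup_left (b := Z))
        rw [Subgroup.lowerCentralSeries_succ, Subgroup.map_commutator, ← MonoidHom.range_eq_map,
          Subgroup.range_subtype, Subgroup.commutator_le]
        intro m hm n hn
        have hZn : (Z : Subgroup G).Normal :=
          ⟨fun z hz g => by rwa [Subgroup.mem_center_iff.1 (hZ hz) g, mul_inv_cancel_right]⟩
        obtain ⟨l, hl, z, hz, rfl⟩ := Subgroup.mem_sup_of_normal_right.1 (ih hm)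
        have hz' := Subgroup.mem_center_iff.1 (hZ hz)
        have : ⁅l * z, n⁆ = ⁅l, n⁆ := by
          rw [commutatorElement_def, commutatorElement_def]
          calc l * z * n * (l * z)⁻¹ * n⁻¹ = l * (z * n) * z⁻¹ * l⁻¹ * n⁻¹ := by group
            _ = l * (n * z) * z⁻¹ * l⁻¹ * n⁻¹ := by rw [hz' n]
            _ = l * n * l⁻¹ * n⁻¹ := by group
        rw [this]
        exact Subgroup.commutator_mem_commutator hl hn
  have := key c
  rwa [hc, Subgroup.map_bot, bot_sup_eq] at this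

/-- Normalising a Sylow subgroup of the preimage of a cyclic subgroup. -/
theorem exists_sylow_data {A : Type*} [Group A] (p : ℕ) [Fact p.Prime] (π : G →* A) (hπ : Function.Surjective π)
    (σ : A) (hσ : σ ^ p = 1) (S : Subgroup A) (hS : ∀ s ∈ S, s * σ = σ * s) :
    ∃ T : Subgroup G, IsPGroup p ↥T ∧ (∀ t ∈ T, π t ∈ Subgroup.zpowers σ) ∧ (∃ x ∈ T, π x = σ) ∧
      (Subgroup.normalizer (T : Set G) ⊓ S.comap π).map π = S ∧
      (∀ B : Subgroup G, B.Normal → B ≤ π.ker → IsPGroup p ↥B → B ≤ T) := by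
  set C := (Subgroup.centralizer ({σ} : Set A)).comap π with hC
  set X := ((Subgroup.zpowers σ).comap π).subgroupOf C with hX
  have hXn : X.Normal := by
    constructor
    intro y hy g
    have hg : π (g : G) * σ = σ * π (g : G) := Subgroup.mem_centralizer_singleton_iff.1 g.2
    rw [hX, Subgroup.mem_subgroupOf, Subgroup.mem_comap] at hy ⊢
    obtain ⟨k, hk⟩ := hy
    simp only at hk
    refine ⟨k, ?_⟩
    have hc : Commute (π (g : G)) (σ ^ k) := (show Commute (π (g : G)) σ from hg).zpow_right k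
    push_cast
    rw [map_mul, map_mul, map_inv, ← hk, hc.eq, mul_inv_cancel_right]
  have hle : (Subgroup.zpowers σ).comap π ≤ C := by
    intro y hy
    obtain ⟨k, hk⟩ := hy
    simp only at hk
    rw [hC, Subgroup.mem_comap, Subgroup.mem_centralizer_singleton_iff, ← hk]
    exact ((Commute.refl σ).zpow_left k).eq
  obtain ⟨T0⟩ : Nonempty (Sylow p ↥X) := inferInstance
  let πX : ↥X →* ↥(Subgroup.zpowers σ) :=
    { toFun := fun y => ⟨π ((y : ↥C) : G), y.2⟩
      map_one' := Subtype.ext (map_one π)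
      map_mul' := fun a b => Subtype.ext (map_mul π _ _) }
  have hπX : Function.Surjective πX := fun z => by
    obtain ⟨g, hg⟩ := hπ z
    have hg' : g ∈ (Subgroup.zpowers σ).comap π := by
      rw [Subgroup.mem_comap, hg]; exact z.2
    exact ⟨⟨⟨g, hle hg'⟩, hg'⟩, Subtype.ext hg⟩
  have hcyc : IsPGroup p ↥(Subgroup.zpowers σ) := by
    intro y
    refine ⟨1, Subtype.ext ?_⟩
    obtain ⟨k, hk⟩ := y.2
    rw [SubgroupClass.coe_pow, pow_one, ← hk, ← zpow_natCast (σ ^ k) p, ← zpow_mul, mul_comm, zpow_mul,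
      zpow_natCast, hσ, one_zpow]
    rfl
  have htop : (T0 : Subgroup ↥X).map πX = ⊤ := by
    have h1 : ((T0.mapSurjective hπX : Sylow p ↥(Subgroup.zpowers σ)) : Subgroup ↥(Subgroup.zpowers σ)) = ⊤ :=
      ((T0.mapSurjective hπX).is_maximal' (hcyc.to_subgroup ⊤) le_top).symm
    rwa [Sylow.coe_mapSurjective] at h1
  set T1 : Subgroup ↥C := (T0 : Subgroup ↥X).map X.subtype with hT1
  set T : Subgroup G := T1.map C.subtype with hT
  have hlift : ∀ z : ↥(Subgroup.zpowers σ), ∃ t : ↥C, t ∈ T1 ∧ π (t : G) = z := by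
    intro z
    have hmem : z ∈ (T0 : Subgroup ↥X).map πX := by rw [htop]; exact Subgroup.mem_top _
    obtain ⟨t, ht, rfl⟩ := hmem
    exact ⟨t, ⟨t, ht, rfl⟩, rfl⟩
  refine ⟨T, (T0.2.map _).map _, ?_, ?_, ?_, ?_⟩
  · rintro _ ⟨_, ⟨t, -, rfl⟩, rfl⟩; exact t.2
  · obtain ⟨t, ht, he⟩ := hlift ⟨σ, Subgroup.mem_zpowers σ⟩
    exact ⟨t, ⟨t, ht, rfl⟩, he⟩
  · refine le_antisymm (by rintro _ ⟨y, hy, rfl⟩; exact hy.2) fun s hs => ?_
    obtain ⟨g, rfl⟩ := hπ s
    have hgC : g ∈ C := Subgroup.mem_centralizer_singleton_iff.2 (hS _ hs)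
    have hmem : (⟨g, hgC⟩ : ↥C) ∈ Subgroup.normalizer ((T1 : Subgroup ↥C) : Set ↥C) ⊔ X := by
      rw [hT1, Sylow.normalizer_sup_eq_top T0]; exact Subgroup.mem_top _
    obtain ⟨n, hn, x, hx, hnx⟩ := Subgroup.mem_sup_of_normal_right.1 hmem
    obtain ⟨t, ht, htx⟩ := hlift ⟨π (x : G), hx⟩
    have hnt : n * t ∈ Subgroup.normalizer ((T1 : Subgroup ↥C) : Set ↥C) :=
      mul_mem hn (Subgroup.le_normalizer ht)
    have hπ' : π ((n * t : ↥C) : G) = π g := by
      have h1 : (n : G) * (x : G) = g := congrArg Subtype.val hnx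
      rw [Subgroup.coe_mul, map_mul, htx]
      exact ((map_mul π _ _).symm.trans (congrArg π h1))
    refine ⟨((n * t : ↥C) : G), ⟨?_, ?_⟩, hπ'⟩
    · exact Subgroup.le_normalizer_map C.subtype ⟨_, hnt, rfl⟩
    · show π ((n * t : ↥C) : G) ∈ S
      rw [hπ']
      exact hs
  · intro B hBn hB hpB
    have hBX : B ≤ (Subgroup.zpowers σ).comap π := fun b hb => by
      rw [Subgroup.mem_comap, MonoidHom.mem_ker.1 (hB hb)]
      exact one_mem _
    have hn : ((B.subgroupOf C).subgroupOf X).Normal :=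
      Subgroup.normal_subgroupOf
    have hp1 : IsPGroup p ↥((B.subgroupOf C).subgroupOf X) :=
      (hpB.comap_of_injective C.subtype C.subtype_injective).comap_of_injective X.subtype X.subtype_injective
    have hsup : IsPGroup p ↥((B.subgroupOf C).subgroupOf X ⊔ (T0 : Subgroup ↥X)) :=
      IsPGroup.to_sup_of_normal_left hp1 T0.2
    have hle' : (B.subgroupOf C).subgroupOf X ≤ (T0 : Subgroup ↥X) :=
      le_sup_left.trans (T0.is_maximal' hsup le_sup_right).le
    intro b hb
    exact ⟨⟨b, hle (hBX hb)⟩, ⟨⟨⟨b, hle (hBX hb)⟩, hBX hb⟩, hle' hb, rfl⟩, rfl⟩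

/-- A coprime group fixing a coset of a normal `p`-subgroup centralises a representative. -/
theorem exists_commute_in_coset {p : ℕ} [Fact p.Prime] (P L : Subgroup G) [P.Normal] (hP : IsPGroup p ↥P)
    (hL : ¬ p ∣ Nat.card ↥L) (x : G) (hx : ∀ l ∈ L, x * l * x⁻¹ * l⁻¹ ∈ P) :
    ∃ n ∈ P, ∀ l ∈ L, n * x * l = l * (n * x) := by
  set Y := P ⊔ L with hY
  have hcop : (Nat.card ↥P).Coprime (Nat.card ↥L) := by
    obtain ⟨k, hk⟩ := IsPGroup.iff_card.1 hP
    rw [hk]
    exact ((Fact.out : p.Prime).coprime_iff_not_dvd.2 hL).pow_left k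
  set P' := P.subgroupOf Y with hP'
  set L' := L.subgroupOf Y with hL'
  have hxY : ∀ l ∈ L, x * l * x⁻¹ ∈ Y := fun l hl => by
    have := mul_mem ((le_sup_left : P ≤ Y) (hx l hl)) ((le_sup_right : L ≤ Y) hl)
    rwa [inv_mul_cancel_right] at this
  set L2 := L.map (MulAut.conj x).toMonoidHom with hL2
  have hL2Y : L2 ≤ Y := by rintro _ ⟨l, hl, rfl⟩; exact hxY l hl
  have hcard2 : Nat.card ↥L2 = Nat.card ↥L :=
    Subgroup.card_map_of_injective (MulEquiv.injective (MulAut.conj x))
  have hcompl : ∀ K : Subgroup G, K ≤ Y → Nat.card ↥K = Nat.card ↥L →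
      Subgroup.IsComplement' P' (K.subgroupOf Y) := by
    intro K hK hcard
    refine Subgroup.isComplement'_of_coprime ?_ ?_
    · rw [hP', Nat.card_congr (Subgroup.subgroupOfEquivOfLe (le_sup_left : P ≤ Y)).toEquiv,
        Nat.card_congr (Subgroup.subgroupOfEquivOfLe hK).toEquiv, hcard, hY]
      have h1 := CfsgLib.Solvable.card_sup_of_disjoint (A := L) (K := P)
        (le_top.trans_eq (Subgroup.normalizer_eq_top (H := P)).symm)
        (Subgroup.inf_eq_bot_of_coprime hcop.symm)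
      rw [sup_comm, h1, mul_comm]
    · rw [hP', Nat.card_congr (Subgroup.subgroupOfEquivOfLe (le_sup_left : P ≤ Y)).toEquiv,
        Nat.card_congr (Subgroup.subgroupOfEquivOfLe hK).toEquiv, hcard]
      exact hcop
  have hC1 := hcompl L le_sup_right rfl
  have hC2 := hcompl L2 hL2Y hcard2
  have hsol : Group.IsSolvable ↥P' := by
    have : IsPGroup p ↥P' := hP.comap_subtype
    have := this.isNilpotent
    infer_instance
  have hidx : (Nat.card ↥P').Coprime P'.index := by
    rw [hC1.symm.index_eq_card, hP', Nat.card_congr (Subgroup.subgroupOfEquivOfLe (le_sup_left : P ≤ Y)).toEquiv,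
      Nat.card_congr (Subgroup.subgroupOfEquivOfLe (le_sup_right : L ≤ Y)).toEquiv]
    exact hcop
  obtain ⟨n, hn, hconj⟩ :=
    CfsgLib.SZ.conj_of_solvable P' hidx (Or.inl hsol) (L2.subgroupOf Y) (L.subgroupOf Y) hC2 hC1
  refine ⟨(n : G), hn, fun l hl => ?_⟩
  have h1 : (n : G) * (x * l * x⁻¹) * (n : G)⁻¹ ∈ L := by
    have h2 : MulAut.conj n • (⟨x * l * x⁻¹, hxY l hl⟩ : ↥Y) ∈ MulAut.conj n • L2.subgroupOf Y :=
      Subgroup.smul_mem_pointwise_smul _ _ _ ⟨l, hl, rfl⟩
    rw [hconj] at h2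
    exact h2
  set l' := (n : G) * (x * l * x⁻¹) * (n : G)⁻¹ with hl'
  have h3 : l' * l⁻¹ ∈ P := by
    have : l' * l⁻¹ = (n : G) * (x * l * x⁻¹ * l⁻¹) * (l * (n : G)⁻¹ * l⁻¹) := by rw [hl']; group
    rw [this]
    exact mul_mem (mul_mem hn (hx l hl)) (Subgroup.Normal.conj_mem (H := P) inferInstance _ (inv_mem (hn : (n : G) ∈ P)) _)
  have h4 : l' * l⁻¹ = 1 := by
    have h := Subgroup.inf_eq_bot_of_coprime hcop
    have h5 : l' * l⁻¹ ∈ P ⊓ L := ⟨h3, mul_mem h1 (L.inv_mem hl)⟩
    rw [h] at h5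
    exact Subgroup.mem_bot.1 h5
  have h6 : l' = l := mul_inv_eq_one.1 h4
  calc (n : G) * x * l = l' * ((n : G) * x) := by rw [hl']; group
    _ = l * ((n : G) * x) := by rw [h6]

end CfsgLib.AltLift
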