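import Cfsg.Agent.AltLift.Perfect
import Cfsg.Agent.AltLift.CertC1
import Cfsg.Agent.AltLift.CertC2
import Cfsg.Agent.AltLift.CertC3
import Cfsg.Agent.AltLift.CertC4
import Cfsg.Agent.AltLift.CertC5
import Cfsg.Agent.AltLift.CertC6
import Cfsg.Agent.AltLift.CertS1
import Cfsg.Agent.AltLift.CertS2

/-!
Every non-zero module of `A₁₀` in characteristic 5, and of `A₉` in characteristic 2, has a non-zero vector fixed by
a non-solvable subgroup.
-/

set_option autoImplicit false
set_option maxRecDepth 100000
set_option maxHeartbeats 400000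

open scoped commutatorElement

namespace CfsgLib.AltLift

open Pat

variable {V : Type*} [AddCommGroup V]

/-- Membership of an element of a list in the generated submonoid. -/
theorem mem_gen {n : ℕ} {gens : List (alternatingGroup (Fin n))} {g : alternatingGroup (Fin n)} (h : g ∈ gens) :
    g ∈ Submonoid.closure {a | a ∈ gens} :=
  Submonoid.subset_closure h

theorem perfect_fiveA5 : IsPerfectPattern [g0, g1] where
  ne_one := ⟨g0, by simp, by decide +kernel⟩
  comm := by
    have a := mem_gen (show g0 ∈ [g0, g1] by simp)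
    have b := mem_gen (show g1 ∈ [g0, g1] by simp)
    simp only [List.forall_mem_cons, List.not_mem_nil, false_implies, implies_true, and_true]
    exact ⟨⟨g1, b, g1 * g0 * g1 * g0, mul_mem (mul_mem (mul_mem b a) b) a, by decide +kernel⟩,
      ⟨g0 * g0, mul_mem a a, g0 * g1 * g0 * g1, mul_mem (mul_mem (mul_mem a b) a) b, by decide +kernel⟩⟩

theorem perfect_fiveA5b : IsPerfectPattern [g0, g9] where
  ne_one := ⟨g0, by simp, by decide +kernel⟩
  comm := by
    have a := mem_gen (show g0 ∈ [g0, g9] by simp)
    have b := mem_gen (show g9 ∈ [g0, g9] by simp)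
    simp only [List.forall_mem_cons, List.not_mem_nil, false_implies, implies_true, and_true]
    exact ⟨⟨g9 * g0 * g9, mul_mem (mul_mem b a) b, g9 * g0 * g0, mul_mem (mul_mem b a) a, by decide +kernel⟩,
      ⟨g0 * g9 * g0 * g0 * g0, mul_mem (mul_mem (mul_mem (mul_mem a b) a) a) a,
        g9 * g0 * g0 * g0 * g9 * g0, mul_mem (mul_mem (mul_mem (mul_mem (mul_mem b a) a) a) b) a,
        by decide +kernel⟩⟩

theorem perfect_fiveD : IsPerfectPattern [g2, g3] where
  ne_one := ⟨g2, by simp, by decide +kernel⟩
  comm := by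
    have a := mem_gen (show g2 ∈ [g2, g3] by simp)
    have b := mem_gen (show g3 ∈ [g2, g3] by simp)
    simp only [List.forall_mem_cons, List.not_mem_nil, false_implies, implies_true, and_true]
    exact ⟨⟨g3, b, g3 * g2 * g3 * g2, mul_mem (mul_mem (mul_mem b a) b) a, by decide +kernel⟩,
      ⟨g2 * g2, mul_mem a a, g2 * g3 * g2 * g3, mul_mem (mul_mem (mul_mem a b) a) b, by decide +kernel⟩⟩

theorem perfect_twoA5 : IsPerfectPattern [g14, g15] where
  ne_one := ⟨g14, by simp, by decide +kernel⟩
  comm := by
    have a := mem_gen (show g14 ∈ [g14, g15] by simp)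
    have b := mem_gen (show g15 ∈ [g14, g15] by simp)
    simp only [List.forall_mem_cons, List.not_mem_nil, false_implies, implies_true, and_true]
    exact ⟨⟨g15, b, g15 * g14 * g15 * g14, mul_mem (mul_mem (mul_mem b a) b) a, by decide +kernel⟩,
      ⟨g14 * g14, mul_mem a a, g14 * g15 * g14 * g15, mul_mem (mul_mem (mul_mem a b) a) b, by decide +kernel⟩⟩

theorem perfect_twoA5b : IsPerfectPattern [g14, g16] where
  ne_one := ⟨g14, by simp, by decide +kernel⟩
  comm := by
    have a := mem_gen (show g14 ∈ [g14, g16] by simp)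
    have b := mem_gen (show g16 ∈ [g14, g16] by simp)
    simp only [List.forall_mem_cons, List.not_mem_nil, false_implies, implies_true, and_true]
    exact ⟨⟨g16 * g14 * g16, mul_mem (mul_mem b a) b, g16 * g14 * g14, mul_mem (mul_mem b a) a, by decide +kernel⟩,
      ⟨g14 * g16 * g14 * g14 * g14, mul_mem (mul_mem (mul_mem (mul_mem a b) a) a) a,
        g16 * g14 * g14 * g14 * g16 * g14, mul_mem (mul_mem (mul_mem (mul_mem (mul_mem b a) a) a) b) a,
        by decide +kernel⟩⟩

theorem perfect_twoL27 : IsPerfectPattern [g17, g18] where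
  ne_one := ⟨g17, by simp, by decide +kernel⟩
  comm := by
    have a := mem_gen (show g17 ∈ [g17, g18] by simp)
    have b := mem_gen (show g18 ∈ [g17, g18] by simp)
    simp only [List.forall_mem_cons, List.not_mem_nil, false_implies, implies_true, and_true]
    exact ⟨⟨g17 * g17 * g18 * g17 * g17, mul_mem (mul_mem (mul_mem (mul_mem a a) b) a) a,
        g18 * g17 * g17 * g17, mul_mem (mul_mem (mul_mem b a) a) a, by decide +kernel⟩,
      ⟨g17 * g17 * g18 * g17 * g17 * g17 * g17,
        mul_mem (mul_mem (mul_mem (mul_mem (mul_mem (mul_mem a a) b) a) a) a) a,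
        g17 * g18 * g17 * g17 * g17 * g18 * g17 * g17,
        mul_mem (mul_mem (mul_mem (mul_mem (mul_mem (mul_mem (mul_mem a b) a) a) a) b) a) a, by decide +kernel⟩⟩

theorem perfect_twoL27on8 : IsPerfectPattern [g17, g19] where
  ne_one := ⟨g17, by simp, by decide +kernel⟩
  comm := by
    have a := mem_gen (show g17 ∈ [g17, g19] by simp)
    have b := mem_gen (show g19 ∈ [g17, g19] by simp)
    simp only [List.forall_mem_cons, List.not_mem_nil, false_implies, implies_true, and_true]
    exact ⟨⟨g17 * g17 * g19 * g17 * g17, mul_mem (mul_mem (mul_mem (mul_mem a a) b) a) a,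
        g19 * g17 * g17 * g17, mul_mem (mul_mem (mul_mem b a) a) a, by decide +kernel⟩,
      ⟨g17 * g17 * g19 * g17 * g17 * g17 * g17,
        mul_mem (mul_mem (mul_mem (mul_mem (mul_mem (mul_mem a a) b) a) a) a) a,
        g17 * g19 * g17 * g17 * g17 * g19 * g17 * g17,
        mul_mem (mul_mem (mul_mem (mul_mem (mul_mem (mul_mem (mul_mem a b) a) a) a) b) a) a, by decide +kernel⟩⟩

theorem perfect_twoL28 : IsPerfectPattern [g26, g27, g28] where
  ne_one := ⟨g26, by simp, by decide +kernel⟩
  comm := by
    have a := mem_gen (show g26 ∈ [g26, g27, g28] by simp)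
    have b := mem_gen (show g27 ∈ [g26, g27, g28] by simp)
    have c := mem_gen (show g28 ∈ [g26, g27, g28] by simp)
    simp only [List.forall_mem_cons, List.not_mem_nil, false_implies, implies_true, and_true]
    exact ⟨⟨g27 * g26, mul_mem b a, g27 * g27, mul_mem b b, by decide +kernel⟩,
      ⟨g28, c, g27 * g27 * g27, mul_mem (mul_mem b b) b, by decide +kernel⟩,
      ⟨g26 * g27 * g26, mul_mem (mul_mem a b) a,
        g26 * g27 * g27 * g26 * g28, mul_mem (mul_mem (mul_mem (mul_mem a b) b) a) c, by decide +kernel⟩⟩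

/-- The permutation exchanging the two halves used for conjugation. -/
def swapHalves : Equiv.Perm (Fin 10) :=
  Equiv.swap 0 6 * Equiv.swap 1 7 * Equiv.swap 2 8 * Equiv.swap 3 9

/-- Generators of the two base four-groups and two further involutions of a Sylow 2-subgroup of `A₈`. -/
def e1 : alternatingGroup (Fin 9) := dswap 0 1 2 3 (by decide) (by decide)
@[inherit_doc e1] def e2 : alternatingGroup (Fin 9) := dswap 0 2 1 3 (by decide) (by decide)
@[inherit_doc e1] def e3 : alternatingGroup (Fin 9) := dswap 4 5 6 7 (by decide) (by decide)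
@[inherit_doc e1] def e4 : alternatingGroup (Fin 9) := dswap 4 6 5 7 (by decide) (by decide)
@[inherit_doc e1] def eb : alternatingGroup (Fin 9) := dswap 0 1 4 5 (by decide) (by decide)
@[inherit_doc e1] def ek : alternatingGroup (Fin 9) :=
  dswap 0 4 1 5 (by decide) (by decide) * dswap 2 6 3 7 (by decide) (by decide)

theorem forall2 {α : Type*} {P : α → Prop} {a b : α} (ha : P a) (hb : P b) : ∀ x ∈ [a, b], P x := by
  simp [ha, hb]

/-- In characteristic 5 every non-zero finite module of `A₁₀` has a non-zero vector fixed by a non-solvable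
subgroup. -/
theorem eq_zero_five (ρ : AltAction 10 V) [Finite V] (hp : ∀ u : V, 5 • u = 0) (h : NoNonsolvableFixed ρ)
    (w : V) : w = 0 := by
  have : Fact (Nat.Prime 5) := ⟨by decide⟩
  have hA : NoEigen ρ fiveA5 := noEigen_of_perfect h perfect_fiveA5
  have hB : NoEigen ρ fiveA5b := noEigen_of_perfect h perfect_fiveA5b
  have hD : NoEigen ρ fiveD := noEigen_of_perfect h perfect_fiveD
  have h44 : NoEigen ρ fiveA4A4 := (noEigen_C1 ρ hp (forall2 hA hD)).mono (by decide +kernel)
  have hFT : NoEigen ρ fiveFT := (noEigen_C2 ρ hp (forall2 hA hD)).mono (by decide +kernel)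
  have h3 : NoEigen ρ ((g0 :: [g7, g8]).map fun g => (g, 1)) :=
    (noEigen_C3 ρ hp (List.forall_mem_cons.2 ⟨hA, List.forall_mem_cons.2 ⟨hB, forall2 h44 hFT⟩⟩)).mono
      (by decide +kernel)
  have hA4r : NoEigen ρ ([g7, g8].map fun g => (g, 1)) := by
    refine NoEigen.drop (a := g0) hp (by decide +kernel) ?_ h3
    simp only [List.forall_mem_cons, List.not_mem_nil, false_implies, implies_true, and_true]
    constructor
    · rw [show g0⁻¹ * g7 * g0 = g7 by decide +kernel]; exact mem_gen (by simp)
    · rw [show g0⁻¹ * g8 * g0 = g8 by decide +kernel]; exact mem_gen (by simp)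
  have hA4 : NoEigen ρ fiveA4 := hA4r.conj swapHalves (by decide +kernel)
  have hVV : NoEigen ρ fiveV4V4 :=
    (noEigen_C4 ρ hp (List.forall_mem_cons.2 ⟨hA, forall2 hD hA4⟩)).mono (by decide +kernel)
  have h5 : NoEigen ρ ((g0 :: [g7, g13]).map fun g => (g, 1)) :=
    (noEigen_C5 ρ hp (List.forall_mem_singleton.2 hVV)).mono (by decide +kernel)
  have hV4r : NoEigen ρ ([g7, g13].map fun g => (g, 1)) := by
    refine NoEigen.drop (a := g0) hp (by decide +kernel) ?_ h5
    simp only [List.forall_mem_cons, List.not_mem_nil, false_implies, implies_true, and_true]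
    constructor
    · rw [show g0⁻¹ * g7 * g0 = g7 by decide +kernel]; exact mem_gen (by simp)
    · rw [show g0⁻¹ * g13 * g0 = g13 by decide +kernel]; exact mem_gen (by simp)
  have hV4 : NoEigen ρ fiveV4 := hV4r.conj swapHalves (by decide +kernel)
  have h6 : NoEigen ρ ((g0 :: []).map fun g => (g, 1)) :=
    (noEigen_C6 ρ hp (List.forall_mem_singleton.2 hV4)).mono (by decide +kernel)
  have h0 : NoEigen ρ (([] : List (alternatingGroup (Fin 10))).map fun g => (g, 1)) :=
    NoEigen.drop (a := g0) hp (by decide +kernel) (fun g hg => nomatch hg) h6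
  exact h0 1 w (fun sl hsl => nomatch hsl)

/-- In characteristic 2 every non-zero finite module of `A₉` has a non-zero vector fixed by a non-solvable
subgroup. -/
theorem eq_zero_two (ρ : AltAction 9 V) [Finite V] (hp : ∀ u : V, 2 • u = 0) (h : NoNonsolvableFixed ρ)
    (w : V) : w = 0 := by
  have hA : NoEigen ρ twoA5 := noEigen_of_perfect h perfect_twoA5
  have hB : NoEigen ρ twoA5b := noEigen_of_perfect h perfect_twoA5b
  have hL : NoEigen ρ twoL27 := noEigen_of_perfect h perfect_twoL27
  have hL' : NoEigen ρ twoL27on8 := noEigen_of_perfect h perfect_twoL27on8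
  have h8 : NoEigen ρ twoL28 := noEigen_of_perfect h perfect_twoL28
  have hLN : NoEigen ρ twoLN :=
    (noEigen_S2 ρ hp (List.forall_mem_cons.2 ⟨hA, List.forall_mem_cons.2 ⟨hB, List.forall_mem_cons.2
      ⟨hL, forall2 hL' h8⟩⟩⟩)).mono (by decide +kernel)
  have h6 : NoEigen ρ ((ek :: [eb, e4, e3, e2, e1]).map fun g => (g, 1)) :=
    (noEigen_S1 ρ hp (List.forall_mem_cons.2 ⟨hA, List.forall_mem_cons.2 ⟨hB, List.forall_mem_cons.2
      ⟨hL, forall2 hL' hLN⟩⟩⟩)).mono (by decide +kernel)
  have : Fact (Nat.Prime 2) := ⟨Nat.prime_two⟩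
  have h5 : NoEigen ρ ([eb, e4, e3, e2, e1].map fun g => (g, 1)) := by
    refine NoEigen.drop (a := ek) hp (by decide +kernel) ?_ h6
    simp only [List.forall_mem_cons, List.not_mem_nil, false_implies, implies_true, and_true]
    refine ⟨?_, ?_, ?_, ?_, ?_⟩
    · rw [show ek⁻¹ * eb * ek = eb by decide +kernel]; exact mem_gen (by simp)
    · rw [show ek⁻¹ * e4 * ek = e2 by decide +kernel]; exact mem_gen (by simp)
    · rw [show ek⁻¹ * e3 * ek = e1 by decide +kernel]; exact mem_gen (by simp)
    · rw [show ek⁻¹ * e2 * ek = e4 by decide +kernel]; exact mem_gen (by simp)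
    · rw [show ek⁻¹ * e1 * ek = e3 by decide +kernel]; exact mem_gen (by simp)
  have h4 : NoEigen ρ ([e4, e3, e2, e1].map fun g => (g, 1)) := by
    refine NoEigen.drop (a := eb) hp (by decide +kernel) ?_ h5
    simp only [List.forall_mem_cons, List.not_mem_nil, false_implies, implies_true, and_true]
    refine ⟨?_, ?_, ?_, ?_⟩
    · rw [show eb⁻¹ * e4 * eb = e3 * e4 by decide +kernel]; exact mul_mem (mem_gen (by simp)) (mem_gen (by simp))
    · rw [show eb⁻¹ * e3 * eb = e3 by decide +kernel]; exact mem_gen (by simp)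
    · rw [show eb⁻¹ * e2 * eb = e1 * e2 by decide +kernel]; exact mul_mem (mem_gen (by simp)) (mem_gen (by simp))
    · rw [show eb⁻¹ * e1 * eb = e1 by decide +kernel]; exact mem_gen (by simp)
  have h3 : NoEigen ρ ([e3, e2, e1].map fun g => (g, 1)) := by
    refine NoEigen.drop (a := e4) hp (by decide +kernel) ?_ h4
    simp only [List.forall_mem_cons, List.not_mem_nil, false_implies, implies_true, and_true]
    refine ⟨?_, ?_, ?_⟩
    · rw [show e4⁻¹ * e3 * e4 = e3 by decide +kernel]; exact mem_gen (by simp)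
    · rw [show e4⁻¹ * e2 * e4 = e2 by decide +kernel]; exact mem_gen (by simp)
    · rw [show e4⁻¹ * e1 * e4 = e1 by decide +kernel]; exact mem_gen (by simp)
  have h2 : NoEigen ρ ([e2, e1].map fun g => (g, 1)) := by
    refine NoEigen.drop (a := e3) hp (by decide +kernel) ?_ h3
    simp only [List.forall_mem_cons, List.not_mem_nil, false_implies, implies_true, and_true]
    constructor
    · rw [show e3⁻¹ * e2 * e3 = e2 by decide +kernel]; exact mem_gen (by simp)
    · rw [show e3⁻¹ * e1 * e3 = e1 by decide +kernel]; exact mem_gen (by simp)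
  have h1 : NoEigen ρ ([e1].map fun g => (g, 1)) := by
    refine NoEigen.drop (a := e2) hp (by decide +kernel) ?_ h2
    simp only [List.forall_mem_cons, List.not_mem_nil, false_implies, implies_true, and_true]
    rw [show e2⁻¹ * e1 * e2 = e1 by decide +kernel]; exact mem_gen (by simp)
  have h0 : NoEigen ρ (([] : List (alternatingGroup (Fin 9))).map fun g => (g, 1)) :=
    NoEigen.drop (a := e1) hp (by decide +kernel) (fun g hg => nomatch hg) h1
  exact h0 1 w (fun sl hsl => nomatch hsl)

end CfsgLib.AltLift
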