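import Cfsg.Agent.AltLift.Lift
import Cfsg.Agent.AltLift.Modules
import Mathlib.GroupTheory.Perm.ViaEmbedding
import Mathlib.GroupTheory.SpecificGroups.Alternating.Simple

/-!
A group mapping onto a large alternating group has a non-central `p`-element with non-solvable centraliser
(`p ≠ 3`).
-/

set_option autoImplicit false

open scoped commutatorElement Pointwise

namespace CfsgLib.AltLift

universe u

variable {G : Type u} [Group G]

theorem not_isSolvable_alternating {d : ℕ} (hd : 5 ≤ d) : ¬ Group.IsSolvable (alternatingGroup (Fin d)) := by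
  intro h
  have := alternatingGroup.isSimpleGroup (α := Fin d) (by simpa using hd)
  have hcomm := IsSimpleGroup.comm_iff_isSolvable.2 h
  let x : alternatingGroup (Fin d) :=
    dswap ⟨0, by omega⟩ ⟨1, by omega⟩ ⟨1, by omega⟩ ⟨2, by omega⟩
      (Fin.ne_of_val_ne (by simp)) (Fin.ne_of_val_ne (by simp))
  let y : alternatingGroup (Fin d) :=
    dswap ⟨2, by omega⟩ ⟨3, by omega⟩ ⟨3, by omega⟩ ⟨4, by omega⟩
      (Fin.ne_of_val_ne (by simp)) (Fin.ne_of_val_ne (by simp))
  have h1 := congrArg (fun z : alternatingGroup (Fin d) => (z : Equiv.Perm (Fin d)) ⟨1, by omega⟩) (hcomm x y)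
  simp [x, y, dswap, Equiv.swap_apply_def, Fin.ext_iff] at h1

theorem center_alternating_eq_bot {d : ℕ} (hd : 5 ≤ d) : Subgroup.center (alternatingGroup (Fin d)) = ⊥ := by
  have := alternatingGroup.isSimpleGroup (α := Fin d) (by simpa using hd)
  refine (IsSimpleGroup.eq_bot_or_eq_top_of_normal _ inferInstance).resolve_right fun h => ?_
  refine not_isSolvable_alternating hd (isSolvable_of_comm fun a b => ?_)
  exact Subgroup.mem_center_iff.1 (h.ge (Subgroup.mem_top b)) a

/-- The embedding of alternating groups along an embedding of the underlying sets. -/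
noncomputable def altEmbed {a b : ℕ} (e : Fin a ↪ Fin b) : alternatingGroup (Fin a) →* alternatingGroup (Fin b) :=
  ((Equiv.Perm.viaEmbeddingHom e).comp (alternatingGroup (Fin a)).subtype).codRestrict _ fun g => by
    rw [Equiv.Perm.mem_alternatingGroup, MonoidHom.comp_apply, Subgroup.coe_subtype,
      Equiv.Perm.viaEmbeddingHom_apply, Equiv.Perm.viaEmbedding, Equiv.Perm.sign_extendDomain]
    exact g.2

theorem altEmbed_injective {a b : ℕ} (e : Fin a ↪ Fin b) : Function.Injective (altEmbed e) := by
  intro x y h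
  exact Subtype.ext (Equiv.Perm.viaEmbeddingHom_injective e (congrArg Subtype.val h))

theorem altEmbed_apply {a b : ℕ} (e : Fin a ↪ Fin b) (g : alternatingGroup (Fin a)) (i : Fin a) :
    (altEmbed e g : Equiv.Perm (Fin b)) (e i) = e ((g : Equiv.Perm (Fin a)) i) :=
  Equiv.Perm.viaEmbedding_apply _ e i

theorem altEmbed_apply_not {a b : ℕ} (e : Fin a ↪ Fin b) (g : alternatingGroup (Fin a)) (j : Fin b)
    (hj : j ∉ Set.range e) : (altEmbed e g : Equiv.Perm (Fin b)) j = j :=
  Equiv.Perm.viaEmbedding_apply_of_notMem _ e j hj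

theorem not_solvable_range {a b : ℕ} (ha : 5 ≤ a) (e : Fin a ↪ Fin b) :
    ¬ Group.IsSolvable ↥((altEmbed e).range) := by
  intro h
  exact not_isSolvable_alternating ha (Group.isSolvable_of_isSolvable_injective
    (f := (MonoidHom.ofInjective (altEmbed_injective e)).toMonoidHom) (MulEquiv.injective _))

section Main

variable [Finite G]

/-- The action on a section of a normal `p`-subgroup inside the kernel, and its fixed vectors. -/
theorem false_of_not_central {d : ℕ} {p : ℕ} [Fact p.Prime] (π : G →* alternatingGroup (Fin d))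
    (hπ : Function.Surjective π) (hN : Group.IsNilpotent ↥π.ker) (P : Subgroup G) [P.Normal] (hPN : P ≤ π.ker)
    (hP : IsPGroup p ↥P) (hPc : ¬ P ≤ Subgroup.center G) (h : SolvableCentralizers p G)
    (hmod : ∀ (V : Type u) [AddCommGroup V] [Finite V] (ρ : AltAction d V), (∀ u : V, p • u = 0) →
      NoNonsolvableFixed ρ → ∀ w : V, w = 0) : False := by
  classical
  set Z0 := P ⊓ Subgroup.center G with hZ0
  have hZ0n : Z0.Normal := inferInstance
  obtain ⟨M, ⟨hMn, hZM, hMP⟩, hMmin⟩ :=
    exists_minimal_of_wellFoundedLT (fun M : Subgroup G => M.Normal ∧ Z0 < M ∧ M ≤ P)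
      ⟨P, inferInstance, lt_of_le_not_ge inf_le_left fun hle => hPc (hle.trans inf_le_right), le_rfl⟩
  have hmin : ∀ U : Subgroup G, U.Normal → Z0 ≤ U → U ≤ M → U = Z0 ∨ U = M := by
    intro U hU h1 h2
    rcases h1.eq_or_lt with h1 | h1
    · exact Or.inl h1.symm
    · exact Or.inr (le_antisymm h2 (hMmin ⟨hU, h1, h2.trans hMP⟩ h2))
  have hZle : Z0 ≤ Subgroup.center G := inf_le_right
  -- the kernel acts trivially
  have hMN : ⁅M, π.ker⁆ ≤ Z0 := by
    have hle : ⁅M, π.ker⁆ ⊔ Z0 ≤ M := sup_le (Subgroup.commutator_le_left M π.ker) hZM.le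
    rcases hmin _ inferInstance le_sup_right hle with h1 | h1
    · exact le_sup_left.trans h1.le
    · exact absurd (le_of_eq_commutator_sup hN (hMP.trans hPN) hZle h1.ge) (not_le_of_gt hZM)
  have hMM : ∀ a ∈ M, ∀ b ∈ M, ⁅a, b⁆ ∈ Z0 := fun a ha b hb =>
    hMN (Subgroup.commutator_mem_commutator ha (hPN (hMP hb)))
  have hZ0M : (Z0.subgroupOf M).Normal := inferInstance
  let Q := ↥M ⧸ Z0.subgroupOf M
  have hQcomm : ∀ a b : Q, a * b = b * a := by
    intro a b
    induction a using QuotientGroup.induction_on with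
    | H a =>
      induction b using QuotientGroup.induction_on with
      | H b =>
        rw [← QuotientGroup.mk_mul, ← QuotientGroup.mk_mul, QuotientGroup.eq, Subgroup.mem_subgroupOf]
        have := hMM (b : G)⁻¹ (inv_mem b.2) (a : G)⁻¹ (inv_mem a.2)
        rw [commutatorElement_def, inv_inv, inv_inv] at this
        push_cast
        rwa [mul_inv_rev, ← mul_assoc]
  let : CommGroup Q := { (inferInstance : Group Q) with mul_comm := hQcomm }
  have hpow : ∀ x : Q, x ^ p = 1 := by
    -- the elements whose p-th power lies in Z0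
    let U : Subgroup G :=
      { carrier := {x | x ∈ M ∧ x ^ p ∈ Z0}
        one_mem' := ⟨one_mem _, by rw [one_pow]; exact one_mem _⟩
        mul_mem' := fun {x y} hx hy => ⟨mul_mem hx.1 hy.1, by
          have h1 : (QuotientGroup.mk (⟨x, hx.1⟩ : ↥M) : Q) ^ p = 1 := by
            rw [← QuotientGroup.mk_pow, QuotientGroup.eq_one_iff, Subgroup.mem_subgroupOf]
            simpa using hx.2
          have h2 : (QuotientGroup.mk (⟨y, hy.1⟩ : ↥M) : Q) ^ p = 1 := by
            rw [← QuotientGroup.mk_pow, QuotientGroup.eq_one_iff, Subgroup.mem_subgroupOf]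
            simpa using hy.2
          have h3 : (QuotientGroup.mk ((⟨x, hx.1⟩ : ↥M) * ⟨y, hy.1⟩) : Q) ^ p = 1 := by
            rw [QuotientGroup.mk_mul, mul_pow, h1, h2, one_mul]
          rw [← QuotientGroup.mk_pow, QuotientGroup.eq_one_iff, Subgroup.mem_subgroupOf] at h3
          simpa using h3⟩
        inv_mem' := fun {x} hx => ⟨inv_mem hx.1, by rw [inv_pow]; exact inv_mem hx.2⟩ }
    have hUn : U.Normal := ⟨fun x hx g => ⟨hMn.conj_mem x hx.1 g, by
      rw [conj_pow]; exact hZ0n.conj_mem _ hx.2 g⟩⟩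
    have hZU : Z0 ≤ U := fun z hz => ⟨hZM.le hz, pow_mem hz p⟩
    obtain ⟨m, hm, hmZ⟩ := SetLike.exists_of_lt hZM
    have hex : ∃ x ∈ U, x ∉ Z0 := by
      obtain ⟨k, hk⟩ := hP ⟨m, hMP hm⟩
      have hk' : m ^ p ^ k ∈ Z0 := by
        have := congrArg Subtype.val hk
        simp only [SubgroupClass.coe_pow, OneMemClass.coe_one] at this
        rw [this]; exact one_mem _
      clear hk
      induction k generalizing m with
      | zero => exact absurd (by simpa using hk') hmZ
      | succ k ih =>
          by_cases hmp : m ^ p ∈ Z0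
          · exact ⟨m, ⟨hm, hmp⟩, hmZ⟩
          · exact ih (m ^ p) (pow_mem hm p) hmp (by rwa [← pow_mul, ← pow_succ'])
    have hUM : U = M := by
      rcases hmin U hUn hZU (fun x hx => hx.1) with h1 | h1
      · obtain ⟨x, hx, hx'⟩ := hex
        exact absurd (h1 ▸ hx) hx'
      · exact h1
    intro x
    induction x using QuotientGroup.induction_on with
    | H x =>
      rw [← QuotientGroup.mk_pow, QuotientGroup.eq_one_iff, Subgroup.mem_subgroupOf]
      have : (x : G) ∈ U := hUM.ge x.2
      simpa using this.2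
  -- the action
  let cg : G → (↥M →* ↥M) := fun g => (MulAut.conjNormal g : MulAut ↥M).toMonoidHom
  have hcg : ∀ g : G, Z0.subgroupOf M ≤ (Z0.subgroupOf M).comap (cg g) := fun g x hx => by
    rw [Subgroup.mem_comap, Subgroup.mem_subgroupOf]
    change ((MulAut.conjNormal g x : ↥M) : G) ∈ Z0
    rw [MulAut.conjNormal_apply]
    exact hZ0n.conj_mem _ hx g
  let act : G → (Q →* Q) := fun g => QuotientGroup.map _ _ (cg g) (hcg g)
  have hact : ∀ (g : G) (x : ↥M), act g (QuotientGroup.mk x) = QuotientGroup.mk (MulAut.conjNormal g x) :=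
    fun g x => QuotientGroup.map_mk _ _ _ _ x
  let φ : G →* MulAut Q :=
    { toFun := fun g =>
        { toFun := act g
          invFun := act g⁻¹
          left_inv := fun x => by
            induction x using QuotientGroup.induction_on with
            | H x => rw [hact, hact, ← MulAut.mul_apply, ← map_mul, inv_mul_cancel, map_one]; rfl
          right_inv := fun x => by
            induction x using QuotientGroup.induction_on with
            | H x => rw [hact, hact, ← MulAut.mul_apply, ← map_mul, mul_inv_cancel, map_one]; rfl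
          map_mul' := map_mul (act g) }
      map_one' := MulEquiv.ext fun x => by
        induction x using QuotientGroup.induction_on with
        | H x =>
          show act 1 (QuotientGroup.mk x) = QuotientGroup.mk x
          rw [hact, map_one]; rfl
      map_mul' := fun a b => MulEquiv.ext fun x => by
        induction x using QuotientGroup.induction_on with
        | H x =>
          show act (a * b) (QuotientGroup.mk x) = act a (act b (QuotientGroup.mk x))
          rw [hact, hact, hact, map_mul]; rfl }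
  have hker : π.ker ≤ φ.ker := by
    intro g hg
    refine MonoidHom.mem_ker.2 (MulEquiv.ext fun x => ?_)
    induction x using QuotientGroup.induction_on with
    | H x =>
      show act g (QuotientGroup.mk x) = QuotientGroup.mk x
      rw [hact, eq_comm, QuotientGroup.eq, Subgroup.mem_subgroupOf]
      push_cast
      rw [MulAut.conjNormal_apply]
      have := hMN (Subgroup.commutator_mem_commutator (inv_mem x.2) hg)
      rw [commutatorElement_def, inv_inv] at this
      simpa only [mul_assoc] using this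
  let φ' : alternatingGroup (Fin d) →* MulAut Q := π.liftOfSurjective hπ ⟨φ, hker⟩
  have hφ' : ∀ g : G, φ' (π g) = φ g := fun g => π.liftOfRightInverse_comp_apply _ (Function.rightInverse_surjInv hπ) ⟨φ, hker⟩ g
  let toEnd : MulAut Q →* AddMonoid.End (Additive Q) :=
    { toFun := fun e => MonoidHom.toAdditive e.toMonoidHom
      map_one' := rfl
      map_mul' := fun _ _ => rfl }
  let ρ : AltAction d (Additive Q) := toEnd.comp φ'
  have hVp : ∀ u : Additive Q, p • u = 0 := fun u => hpow u.toMul
  refine absurd (hmod (Additive Q) ρ hVp ?_) ?_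
  · intro S hS w hw
    by_contra hw0
    obtain ⟨x, hx⟩ := QuotientGroup.mk_surjective w.toMul
    have hxZ : (x : G) ∉ Z0 := fun hZ => hw0 (by
      have : (QuotientGroup.mk x : Q) = 1 := (QuotientGroup.eq_one_iff x).2 hZ
      rw [hx] at this
      exact this)
    have hS' : ¬ Group.IsSolvable ↥(S.comap π) :=
      not_solvable_of_map π (Subgroup.map_comap_eq_self_of_surjective hπ S) hS
    have hcent : ∀ g ∈ S.comap π, g * x * g⁻¹ * (x : G)⁻¹ ∈ Subgroup.center G := by
      intro g hg
      have h1 : φ' (π g) (QuotientGroup.mk x) = (QuotientGroup.mk x : Q) := by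
        rw [hx]; exact congrArg Additive.toMul (hw _ hg)
      rw [hφ'] at h1
      replace h1 : act g (QuotientGroup.mk x) = (QuotientGroup.mk x : Q) := h1
      rw [hact] at h1
      have h2 := QuotientGroup.eq.1 h1.symm
      rw [Subgroup.mem_subgroupOf] at h2
      push_cast at h2
      rw [MulAut.conjNormal_apply] at h2
      have h3 := hZle h2
      have : g * x * g⁻¹ * (x : G)⁻¹ = (x : G) * ((x : G)⁻¹ * (g * x * g⁻¹)) * (x : G)⁻¹ := by group
      rw [this, Subgroup.mem_center_iff.1 h3 (x : G), mul_inv_cancel_right]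
      exact h3
    refine not_solvable_centralizer hS' hcent (h _ (fun hc => hxZ ⟨hMP x.2, hc⟩) ?_)
    obtain ⟨k, hk⟩ := IsPGroup.iff_orderOf.1 hP ⟨x, hMP x.2⟩
    exact ⟨k, by rw [← hk, Subgroup.orderOf_mk]⟩
  · intro hall
    obtain ⟨m, hm, hmZ⟩ := SetLike.exists_of_lt hZM
    exact hmZ (Subgroup.mem_subgroupOf.1 ((QuotientGroup.eq_one_iff (⟨m, hm⟩ : ↥M)).1
      (congrArg Additive.toMul (hall (Additive.ofMul (QuotientGroup.mk (⟨m, hm⟩ : ↥M)))))))

/-- The main reduction. -/
theorem false_of_minimal {d : ℕ} (hd : 5 ≤ d) {p : ℕ} [Fact p.Prime] (π : G →* alternatingGroup (Fin d))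
    (hπ : Function.Surjective π) (hker : π.ker ≤ frattini G) (h : SolvableCentralizers p G)
    (σ : alternatingGroup (Fin d)) (hσp : σ ^ p = 1) (hσ1 : σ ≠ 1) (S : Subgroup (alternatingGroup (Fin d)))
    (hS : ¬ Group.IsSolvable ↥S) (hSσ : ∀ s ∈ S, s * σ = σ * s)
    (halt : (¬ p ∣ Nat.card ↥S) ∨ (∀ (V : Type u) [AddCommGroup V] [Finite V] (ρ : AltAction d V),
      (∀ u : V, p • u = 0) → NoNonsolvableFixed ρ → ∀ w : V, w = 0)) : False := by
  have hN : Group.IsNilpotent ↥π.ker := by
    have := frattini_nilpotent (G := G)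
    exact (Group.isNilpotent_congr (Subgroup.subgroupOfEquivOfLe hker)).1 inferInstance
  obtain ⟨P, hPN, hPn, hP, hPmax, hPidx⟩ := exists_pPart p π.ker hN
  have hσpow : ∀ k : ℕ, σ ^ p ^ (k + 1) = 1 := fun k => by rw [pow_succ', pow_mul, hσp, one_pow]
  obtain ⟨T, hT, hTσ, ⟨x, hxT, hxσ⟩, hY, hTmax⟩ := exists_sylow_data p π hπ σ hσp S hSσ
  have hPT : P ≤ T := hTmax P hPn hPN hP
  set Y := Subgroup.normalizer (T : Set G) ⊓ S.comap π with hYdef
  have hxnc : ∀ n ∈ P, n * x ∉ Subgroup.center G := by
    intro n hn hc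
    have : σ ∈ Subgroup.center (alternatingGroup (Fin d)) := by
      rw [Subgroup.mem_center_iff]
      intro a
      obtain ⟨g, rfl⟩ := hπ a
      have := congrArg π (Subgroup.mem_center_iff.1 hc g)
      simp only [map_mul, MonoidHom.mem_ker.1 (hPN hn), one_mul, hxσ] at this
      exact this
    rw [center_alternating_eq_bot hd] at this
    exact hσ1 (Subgroup.mem_bot.1 this)
  have hxp : ∀ n ∈ P, ∃ k : ℕ, orderOf (n * x) = p ^ k := by
    intro n hn
    obtain ⟨k, hk⟩ := IsPGroup.iff_orderOf.1 hT ⟨n * x, mul_mem (hPT hn) hxT⟩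
    exact ⟨k, by rw [← hk, Subgroup.orderOf_mk]⟩
  have hcomm : ∀ y ∈ Y, ∀ n ∈ P, y * (n * x) * y⁻¹ * (n * x)⁻¹ ∈ P := by
    intro y hy n hn
    have hyS : π y ∈ S := hy.2
    have hnx : n * x ∈ T := mul_mem (hPT hn) hxT
    have h1 : y * (n * x) * y⁻¹ * (n * x)⁻¹ ∈ T ⊓ π.ker := by
      refine ⟨mul_mem ((Subgroup.mem_normalizer_iff.1 hy.1 _).1 hnx) (T.inv_mem hnx), ?_⟩
      show π (y * (n * x) * y⁻¹ * (n * x)⁻¹) = 1
      rw [map_mul, map_mul, map_mul, map_inv, map_inv, map_mul,
        MonoidHom.mem_ker.1 (hPN hn), one_mul, hxσ, hSσ _ hyS, mul_inv_cancel_right, mul_inv_cancel]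
    exact hPmax (T ⊓ π.ker) inf_le_right (hT.to_le inf_le_left) h1
  rcases halt with hcop | hmod
  · -- coprime action
    set PY := P.subgroupOf Y
    have hidx : ¬ p ∣ PY.index := by
      obtain ⟨Q, hQ⟩ := (hP.comap_of_injective Y.subtype Y.subtype_injective).exists_le_sylow
      have hQP : (Q : Subgroup ↥Y) ≤ PY := by
        intro q hq
        have hQG : IsPGroup p ↥((Q : Subgroup ↥Y).map Y.subtype) := Q.2.map _
        refine hPmax _ ?_ hQG ⟨q, hq, rfl⟩
        rintro _ ⟨r, hr, rfl⟩
        have h1 : IsPGroup p ↥(((Q : Subgroup ↥Y).map Y.subtype).map π) := hQG.map _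
        have h2 : ((Q : Subgroup ↥Y).map Y.subtype).map π ≤ S := by
          rintro _ ⟨_, ⟨u, -, rfl⟩, rfl⟩; exact u.2.2
        obtain ⟨k, hk⟩ := IsPGroup.iff_card.1 h1
        have h3 : k = 0 := by
          by_contra h0
          exact hcop (((dvd_pow_self p h0).trans (dvd_of_eq hk.symm)).trans (Subgroup.card_dvd_of_le h2))
        rw [h3, pow_zero, Subgroup.card_eq_one] at hk
        exact Subgroup.mem_bot.1 (hk ▸ ⟨_, ⟨r, hr, rfl⟩, rfl⟩)
      have e : PY = (Q : Subgroup ↥Y) := le_antisymm hQ hQP
      rw [e]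
      exact Q.not_dvd_index
    have hcop' : (Nat.card ↥PY).Coprime PY.index := by
      obtain ⟨k, hk⟩ := IsPGroup.iff_card.1 (hP.comap_of_injective Y.subtype Y.subtype_injective)
      change (Nat.card ↥(P.subgroupOf Y)).Coprime _
      rw [show P.subgroupOf Y = P.comap Y.subtype from rfl, hk]
      exact ((Fact.out : p.Prime).coprime_iff_not_dvd.2 hidx).pow_left k
    obtain ⟨L', hL'⟩ := Subgroup.exists_right_complement'_of_coprime hcop'
    set L := L'.map Y.subtype
    have hLY : L ≤ Y := Subgroup.map_subtype_le _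
    have hLcard : ¬ p ∣ Nat.card ↥L := by
      rw [Subgroup.card_map_of_injective Y.subtype_injective, ← hL'.symm.index_eq_card]
      exact hidx
    obtain ⟨n, hn, hfix⟩ := exists_commute_in_coset P L hP hLcard x (fun l hl => by
      have h1 := hcomm l (hLY hl) 1 (one_mem _)
      rw [one_mul] at h1
      have h2 : x * l * x⁻¹ * l⁻¹ = (l * x * l⁻¹ * x⁻¹)⁻¹ := by group
      rw [h2]; exact inv_mem h1)
    have hLS : L.map π = S := by
      refine le_antisymm ((Subgroup.map_mono hLY).trans hY.le) fun s hs => ?_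
      rw [← hY] at hs
      obtain ⟨y, hy, rfl⟩ := hs
      obtain ⟨⟨a, b⟩, hab, -⟩ := hL'.existsUnique (⟨y, hy⟩ : ↥Y)
      refine ⟨((b : ↥Y) : G), ⟨_, b.2, rfl⟩, ?_⟩
      have h1 : ((a : ↥Y) : G) * ((b : ↥Y) : G) = y := congrArg Subtype.val hab
      have ha : π ((a : ↥Y) : G) = 1 := MonoidHom.mem_ker.1 (hPN a.2)
      rw [← h1, map_mul, ha, one_mul]
    refine not_solvable_centralizer (not_solvable_of_map π hLS hS) (m := n * x) (fun l hl => ?_)
      (h _ (hxnc n hn) (hxp n hn))
    rw [← hfix l hl, mul_inv_cancel_right, mul_inv_cancel]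
    exact one_mem _
  · by_cases hPc : P ≤ Subgroup.center G
    · refine not_solvable_centralizer (not_solvable_of_map π hY hS) (m := x) (fun y hy => ?_) ?_
      · have := hcomm y hy 1 (one_mem _)
        rw [one_mul] at this
        exact hPc this
      · have h1 := h x (by simpa using hxnc 1 (one_mem _)) (by simpa using hxp 1 (one_mem _))
        exact h1
    · exact false_of_not_central π hπ hN P hPN hP hPc h hmod

end Main

end CfsgLib.AltLift
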