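import Cfsg.Agent.AltLift.Sound

/-! The elements and patterns used by the certificates. -/

set_option autoImplicit false

namespace CfsgLib.AltLift

/-- A product of two transpositions, as an even permutation. -/
def dswap {n : ℕ} (a b c d : Fin n) (hab : a ≠ b) (hcd : c ≠ d) : alternatingGroup (Fin n) :=
  ⟨Equiv.swap a b * Equiv.swap c d, by
    rw [Equiv.Perm.mem_alternatingGroup, map_mul, Equiv.Perm.sign_swap hab, Equiv.Perm.sign_swap hcd]
    rfl⟩

namespace Pat

/-- The permutation with images [1, 2, 3, 4, 0, 5, 6, 7, 8, 9]. -/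
def g0 : alternatingGroup (Fin 10) := dswap (0 : Fin 10) 1 1 2 (by decide) (by decide) * dswap (2 : Fin 10) 3 3 4 (by decide) (by decide)

/-- The permutation with images [1, 2, 0, 3, 4, 5, 6, 7, 8, 9]. -/
def g1 : alternatingGroup (Fin 10) := dswap (0 : Fin 10) 1 1 2 (by decide) (by decide)

/-- The permutation with images [1, 2, 3, 4, 0, 6, 7, 8, 9, 5]. -/
def g2 : alternatingGroup (Fin 10) := dswap (0 : Fin 10) 1 1 2 (by decide) (by decide) * dswap (2 : Fin 10) 3 3 4 (by decide) (by decide) * dswap (5 : Fin 10) 6 6 7 (by decide) (by decide) * dswap (7 : Fin 10) 8 8 9 (by decide) (by decide)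

/-- The permutation with images [1, 2, 0, 3, 4, 6, 7, 5, 8, 9]. -/
def g3 : alternatingGroup (Fin 10) := dswap (0 : Fin 10) 1 1 2 (by decide) (by decide) * dswap (5 : Fin 10) 6 6 7 (by decide) (by decide)

/-- The permutation with images [0, 1, 2, 3, 4, 6, 7, 8, 9, 5]. -/
def g4 : alternatingGroup (Fin 10) := dswap (5 : Fin 10) 6 6 7 (by decide) (by decide) * dswap (7 : Fin 10) 8 8 9 (by decide) (by decide)

/-- The permutation with images [0, 1, 2, 3, 4, 6, 7, 5, 8, 9]. -/
def g5 : alternatingGroup (Fin 10) := dswap (5 : Fin 10) 6 6 7 (by decide) (by decide)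

/-- The permutation with images [1, 0, 3, 2, 4, 5, 6, 7, 8, 9]. -/
def g6 : alternatingGroup (Fin 10) := dswap (0 : Fin 10) 1 2 3 (by decide) (by decide)

/-- The permutation with images [0, 1, 2, 3, 4, 5, 7, 6, 9, 8]. -/
def g7 : alternatingGroup (Fin 10) := dswap (6 : Fin 10) 7 8 9 (by decide) (by decide)

/-- The permutation with images [0, 1, 2, 3, 4, 5, 7, 8, 6, 9]. -/
def g8 : alternatingGroup (Fin 10) := dswap (6 : Fin 10) 7 7 8 (by decide) (by decide)

/-- The permutation with images [5, 4, 2, 3, 1, 0, 6, 7, 8, 9]. -/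
def g9 : alternatingGroup (Fin 10) := dswap (0 : Fin 10) 5 1 4 (by decide) (by decide)

/-- The permutation with images [0, 4, 3, 2, 1, 5, 6, 7, 8, 9]. -/
def g10 : alternatingGroup (Fin 10) := dswap (1 : Fin 10) 4 2 3 (by decide) (by decide)

/-- The permutation with images [0, 1, 2, 4, 5, 3, 6, 7, 8, 9]. -/
def g11 : alternatingGroup (Fin 10) := dswap (3 : Fin 10) 4 4 5 (by decide) (by decide)

/-- The permutation with images [2, 3, 0, 1, 4, 5, 6, 7, 8, 9]. -/
def g12 : alternatingGroup (Fin 10) := dswap (0 : Fin 10) 2 1 3 (by decide) (by decide)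

/-- The permutation with images [0, 1, 2, 3, 4, 5, 8, 9, 6, 7]. -/
def g13 : alternatingGroup (Fin 10) := dswap (6 : Fin 10) 8 7 9 (by decide) (by decide)

/-- The permutation with images [1, 2, 3, 4, 0, 5, 6, 7, 8]. -/
def g14 : alternatingGroup (Fin 9) := dswap (0 : Fin 9) 1 1 2 (by decide) (by decide) * dswap (2 : Fin 9) 3 3 4 (by decide) (by decide)

/-- The permutation with images [1, 2, 0, 3, 4, 5, 6, 7, 8]. -/
def g15 : alternatingGroup (Fin 9) := dswap (0 : Fin 9) 1 1 2 (by decide) (by decide)

/-- The permutation with images [5, 4, 2, 3, 1, 0, 6, 7, 8]. -/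
def g16 : alternatingGroup (Fin 9) := dswap (0 : Fin 9) 5 1 4 (by decide) (by decide)

/-- The permutation with images [1, 2, 3, 4, 5, 6, 0, 7, 8]. -/
def g17 : alternatingGroup (Fin 9) := dswap (0 : Fin 9) 1 1 2 (by decide) (by decide) * dswap (2 : Fin 9) 3 3 4 (by decide) (by decide) * dswap (4 : Fin 9) 5 5 6 (by decide) (by decide)

/-- The permutation with images [0, 2, 1, 6, 4, 5, 3, 7, 8]. -/
def g18 : alternatingGroup (Fin 9) := dswap (1 : Fin 9) 2 3 6 (by decide) (by decide)

/-- The permutation with images [7, 6, 3, 2, 5, 4, 1, 0, 8]. -/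
def g19 : alternatingGroup (Fin 9) := dswap (0 : Fin 9) 7 1 6 (by decide) (by decide) * dswap (2 : Fin 9) 3 4 5 (by decide) (by decide)

/-- The permutation with images [2, 1, 0, 3, 6, 5, 4, 7, 8]. -/
def g20 : alternatingGroup (Fin 9) := dswap (0 : Fin 9) 2 4 6 (by decide) (by decide)

/-- The permutation with images [6, 4, 7, 5, 3, 1, 2, 0, 8]. -/
def g21 : alternatingGroup (Fin 9) := dswap (0 : Fin 9) 6 1 4 (by decide) (by decide) * dswap (2 : Fin 9) 7 3 5 (by decide) (by decide) * dswap (4 : Fin 9) 5 6 7 (by decide) (by decide)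

/-- The permutation with images [0, 2, 3, 4, 5, 6, 7, 1, 8]. -/
def g22 : alternatingGroup (Fin 9) := dswap (1 : Fin 9) 2 2 3 (by decide) (by decide) * dswap (3 : Fin 9) 4 4 5 (by decide) (by decide) * dswap (5 : Fin 9) 6 6 7 (by decide) (by decide)

/-- The permutation with images [1, 0, 2, 3, 5, 4, 6, 7, 8]. -/
def g23 : alternatingGroup (Fin 9) := dswap (0 : Fin 9) 1 4 5 (by decide) (by decide)

/-- The permutation with images [2, 3, 0, 1, 4, 5, 6, 7, 8]. -/
def g24 : alternatingGroup (Fin 9) := dswap (0 : Fin 9) 2 1 3 (by decide) (by decide)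

/-- The permutation with images [4, 5, 6, 7, 0, 1, 2, 3, 8]. -/
def g25 : alternatingGroup (Fin 9) := dswap (0 : Fin 9) 4 1 5 (by decide) (by decide) * dswap (2 : Fin 9) 6 3 7 (by decide) (by decide)

/-- The permutation with images [1, 0, 3, 2, 5, 4, 7, 6, 8]. -/
def g26 : alternatingGroup (Fin 9) := dswap (0 : Fin 9) 1 2 3 (by decide) (by decide) * dswap (4 : Fin 9) 5 6 7 (by decide) (by decide)

/-- The permutation with images [0, 2, 4, 6, 3, 1, 7, 5, 8]. -/
def g27 : alternatingGroup (Fin 9) := dswap (1 : Fin 9) 2 2 4 (by decide) (by decide) * dswap (3 : Fin 9) 6 4 6 (by decide) (by decide) * dswap (5 : Fin 9) 6 6 7 (by decide) (by decide)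

/-- The permutation with images [8, 1, 5, 6, 7, 2, 3, 4, 0]. -/
def g28 : alternatingGroup (Fin 9) := dswap (0 : Fin 9) 8 2 5 (by decide) (by decide) * dswap (3 : Fin 9) 6 4 7 (by decide) (by decide)

/-- The permutation with images [1, 2, 3, 4, 5, 6, 7, 8, 0]. -/
def g29 : alternatingGroup (Fin 9) := dswap (0 : Fin 9) 1 1 2 (by decide) (by decide) * dswap (2 : Fin 9) 3 3 4 (by decide) (by decide) * dswap (4 : Fin 9) 5 5 6 (by decide) (by decide) * dswap (6 : Fin 9) 7 7 8 (by decide) (by decide)

/-- Pattern A5. -/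
def fiveA5 : Pattern 10 := [(g0, 1), (g1, 1)]

/-- Pattern D. -/
def fiveD : Pattern 10 := [(g2, 1), (g3, 1)]

/-- Generators of the ambient group of certificate C1. -/
def hC1 : List (alternatingGroup (Fin 10)) := [g0, g1, g4, g5]

/-- Generators of the stabiliser of certificate C1. -/
def rC1 : List (alternatingGroup (Fin 10)) := [g6, g1, g7, g8]

/-- Generators of the ambient group of certificate C2. -/
def hC2 : List (alternatingGroup (Fin 10)) := [g0, g1, g4, g5]

/-- Generators of the stabiliser of certificate C2. -/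
def rC2 : List (alternatingGroup (Fin 10)) := [g0, g7, g8]

/-- Pattern A5b. -/
def fiveA5b : Pattern 10 := [(g0, 1), (g9, 1)]

/-- Pattern A4A4. -/
def fiveA4A4 : Pattern 10 := [(g6, 1), (g1, 1), (g7, 1), (g8, 1)]

/-- Pattern FT. -/
def fiveFT : Pattern 10 := [(g0, 1), (g10, 4), (g7, 1), (g8, 1)]

/-- Generators of the ambient group of certificate C3. -/
def hC3 : List (alternatingGroup (Fin 10)) := [g0, g11]

/-- Generators of the stabiliser of certificate C3. -/
def rC3 : List (alternatingGroup (Fin 10)) := [g0, g7, g8]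

/-- Pattern A4. -/
def fiveA4 : Pattern 10 := [(g6, 1), (g1, 1)]

/-- Generators of the ambient group of certificate C4. -/
def hC4 : List (alternatingGroup (Fin 10)) := [g0, g1, g4, g5]

/-- Generators of the stabiliser of certificate C4. -/
def rC4 : List (alternatingGroup (Fin 10)) := [g6, g12, g7, g13]

/-- Pattern V4V4. -/
def fiveV4V4 : Pattern 10 := [(g6, 1), (g12, 1), (g7, 1), (g13, 1)]

/-- Generators of the ambient group of certificate C5. -/
def hC5 : List (alternatingGroup (Fin 10)) := [g0, g11]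

/-- Generators of the stabiliser of certificate C5. -/
def rC5 : List (alternatingGroup (Fin 10)) := [g0, g7, g13]

/-- Pattern V4. -/
def fiveV4 : Pattern 10 := [(g6, 1), (g12, 1)]

/-- Generators of the ambient group of certificate C6. -/
def hC6 : List (alternatingGroup (Fin 10)) := [g0, g11]

/-- Generators of the stabiliser of certificate C6. -/
def rC6 : List (alternatingGroup (Fin 10)) := [g0]

/-- Pattern A5. -/
def twoA5 : Pattern 9 := [(g14, 1), (g15, 1)]

/-- Pattern A5b. -/
def twoA5b : Pattern 9 := [(g14, 1), (g16, 1)]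

/-- Pattern L27. -/
def twoL27 : Pattern 9 := [(g17, 1), (g18, 1)]

/-- Pattern L27on8. -/
def twoL27on8 : Pattern 9 := [(g17, 1), (g19, 1)]

/-- Pattern LN. -/
def twoLN : Pattern 9 := [(g20, 1), (g21, 1)]

/-- Generators of the ambient group of certificate S1. -/
def hS1 : List (alternatingGroup (Fin 9)) := [g22, g15]

/-- Generators of the stabiliser of certificate S1. -/
def rS1 : List (alternatingGroup (Fin 9)) := [g23, g24, g25]

/-- Pattern L28. -/
def twoL28 : Pattern 9 := [(g26, 1), (g27, 1), (g28, 1)]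

/-- Generators of the ambient group of certificate S2. -/
def hS2 : List (alternatingGroup (Fin 9)) := [g29, g15]

/-- Generators of the stabiliser of certificate S2. -/
def rS2 : List (alternatingGroup (Fin 9)) := [g20, g21]

/-- The inverted involution of C2. -/
def eC2 : Pattern 10 := [(g10, 4)]

end Pat

end CfsgLib.AltLift
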