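import Cfsg.Agent.AltLift.Patterns
import Mathlib.GroupTheory.Solvable
import Mathlib.GroupTheory.PGroup

/-!
Patterns generating perfect subgroups, and the fixed vector of an element of `p`-power order.
-/

set_option autoImplicit false
set_option maxRecDepth 10000

open scoped commutatorElement

namespace CfsgLib.AltLift

variable {n : ℕ} {V : Type*} [AddCommGroup V]

/-- No non-zero vector is fixed by a non-solvable subgroup. -/
def NoNonsolvableFixed (ρ : AltAction n V) : Prop :=
  ∀ S : Subgroup (alternatingGroup (Fin n)), ¬ Group.IsSolvable ↥S → ∀ w : V, (∀ g ∈ S, ρ g w = w) → w = 0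

/-- Every generator is a commutator of elements of the generated subgroup and some generator is non-trivial. -/
structure IsPerfectPattern (gens : List (alternatingGroup (Fin n))) : Prop where
  ne_one : ∃ g ∈ gens, g ≠ 1
  comm : ∀ g ∈ gens, ∃ x ∈ Submonoid.closure {a | a ∈ gens}, ∃ y ∈ Submonoid.closure {a | a ∈ gens}, g = ⁅x, y⁆

theorem not_isSolvable_closure {G : Type*} [Group G] {s : Set G} (hne : ∃ g ∈ s, g ≠ 1)
    (hcomm : ∀ g ∈ s, ∃ x ∈ Subgroup.closure s, ∃ y ∈ Subgroup.closure s, g = ⁅x, y⁆) :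
    ¬ Group.IsSolvable ↥(Subgroup.closure s) := by
  intro hsol
  have hle : Subgroup.closure s ≤ ⁅Subgroup.closure s, Subgroup.closure s⁆ := by
    rw [Subgroup.closure_le]
    intro g hg
    obtain ⟨x, hx, y, hy, rfl⟩ := hcomm g hg
    exact Subgroup.commutator_mem_commutator hx hy
  have hne' : Subgroup.closure s ≠ ⊥ := by
    obtain ⟨g, hg, hg1⟩ := hne
    exact fun h => hg1 (Subgroup.mem_bot.1 (h ▸ Subgroup.subset_closure hg))
  have : Nontrivial ↥(Subgroup.closure s) := (Subgroup.nontrivial_iff_ne_bot _).2 hne'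
  refine (Group.IsSolvable.commutator_lt_top_of_nontrivial ↥(Subgroup.closure s)).ne ?_
  rw [commutator_def]
  refine (Subgroup.map_injective (Subgroup.closure s).subtype_injective) ?_
  rw [Subgroup.map_commutator, ← MonoidHom.range_eq_map, Subgroup.range_subtype]
  exact le_antisymm (Subgroup.commutator_le_self _) hle

theorem noEigen_of_perfect {ρ : AltAction n V} (h : NoNonsolvableFixed ρ) {gens : List (alternatingGroup (Fin n))}
    (hg : IsPerfectPattern gens) : NoEigen ρ (gens.map fun g => (g, 1)) := by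
  intro c w hw
  refine h ((Subgroup.closure {a | a ∈ gens}).map (conjAltHom c)) ?_ w ?_
  · intro hsol
    refine not_isSolvable_closure (s := {a | a ∈ gens}) hg.ne_one (fun g hgm => ?_) ?_
    · obtain ⟨x, hx, y, hy, e⟩ := hg.comm g hgm
      exact ⟨x, Submonoid.closure_le.2 Subgroup.subset_closure hx,
        y, Submonoid.closure_le.2 Subgroup.subset_closure hy, e⟩
    · have hinj : Function.Injective (conjAltHom (n := n) c) := by
        intro a b hab
        have h1 := congrArg (fun z : alternatingGroup (Fin n) => (z : Equiv.Perm (Fin n))) hab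
        simp only [conjAltHom, conjAlt, MonoidHom.coe_mk, OneHom.coe_mk, mul_left_inj, mul_right_inj] at h1
        exact Subtype.ext h1
      exact solvable_of_solvable_injective
        (f := (((Subgroup.closure {a | a ∈ gens}).equivMapOfInjective _ hinj).toMonoidHom))
        (MulEquiv.injective _)
  · rintro _ ⟨g, hgm, rfl⟩
    induction hgm using Subgroup.closure_induction with
    | mem x hx =>
        have := hw (x, 1) (List.mem_map.2 ⟨x, hx, rfl⟩)
        rwa [one_smul] at this
    | one => rw [map_one, map_one]; rfl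
    | mul x y _ _ hx hy => rw [map_mul, end_mul, hy, hx]
    | inv x _ hx =>
        conv_lhs => arg 2; rw [← hx]
        rw [← end_mul, map_inv, inv_mul_cancel, map_one]
        rfl

/-- A pattern whose entries are among those of another one. -/
theorem NoEigen.mono {ρ : AltAction n V} {pat pat' : Pattern n} (h : NoEigen ρ pat)
    (hsub : ∀ sl ∈ pat, sl ∈ pat') : NoEigen ρ pat' :=
  fun c w hw => h c w fun sl hsl => hw sl (hsub sl hsl)

/-- A conjugate of a pattern. -/
theorem NoEigen.conj {ρ : AltAction n V} {pat pat' : Pattern n} (h : NoEigen ρ pat) (c : Equiv.Perm (Fin n))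
    (hsub : ∀ sl ∈ pat, (conjAlt c sl.1, sl.2) ∈ pat') : NoEigen ρ pat' := by
  intro d w hw
  refine h (d * c) w fun sl hsl => ?_
  rw [← conjAlt_conjAlt]
  exact hw _ (hsub sl hsl)

/-- An element of `p`-power order normalizing a pattern fixes a non-zero eigenvector. -/
theorem NoEigen.drop {ρ : AltAction n V} [Finite V] {p : ℕ} [Fact p.Prime] (hp : ∀ u : V, p • u = 0)
    {gens : List (alternatingGroup (Fin n))} {a : alternatingGroup (Fin n)} (ha : a ^ p = 1)
    (hnorm : ∀ g ∈ gens, a⁻¹ * g * a ∈ Submonoid.closure {x | x ∈ gens})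
    (h : NoEigen ρ ((a :: gens).map fun g => (g, 1))) : NoEigen ρ (gens.map fun g => (g, 1)) := by
  intro c
  have hmem : ∀ u, (∀ g ∈ gens, ρ (conjAlt c g) u = u) → ∀ g ∈ gens, ρ (conjAlt c g) (ρ (conjAlt c a) u) = ρ (conjAlt c a) u := by
    intro u hu g hg
    have hfix : ∀ x ∈ Submonoid.closure {x | x ∈ gens}, ρ (conjAltHom c x) u = u := by
      intro x hx
      induction hx using Submonoid.closure_induction with
      | mem x hx => exact hu x hx
      | one => rw [map_one, map_one]; rfl
      | mul x y _ _ hx hy => rw [map_mul, end_mul, hy, hx]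
    have h1 : conjAlt c g * conjAlt c a = conjAlt c a * conjAltHom c (a⁻¹ * g * a) := by
      change conjAltHom c g * conjAltHom c a = conjAltHom c a * conjAltHom c (a⁻¹ * g * a)
      rw [← map_mul, ← map_mul]; congr 1; group
    rw [← end_mul, h1, end_mul, hfix _ (hnorm g hg)]
  let W : AddSubgroup V :=
    { carrier := {u | ∀ g ∈ gens, ρ (conjAlt c g) u = u}
      zero_mem' := fun g _ => map_zero _
      add_mem' := fun {x y} hx hy g hg => by rw [map_add, hx g hg, hy g hg]
      neg_mem' := fun {x} hx g hg => by rw [map_neg, hx g hg] }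
  have hWm : ∀ u : V, u ∈ W ↔ ∀ g ∈ gens, ρ (conjAlt c g) u = u := fun u => Iff.rfl
  intro w hw
  by_contra hw0
  have hwW : w ∈ W := fun g hg => by
    have := hw (g, 1) (List.mem_map.2 ⟨g, hg, rfl⟩)
    rwa [one_smul] at this
  let b := conjAlt c a
  have hbW : ∀ k : ℕ, ∀ u ∈ W, ρ (b ^ k) u ∈ W := by
    intro k
    induction k with
    | zero => intro u hu; rw [pow_zero, map_one]; exact hu
    | succ k ih => intro u hu; rw [pow_succ', end_mul]; exact hmem _ (ih u hu)
  have hbp : b ^ p = 1 := by
    change (conjAltHom c a) ^ p = 1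
    rw [← map_pow, ha, map_one]
  let H := Subgroup.zpowers b
  have hbz : ∀ x ∈ H, ∀ u ∈ W, ρ x u ∈ W := by
    intro x hx u hu
    obtain ⟨k, rfl⟩ := (isOfFinOrder_of_finite b).mem_powers_iff_mem_zpowers.2 hx
    exact hbW k u hu
  have hH : IsPGroup p ↥H := by
    intro x
    refine ⟨1, Subtype.ext ?_⟩
    obtain ⟨k, hk⟩ := x.2
    rw [SubgroupClass.coe_pow, pow_one, ← hk, ← zpow_natCast (b ^ k) p, ← zpow_mul, mul_comm, zpow_mul,
      zpow_natCast, hbp, one_zpow]
    rfl
  let act : MulAction ↥H ↥W :=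
    { smul := fun x u => ⟨ρ (x : alternatingGroup (Fin n)) (u : V), hbz x x.2 u u.2⟩
      one_smul := fun u => Subtype.ext (show ρ ((1 : ↥H) : alternatingGroup (Fin n)) (u : V) = (u : V) by
        rw [OneMemClass.coe_one, map_one]; rfl)
      mul_smul := fun x y u => Subtype.ext (end_mul ρ _ _ _) }
  have hdvd : p ∣ Nat.card ↥W := by
    have hne : (⟨w, hwW⟩ : ↥W) ≠ 0 := fun e => hw0 (congrArg Subtype.val e)
    have hord : addOrderOf (⟨w, hwW⟩ : ↥W) = p :=
      addOrderOf_eq_prime (Subtype.ext (by simp [hp])) hne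
    exact hord ▸ addOrderOf_dvd_natCard _
  have h0 : (0 : ↥W) ∈ MulAction.fixedPoints ↥H ↥W := fun x => Subtype.ext (map_zero _)
  obtain ⟨u, hu, hu0⟩ := hH.exists_fixed_point_of_prime_dvd_card_of_fixed_point ↥W hdvd h0
  refine hu0 (Subtype.ext ?_).symm
  refine h c (u : V) fun sl hsl => ?_
  obtain ⟨g, hg, rfl⟩ := List.mem_map.1 hsl
  rw [one_smul]
  rcases List.mem_cons.1 hg with rfl | hg
  · exact congrArg Subtype.val (hu ⟨b, Subgroup.mem_zpowers b⟩)
  · exact (hWm _).1 u.2 g hg

end CfsgLib.AltLift
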