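import Cfsg.Agent.AltLift.Checker

/-!
Soundness of the certificate checker.
-/

set_option autoImplicit false

namespace CfsgLib.AltLift

variable {n : ℕ} {V : Type*} [AddCommGroup V]

/-- An action of the alternating group on an additive group. -/
abbrev AltAction (n : ℕ) (V : Type*) [AddCommGroup V] := alternatingGroup (Fin n) →* AddMonoid.End V

/-- A pattern: elements with prescribed eigenvalues. -/
abbrev Pattern (n : ℕ) := List (alternatingGroup (Fin n) × ℕ)

/-- A pattern in coded form. -/
def Pattern.coded (pat : Pattern n) : List (ℕ × ℕ) := pat.map fun sl => (code (sl.1 : Equiv.Perm (Fin n)), sl.2)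

/-- Conjugation by an arbitrary permutation, as an automorphism of the alternating group. -/
def conjAlt (c : Equiv.Perm (Fin n)) (g : alternatingGroup (Fin n)) : alternatingGroup (Fin n) :=
  ⟨c * g * c⁻¹, Subgroup.Normal.conj_mem inferInstance _ g.2 c⟩

/-- The vector is an eigenvector of the conjugated pattern. -/
def IsEigen (ρ : AltAction n V) (pat : Pattern n) (c : Equiv.Perm (Fin n)) (w : V) : Prop :=
  ∀ sl ∈ pat, ρ (conjAlt c sl.1) w = sl.2 • w

/-- No non-zero eigenvectors of any conjugate of the pattern. -/
def NoEigen (ρ : AltAction n V) (pat : Pattern n) : Prop :=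
  ∀ (c : Equiv.Perm (Fin n)) (w : V), IsEigen ρ pat c w → w = 0

theorem end_nsmul (f : AddMonoid.End V) (x : ℕ) (v : V) : f (x • v) = x • f v :=
  map_nsmul (f : V →+ V) x v

theorem end_mul (ρ : AltAction n V) (g h : alternatingGroup (Fin n)) (v : V) : ρ (g * h) v = ρ g (ρ h v) := by
  rw [map_mul]; rfl

theorem digitsLt_spec (m c : ℕ) : ∀ N, digitsLt m c N = true → ∀ i, i < N → dig c i < m
  | 0, _, i, hi => absurd hi (Nat.not_lt_zero i)
  | N + 1, h, i, hi => by
      simp only [digitsLt, Bool.and_eq_true, Nat.blt_eq] at h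
      rcases Nat.lt_succ_iff_lt_or_eq.1 hi with h' | rfl
      · exact digitsLt_spec m c N h.1 i h'
      · exact h.2

theorem code_one : code (1 : Equiv.Perm (Fin n)) = ofFun n id :=
  ofFun_congr n _ _ fun i hi => by rw [natFun, dif_pos hi]; rfl

theorem exists_perm (hn : n ≤ 16) (c ci : ℕ) (h1 : comp n c ci = ofFun n id) (h2 : comp n ci c = ofFun n id)
    (hc : digitsLt n c n = true) (hci : digitsLt n ci n = true) :
    ∃ π : Equiv.Perm (Fin n), ∀ s : Equiv.Perm (Fin n), code (π * s * π⁻¹) = comp n c (comp n (code s) ci) := by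
  have hd : ∀ i, i < n → dig (ofFun n id) i = i := fun i hi => by
    rw [dig_ofFun n _ _ hi]; exact Nat.mod_eq_of_lt (lt_of_lt_of_le hi hn)
  have key : ∀ a b, comp n a b = ofFun n id → digitsLt n b n = true → digitsLt n a n = true →
      ∀ i, i < n → dig a (dig b i) = i := by
    intro a b hab hb ha i hi
    have h := congrArg (fun z => dig z i) hab
    simp only [comp] at h
    rw [hd i hi, dig_ofFun n _ _ hi] at h
    rwa [Nat.mod_eq_of_lt (lt_of_lt_of_le (digitsLt_spec n a n ha _ (digitsLt_spec n b n hb i hi)) hn)] at h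
  let π : Equiv.Perm (Fin n) :=
    { toFun := fun i => ⟨dig c i, digitsLt_spec n c n hc i i.2⟩
      invFun := fun i => ⟨dig ci i, digitsLt_spec n ci n hci i i.2⟩
      left_inv := fun i => Fin.ext (key ci c h2 hc hci i i.2)
      right_inv := fun i => Fin.ext (key c ci h1 hci hc i i.2) }
  refine ⟨π, fun s => ?_⟩
  refine ofFun_congr n _ _ fun i hi => ?_
  have hj := digitsLt_spec n ci n hci i hi
  rw [natFun, dif_pos hi]
  have e1 : dig (comp n (code s) ci) i = (s ⟨dig ci i, hj⟩ : ℕ) := by
    rw [comp, dig_ofFun n _ _ hi, dig_code hn s ⟨dig ci i, hj⟩]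
    exact Nat.mod_eq_of_lt (lt_of_lt_of_le (s ⟨dig ci i, hj⟩).2 hn)
  rw [e1]
  rfl

/-! ### The tables -/

theorem table_spec (hn : n ≤ 16) (t : Table) (gens : List (alternatingGroup (Fin n))) :
    ∀ N, t.valid n (gens.map fun g : alternatingGroup (Fin n) => code (g : Equiv.Perm (Fin n))) N = true →
      ∀ i, i < N → ∃ g : alternatingGroup (Fin n),
        t.code i = code (g : Equiv.Perm (Fin n)) ∧ g ∈ Submonoid.closure {x | x ∈ gens}
  | 0, _, i, hi => absurd hi (Nat.not_lt_zero i)
  | N + 1, h, i, hi => by
      rw [Table.valid, Bool.and_eq_true] at h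
      have ih := table_spec hn t gens N h.1
      rcases Nat.lt_succ_iff_lt_or_eq.1 hi with h' | rfl
      · exact ih i h'
      · have h2 := h.2
        cases i with
        | zero =>
            rw [Table.validAt] at h2
            refine ⟨1, ?_, one_mem _⟩
            rw [Nat.eq_of_beq_eq_true h2]
            exact code_one.symm
        | succ k =>
            obtain ⟨c, g, q, hget⟩ : ∃ c g q, t.get (k + 1) = (c, g, q) := ⟨_, _, _, rfl⟩
            rw [Table.validAt] at h2
            simp only [hget, Bool.and_eq_true, Nat.blt_eq] at h2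
            obtain ⟨hq, h3⟩ := h2
            rw [List.getElem?_map] at h3
            cases hs : gens[g]? with
            | none => rw [hs] at h3; simp at h3
            | some s =>
                rw [hs] at h3
                obtain ⟨x, hx, hxm⟩ := ih q hq
                refine ⟨s * x, ?_, mul_mem (Submonoid.subset_closure (List.mem_of_getElem? hs)) hxm⟩
                rw [Table.code, hget, Nat.eq_of_beq_eq_true h3, hx, Subgroup.coe_mul, code_mul hn]

/-! ### Evaluation -/

open Classical in
/-- The translate of a vector by the element with given code. -/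
noncomputable def vecOf (ρ : AltAction n V) (v : V) (y : ℕ) : V :=
  if h : ∃ g : alternatingGroup (Fin n), code (g : Equiv.Perm (Fin n)) = y then ρ h.choose v else 0

theorem vecOf_code (hn : n ≤ 16) (ρ : AltAction n V) (v : V) (g : alternatingGroup (Fin n)) :
    vecOf ρ v (code (g : Equiv.Perm (Fin n))) = ρ g v := by
  have h : ∃ g' : alternatingGroup (Fin n), code (g' : Equiv.Perm (Fin n)) = code (g : Equiv.Perm (Fin n)) :=
    ⟨g, rfl⟩
  rw [vecOf, dif_pos h, Subtype.ext (code_injective hn h.choose_spec)]

/-- The value of a combination of table elements. -/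
noncomputable def comb (ρ : AltAction n V) (v : V) (C : Cert) : List (ℕ × ℕ) → V
  | [] => 0
  | (x, j) :: a => x • vecOf ρ v (C.tab.code j) + comb ρ v C a

/-- Validity data of a certificate at a vector. -/
structure Ok (ρ : AltAction n V) (v : V) (C : Cert) : Prop where
  le : n ≤ 16
  fuel : C.size ≤ C.fuel
  tab : ∀ j, j < C.size → ∃ g : alternatingGroup (Fin n), C.tab.code j = code (g : Equiv.Perm (Fin n))
  rtab : ∀ r, r < C.rsize → ∃ g : alternatingGroup (Fin n),
    C.rtab.code r = code (g : Equiv.Perm (Fin n)) ∧ ρ g v = v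

section Eval

variable {ρ : AltAction n V} {v : V} {C : Cert}

/-- The value of an accumulator. -/
noncomputable def accVal (ρ : AltAction n V) (v : V) (C : Cert) (a : Acc) : V :=
  a.eval fun j => vecOf ρ v (C.tab.code j)

theorem accVal_add (a : Acc) {j : ℕ} (x : ℕ) (hj : j < C.fuel) :
    accVal ρ v C (a.add C.fuel j x) = accVal ρ v C a + x • vecOf ρ v (C.tab.code j) :=
  Acc.eval_add _ a j x _ hj

theorem addTranslate_spec (hC : Ok ρ v C) {g : alternatingGroup (Fin n)} {x : ℕ} {w : ℕ × ℕ}
    {o : Option Acc} {b : Acc} (h : addTranslate n C (code (g : Equiv.Perm (Fin n))) x w o = some b) :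
    ∃ a, o = some a ∧ accVal ρ v C b = accVal ρ v C a + x • ρ g v := by
  cases o with
  | none => simp [addTranslate] at h
  | some a =>
      simp only [addTranslate] at h
      cases hb : (w.1.blt C.size && w.2.blt C.rsize &&
          (code (g : Equiv.Perm (Fin n))).beq (comp n (C.tab.code w.1) (C.rtab.code w.2))) with
      | false => rw [hb] at h; simp at h
      | true =>
          rw [hb] at h
          simp only [cond_true, Option.some.injEq] at h
          simp only [Bool.and_eq_true, Nat.blt_eq] at hb
          obtain ⟨⟨hj, hr⟩, he⟩ := hb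
          refine ⟨a, rfl, ?_⟩
          rw [← h, accVal_add a x (lt_of_lt_of_le hj hC.fuel)]
          obtain ⟨gj, hgj⟩ := hC.tab w.1 hj
          obtain ⟨gr, hgr, hfix⟩ := hC.rtab w.2 hr
          have he' : g = gj * gr := by
            apply Subtype.ext
            apply code_injective hC.le
            rw [Nat.eq_of_beq_eq_true he, hgj, hgr, Subgroup.coe_mul, code_mul hC.le]
          rw [hgj, vecOf_code hC.le, he', end_mul, hfix]

theorem addShift_spec (hC : Ok ρ v C) (g : alternatingGroup (Fin n)) (x : ℕ) :
    ∀ (a ws : List (ℕ × ℕ)) (o : Option Acc) (b : Acc),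
      addShift n C (code (g : Equiv.Perm (Fin n))) x a ws o = some b →
      ∃ s, o = some s ∧ accVal ρ v C b = accVal ρ v C s + x • ρ g (comb ρ v C a)
  | [], [], o, b, h => ⟨b, h, by simp [comb, map_zero]⟩
  | [], _ :: _, o, b, h => by simp [addShift] at h
  | _ :: _, [], o, b, h => by simp [addShift] at h
  | (c, j) :: a, w :: ws, o, b, h => by
      simp only [addShift] at h
      cases hj : j.blt C.size with
      | false => rw [hj] at h; simp at h
      | true =>
          rw [hj] at h
          simp only [cond_true] at h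
          obtain ⟨gj, hgj⟩ := hC.tab j (Nat.le_of_ble_eq_true hj)
          obtain ⟨s1, hs1, he1⟩ := addShift_spec hC g x a ws _ b h
          rw [hgj, ← code_mul hC.le, ← Subgroup.coe_mul] at hs1
          obtain ⟨s, hs, he⟩ := addTranslate_spec hC hs1
          refine ⟨s, hs, ?_⟩
          simp only [comb, hgj, vecOf_code hC.le, map_add, end_nsmul, smul_add, ← mul_smul, ← end_mul, he1, he]
          abel

theorem addPlain_spec (hC : Ok ρ v C) (x : ℕ) :
    ∀ (a : List (ℕ × ℕ)) (o : Option Acc) (b : Acc), addPlain C x a o = some b →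
      ∃ s, o = some s ∧ accVal ρ v C b = accVal ρ v C s + x • comb ρ v C a
  | [], o, b, h => ⟨b, h, by simp [comb]⟩
  | (c, j) :: a, none, b, h => by simp [addPlain] at h
  | (c, j) :: a, some s, b, h => by
      simp only [addPlain] at h
      cases hj : j.blt C.size with
      | false => rw [hj] at h; simp at h
      | true =>
          rw [hj] at h
          simp only [cond_true] at h
          obtain ⟨s1, hs1, he1⟩ := addPlain_spec hC x a _ b h
          rw [Option.some.injEq] at hs1
          refine ⟨s, rfl, ?_⟩
          rw [he1, ← hs1, accVal_add s _ (lt_of_lt_of_le (Nat.le_of_ble_eq_true hj) hC.fuel)]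
          simp only [comb, smul_add, mul_smul]
          abel

theorem addItems_spec (hC : Ok ρ v C) (prev : List Line) (hprev : ∀ L ∈ prev, comb ρ v C L.terms = 0) :
    ∀ (its : List Item) (o : Option Acc) (b : Acc), addItems n C prev its o = some b →
      ∃ s, o = some s ∧ accVal ρ v C b = accVal ρ v C s
  | [], o, b, h => ⟨b, h, rfl⟩
  | it :: its, o, b, h => by
      simp only [addItems] at h
      cases hL : prev[it.line]? with
      | none => rw [hL] at h; simp at h
      | some L =>
          rw [hL] at h
          simp only at h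
          cases hb : (it.hj.blt C.size && it.hr.blt C.rsize) with
          | false => rw [hb] at h; simp at h
          | true =>
              rw [hb] at h
              simp only [cond_true] at h
              simp only [Bool.and_eq_true, Nat.blt_eq] at hb
              obtain ⟨gj, hgj⟩ := hC.tab _ hb.1
              obtain ⟨gr, hgr, -⟩ := hC.rtab _ hb.2
              obtain ⟨s1, hs1, he1⟩ := addItems_spec hC prev hprev its _ b h
              rw [hgj, hgr, ← code_mul hC.le, ← Subgroup.coe_mul] at hs1
              obtain ⟨s, hs, he⟩ := addShift_spec hC (gj * gr) _ _ _ _ s1 hs1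
              refine ⟨s, hs, ?_⟩
              rw [he1, he, hprev L (List.mem_of_getElem? hL), map_zero, smul_zero, add_zero]

theorem smul_pred {p : ℕ} (hp0 : 0 < p) (hp : ∀ u : V, p • u = 0) (m : ℕ) (u : V) :
    (p - m % p) • u = -(m • u) := by
  rw [eq_neg_iff_add_eq_zero, ← add_smul]
  have h1 := Nat.mod_add_div m p
  have h2 := Nat.mod_lt m hp0
  rw [show p - m % p + m = p * (1 + m / p) by rw [mul_add, mul_one]; omega, mul_smul, hp]

theorem pred_smul {p : ℕ} (hp0 : 0 < p) (hp : ∀ u : V, p • u = 0) (u : V) : (p - 1) • u = -u := by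
  rw [eq_neg_iff_add_eq_zero, ← succ_nsmul, Nat.sub_add_cancel hp0, hp]

theorem isNull_spec {p : ℕ} (hp : ∀ u : V, p • u = 0) {o : Option Acc} (h : isNull p o = true) :
    ∃ b, o = some b ∧ accVal ρ v C b = 0 := by
  cases o with
  | none => simp [isNull] at h
  | some b => exact ⟨b, rfl, Acc.eval_null p hp b _ h⟩

theorem accVal_zero : accVal ρ v C .zero = 0 := rfl

theorem vecOf_start (hC : Ok ρ v C) (h0 : C.tab.code 0 = ofFun n id) : vecOf ρ v (C.tab.code 0) = v := by
  rw [h0, ← code_one, ← Subgroup.coe_one (H := alternatingGroup (Fin n)), vecOf_code hC.le, map_one]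
  rfl

theorem checkSteps_spec {p : ℕ} (hp0 : 0 < p) (hp : ∀ u : V, p • u = 0) (hC : Ok ρ v C) (prev : List Line)
    (hprev : ∀ L ∈ prev, comb ρ v C L.terms = 0) (a : List (ℕ × ℕ)) (c ci : ℕ) (π : Equiv.Perm (Fin n))
    (hπ : ∀ s : Equiv.Perm (Fin n), code (π * s * π⁻¹) = comp n c (comp n (code s) ci)) :
    ∀ (pat : Pattern n) (sts : List Step), checkSteps p n C prev a c ci pat.coded sts = true →
      IsEigen ρ pat π (comb ρ v C a)
  | [], _, _ => fun sl hsl => by simp at hsl
  | _ :: _, [], h => by simp [Pattern.coded, checkSteps] at h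
  | sl :: pat, st :: sts, h => by
      simp only [Pattern.coded, List.map_cons, checkSteps, Bool.and_eq_true] at h
      intro sl' hsl'
      rcases List.mem_cons.1 hsl' with rfl | hsl'
      · obtain ⟨b, hb, hb0⟩ := isNull_spec (ρ := ρ) (v := v) (C := C) hp h.1
        obtain ⟨s1, hs1, he1⟩ := addItems_spec hC prev hprev _ _ b hb
        obtain ⟨s2, hs2, he2⟩ := addPlain_spec hC _ _ _ s1 hs1
        have hcode : comp n c (comp n (code (sl'.1 : Equiv.Perm (Fin n))) ci) =
            code ((conjAlt π sl'.1 : alternatingGroup (Fin n)) : Equiv.Perm (Fin n)) := (hπ _).symm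
        simp only [hcode] at hs2
        obtain ⟨s3, hs3, he3⟩ := addShift_spec hC _ _ _ _ _ s2 hs2
        rw [Option.some.injEq] at hs3
        rw [he1, he2, he3, ← hs3, accVal_zero, zero_add, one_smul, smul_pred hp0 hp] at hb0
        exact sub_eq_zero.1 (by rw [sub_eq_add_neg]; exact hb0)
      · exact checkSteps_spec hp0 hp hC prev hprev a c ci π hπ pat sts h.2 sl' hsl'

theorem checkLine_spec {p : ℕ} (hp0 : 0 < p) (hp : ∀ u : V, p • u = 0) (hC : Ok ρ v C)
    (h0 : C.tab.code 0 = ofFun n id) (hs : 0 < C.size) (pats : List (Pattern n))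
    (hforb : ∀ pat ∈ pats, NoEigen ρ pat) (extra : Pattern n) (hextra : ∀ sl ∈ extra, ρ sl.1 v = sl.2 • v)
    (prev : List Line) (hprev : ∀ L ∈ prev, comb ρ v C L.terms = 0) (L : Line)
    (h : checkLine p n C (pats.map Pattern.coded) extra.coded prev L = true) : comb ρ v C L.terms = 0 := by
  cases L with
  | forb k c ci a steps =>
      simp only [checkLine, List.getElem?_map] at h
      cases hk : pats[k]? with
      | none => rw [hk] at h; simp at h
      | some pat =>
          rw [hk] at h
          simp only [Option.map_some, Bool.and_eq_true] at h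
          obtain ⟨⟨⟨⟨h1, h2⟩, h3⟩, h4⟩, h5⟩ := h
          obtain ⟨π, hπ⟩ := exists_perm hC.le c ci (Nat.eq_of_beq_eq_true h1) (Nat.eq_of_beq_eq_true h2) h3 h4
          exact hforb pat (List.mem_of_getElem? hk) π _
            (checkSteps_spec hp0 hp hC prev hprev a c ci π hπ pat steps h5)
  | init i a wit =>
      simp only [checkLine, Pattern.coded, List.getElem?_map] at h
      cases hi : extra[i]? with
      | none => rw [hi] at h; simp at h
      | some sl =>
          rw [hi] at h
          simp only [Option.map_some] at h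
          obtain ⟨b, hb, hb0⟩ := isNull_spec (ρ := ρ) (v := v) (C := C) hp h
          obtain ⟨s1, hs1, he1⟩ := addPlain_spec hC _ _ _ b hb
          obtain ⟨s2, hs2, he2⟩ := addTranslate_spec hC hs1
          rw [Option.some.injEq] at hs2
          rw [he1, he2, ← hs2, accVal_add _ _ (lt_of_lt_of_le hs hC.fuel), accVal_zero, zero_add,
            vecOf_start hC h0, smul_pred hp0 hp, one_smul, pred_smul hp0 hp,
            hextra sl (List.mem_of_getElem? hi), neg_add_cancel, zero_add, neg_eq_zero] at hb0
          exact hb0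

theorem checkLines_spec {p : ℕ} (hp0 : 0 < p) (hp : ∀ u : V, p • u = 0) (hC : Ok ρ v C)
    (h0 : C.tab.code 0 = ofFun n id) (hs : 0 < C.size) (pats : List (Pattern n))
    (hforb : ∀ pat ∈ pats, NoEigen ρ pat) (extra : Pattern n) (hextra : ∀ sl ∈ extra, ρ sl.1 v = sl.2 • v) :
    ∀ (Ls prev : List Line), (∀ L ∈ prev, comb ρ v C L.terms = 0) →
      checkLines p n C (pats.map Pattern.coded) extra.coded prev Ls = true →
      ∀ L ∈ Ls, comb ρ v C L.terms = 0
  | [], _, _, _ => fun L hL => by simp at hL
  | L :: Ls, prev, hprev, h => by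
      rw [checkLines, Bool.and_eq_true] at h
      have hL := checkLine_spec hp0 hp hC h0 hs pats hforb extra hextra prev hprev L h.1
      intro M hM
      rcases List.mem_cons.1 hM with rfl | hM
      · exact hL
      · refine checkLines_spec hp0 hp hC h0 hs pats hforb extra hextra Ls (prev ++ [L]) ?_ h.2 M hM
        intro M' hM'
        rcases List.mem_append.1 hM' with hM' | hM'
        · exact hprev M' hM'
        · rw [List.mem_singleton.1 hM']; exact hL

end Eval

/-- Conjugation by a fixed permutation as an endomorphism of the alternating group. -/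
def conjAltHom (c : Equiv.Perm (Fin n)) : alternatingGroup (Fin n) →* alternatingGroup (Fin n) where
  toFun := conjAlt c
  map_one' := Subtype.ext (by simp [conjAlt])
  map_mul' g h := Subtype.ext (by simp [conjAlt, mul_assoc])

theorem conjAlt_conjAlt (c d : Equiv.Perm (Fin n)) (g : alternatingGroup (Fin n)) :
    conjAlt c (conjAlt d g) = conjAlt (c * d) g :=
  Subtype.ext (by simp [conjAlt, mul_assoc])

/-- Soundness of the checker. -/
theorem Cert.sound {p : ℕ} (hp0 : 0 < p) (C : Cert) (hgens rgens : List (alternatingGroup (Fin n)))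
    (pats : List (Pattern n)) (extra : Pattern n)
    (hcheck : C.check p n (hgens.map fun g : alternatingGroup (Fin n) => code (g : Equiv.Perm (Fin n)))
      (rgens.map fun g : alternatingGroup (Fin n) => code (g : Equiv.Perm (Fin n)))
      (pats.map Pattern.coded) extra.coded = true)
    (ρ : AltAction n V) (hp : ∀ u : V, p • u = 0) (hforb : ∀ pat ∈ pats, NoEigen ρ pat) :
    NoEigen ρ (rgens.map (fun g => (g, 1)) ++ extra) := by
  simp only [Cert.check, Bool.and_eq_true, Nat.blt_eq] at hcheck
  obtain ⟨⟨⟨⟨⟨⟨⟨hn, hs⟩, hrs⟩, hfuel⟩, htab⟩, hrtab⟩, hlines⟩, hfin⟩ := hcheck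
  have hn' : n ≤ 16 := Nat.le_of_ble_eq_true hn
  have hfuel' : C.size ≤ C.fuel := Nat.le_of_ble_eq_true hfuel
  intro c v hv
  let σ : AltAction n V := ρ.comp (conjAltHom c)
  have hσforb : ∀ pat ∈ pats, NoEigen σ pat := by
    intro pat hpat d w hw
    refine hforb pat hpat (c * d) w fun sl hsl => ?_
    rw [← conjAlt_conjAlt]
    exact hw sl hsl
  have hfix : ∀ g ∈ Submonoid.closure {x | x ∈ rgens}, σ g v = v := by
    intro g hg
    induction hg using Submonoid.closure_induction with
    | mem x hx =>
        have h := hv (x, 1) (List.mem_append_left _ (List.mem_map.2 ⟨x, hx, rfl⟩))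
        rwa [one_smul] at h
    | one => rw [map_one]; rfl
    | mul x y _ _ hx hy => rw [end_mul, hy, hx]
  have hextra : ∀ sl ∈ extra, σ sl.1 v = sl.2 • v := fun sl hsl => hv sl (List.mem_append_right _ hsl)
  have hC : Ok σ v C :=
    { le := hn'
      fuel := hfuel'
      tab := fun j hj => (table_spec hn' C.tab hgens C.size htab j hj).imp fun g hg => hg.1
      rtab := fun r hr => (table_spec hn' C.rtab rgens C.rsize hrtab r hr).imp
        fun g hg => ⟨hg.1, hfix g hg.2⟩ }
  have h0 : C.tab.code 0 = ofFun n id := by
    have key : ∀ N, C.tab.valid n (hgens.map fun g : alternatingGroup (Fin n) => code (g : Equiv.Perm (Fin n)))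
        (N + 1) = true → C.tab.code 0 = ofFun n id := by
      intro N
      induction N with
      | zero =>
          intro h
          simp only [Table.valid, Table.validAt, Bool.true_and] at h
          exact Nat.eq_of_beq_eq_true h
      | succ m ih =>
          intro h
          rw [Table.valid, Bool.and_eq_true] at h
          exact ih h.1
    exact key (C.size - 1) (by rw [Nat.sub_add_cancel hs]; exact htab)
  have hall := checkLines_spec hp0 hp hC h0 hs pats hσforb extra hextra C.lines [] (by simp) hlines
  obtain ⟨b, hb, hb0⟩ := isNull_spec (ρ := σ) (v := v) (C := C) hp hfin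
  obtain ⟨s, hs', he⟩ := addItems_spec hC C.lines hall _ _ b hb
  rw [Option.some.injEq] at hs'
  rw [he, ← hs', accVal_add _ _ (lt_of_lt_of_le hs hfuel'), accVal_zero, zero_add, vecOf_start hC h0,
    pred_smul hp0 hp, neg_eq_zero] at hb0
  exact hb0

end CfsgLib.AltLift
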